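import Cfsg.Agent.Lib.FusionSystem.Inter.Fuse
import Cfsg.Agent.Lib.FusionSystem.Inter.Dichotomy
import Cfsg.Agent.Lib.FusionP3.Tate
import Cfsg.Agent.Lib.FusionP3.Prime.PPower

/-!
A perfect system centralising a subgroup `X` and the centraliser of `X` in a strongly closed subgroup
centralises that strongly closed subgroup.
-/

set_option autoImplicit false
set_option linter.style.haveILetI false
set_option linter.unusedSectionVars false

namespace Cfsg.Agent.Lib.FS.ES

open Cfsg Cfsg.FusionSystem Cfsg.Agent.Lib Cfsg.Agent.Lib.FS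
open Cfsg.Agent.Lib.FS.NormalCentralizer (Fixes exists_pow_prime_to mapsTo_sup)
open Cfsg.Agent.Lib.FS.CentralLift (Restr congr_apply_map)
open Cfsg.Agent.Lib.FS.Inter (exists_aut exists_restr restr_apply moveSub fixSub)

variable {Ω : Type*} [Group Ω] {S A : Subgroup Ω} [Finite S] {p : ℕ} [hp : Fact p.Prime] {F : FusionSystem S}

/-- The coprime product lemma: an automorphism of order prime to `p` of a finite `p`-group fixing `X` and the
centraliser of `X` in an invariant normal subgroup `B` fixes `B`. -/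
theorem fix_of_fix_centralizer {H : Type*} [Group H] [Finite H] (hH : IsPGroup p H) {X B : Subgroup H} [B.Normal]
    {e : MulAut H} (hord : ¬ p ∣ orderOf e) (hB : ∀ g ∈ B, e g ∈ B) (hX : ∀ x ∈ X, e x = x)
    (hC : ∀ g ∈ B, (∀ x ∈ X, x * g = g * x) → e g = g) {g : H} (hg : g ∈ B) : e g = g := by
  haveI := hH.isNilpotent
  suffices key : ∀ n : ℕ, ∀ g ∈ B, g ∈ Subgroup.upperCentralSeries H n → e g = g by
    obtain ⟨n, hn⟩ := Group.IsNilpotent.nilpotent (G := H)
    exact key n g hg (by rw [hn]; trivial)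
  intro n
  induction n with
  | zero =>
    intro g _ hg
    rw [Subgroup.upperCentralSeries_zero, Subgroup.mem_bot] at hg
    rw [hg, map_one]
  | succ n ih =>
    intro g hgB hg
    have hcom : ∀ x ∈ X, e (g * x * g⁻¹ * x⁻¹) = g * x * g⁻¹ * x⁻¹ := fun x _ => by
      refine ih _ ?_ ((Subgroup.mem_upperCentralSeries_succ_iff).1 hg x)
      have := B.mul_mem hgB ((inferInstance : B.Normal).conj_mem _ (B.inv_mem hgB) x)
      simpa [mul_assoc] using this
    set z := g⁻¹ * e g with hz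
    have hzB : z ∈ B := B.mul_mem (B.inv_mem hgB) (hB g hgB)
    have hzfix : e z = z := by
      refine hC z hzB fun x hx => ?_
      have h1 := hcom x hx
      rw [map_mul, map_mul, map_mul, map_inv, map_inv, hX x hx, mul_left_inj] at h1
      rw [hz]
      calc x * (g⁻¹ * e g) = g⁻¹ * (g * x * g⁻¹) * e g := by group
        _ = g⁻¹ * (e g * x * (e g)⁻¹) * e g := by rw [h1]
        _ = g⁻¹ * e g * x := by group
    have hpow : ∀ i : ℕ, (e ^ i) g = g * z ^ i := by
      intro i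
      induction i with
      | zero => simp
      | succ i ih' =>
        rw [pow_succ', MulAut.mul_apply, ih', map_mul, map_pow, hzfix, pow_succ' z, ← mul_assoc,
          show g * z = e g from mul_inv_cancel_left _ _]
    have h1 : z ^ orderOf e = 1 := by
      have := hpow (orderOf e)
      rw [pow_orderOf_eq_one] at this
      exact mul_left_cancel (a := g) (by rw [mul_one]; exact this.symm)
    obtain ⟨k, hk⟩ := hH z
    have h2 : z = 1 := orderOf_eq_one_iff.1 (Nat.eq_one_of_dvd_coprimes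
      (Nat.Coprime.pow_left k ((hp.out.coprime_iff_not_dvd).2 hord))
      (orderOf_dvd_of_pow_eq_one hk) (orderOf_dvd_of_pow_eq_one h1))
    have h3 : e g = g * z := by rw [hz, mul_inv_cancel_left]
    rw [h3, h2, mul_one]

/-- The same statement inside the ambient group. -/
theorem fix_inf_of_fix_centralizer (hS : IsPGroup p S) (hA : F.StronglyClosed A) {D X : Subgroup Ω} (hD : D ≤ S)
    (hXD : X ≤ D) {e : MulAut D} (he : e ∈ F.autGroup D) (hord : ¬ p ∣ orderOf e)
    (hX : ∀ x : D, (x : Ω) ∈ X → e x = x)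
    (hC : ∀ x : D, (x : Ω) ∈ centralizerIn A X → e x = x) {x : D} (hx : (x : Ω) ∈ A) : e x = x := by
  haveI := finite_sub hD
  haveI : (A.subgroupOf D).Normal := ⟨fun n hn g => Subgroup.mem_subgroupOf.2
    (conj_mem_of_normalizer (stronglyClosed_le_normalizer hA (hD g.2)) (Subgroup.mem_subgroupOf.1 hn))⟩
  refine fix_of_fix_centralizer (isPGroup_of_le hS hD) (X := X.subgroupOf D) (B := A.subgroupOf D) hord
    (fun g hg => Subgroup.mem_subgroupOf.2
      ((autGroup_mem_iff_of_stronglyClosed hA hD he g).1 (Subgroup.mem_subgroupOf.1 hg)))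
    (fun y hy => hX y (Subgroup.mem_subgroupOf.1 hy))
    (fun g hg hcomm => hC g (mem_centralizerIn.2 ⟨Subgroup.mem_subgroupOf.1 hg, fun y hy => ?_⟩))
    (Subgroup.mem_subgroupOf.2 hx)
  exact congrArg Subtype.val (hcomm ⟨y, hXD hy⟩ (Subgroup.mem_subgroupOf.2 hy))

/-- `X` has the largest centraliser in `A` within its class. -/
def CentMax (F : FusionSystem S) (A X : Subgroup Ω) : Prop :=
  ∀ X' : Subgroup Ω, F.IsConj X X' → Nat.card (centralizerIn A X') ≤ Nat.card (centralizerIn A X)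

theorem centMax_of_fullyNormalized (hS : IsPGroup p S) (hF : F.IsSaturated p) (hA : F.StronglyClosed A)
    {X : Subgroup Ω} (hX : F.IsFullyNormalized X) : CentMax F A X := by
  intro X' hc
  haveI := finite_sub hA.1
  obtain ⟨η, hη, -, hηX⟩ := exists_normalizer_map hS hF hX (isConj_symm hc)
  have hsub : centralizerIn A X' ≤ normalizerIn S X' := fun c hc' =>
    centralizerIn_le_normalizerIn X' ⟨hA.1 hc'.1, hc'.2⟩
  obtain ⟨θ, hθ, hθe⟩ := exists_restrict hη hsub
  haveI := finite_sub (centralizerIn_le (S := A) X)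
  refine card_le_of_hom hθ fun c => mem_centralizerIn.2 ⟨stronglyClosed_apply_mem hA hθ c.2.1, fun y hy => ?_⟩
  obtain ⟨x, hx, rfl⟩ := hηX.ge hy
  rw [hθe, ← map_mul, ← map_mul]
  exact congrArg η (Subtype.ext (c.2.2 x hx))

/-- One step of the climb. -/
theorem climb_step (hS : IsPGroup p S) (hF : F.IsSaturated p) (hA : F.StronglyClosed A) {X P : Subgroup Ω}
    (hmax : CentMax F A X) (hP : P ≤ S) (hXP : X ≤ P) (hCP : centralizerIn A X ≤ P) {b : MulAut P}
    (hb : b ∈ F.autGroup P) (hord : ¬ p ∣ orderOf b) (hbX : ∀ x : P, (x : Ω) ∈ X → b x = x)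
    (hbA : ∀ x : P, (x : Ω) ∈ A → b x = x) :
    ∃ b₁ ∈ F.autGroup (P ⊔ normalizerIn A P), ¬ p ∣ orderOf b₁ ∧ Restr le_sup_left b₁ b ∧
      ∀ x : ↥(P ⊔ normalizerIn A P), (x : Ω) ∈ A → b₁ x = x := by
  have hAS := hA.1
  haveI := finite_sub hP
  haveI := finite_sub hAS
  haveI := FusionP3.GT.finite_mulAut ↥P
  set Pn := P ⊔ normalizerIn A P with hPn
  have hPnS : Pn ≤ S := sup_le hP ((normalizerIn_le _).trans hAS)
  have hPnN : Pn ≤ Subgroup.normalizer (P : Set Ω) := sup_le Subgroup.le_normalizer fun g hg => hg.2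
  haveI := finite_sub hPnS
  -- a `p`-subgroup containing the conjugations and normalised by `b`
  set K := moveSub P A ⊓ fixSub P A ⊓ F.autGroup P with hK
  have hinv : ∀ g ∈ F.autGroup P, ∀ x : P, (x : Ω) ∈ A ↔ ((g x : P) : Ω) ∈ A := fun g hg x =>
    autGroup_mem_iff_of_stronglyClosed hA hP hg x
  have hKn : ∀ g ∈ F.autGroup P, ∀ k ∈ K, g * k * g⁻¹ ∈ K := fun g hg k hk =>
    ⟨⟨layerStab_conj_mem (fun _ => hinv g hg) (fun _ x => ⟨fun _ => (g x).2, fun _ => x.2⟩) hk.1.1,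
      Inter.fixSub_conj hk.1.2 fun x hx => (hinv _ ((F.autGroup P).inv_mem hg) x).1 hx⟩, mul_mem (mul_mem hg hk.2) ((F.autGroup P).inv_mem hg)⟩
  set V := autInducedBy Pn P with hV
  have hVF : V ≤ F.autGroup P := (Inter.autInducedBy_mono hPnS).trans (autInducedBy_le_autGroup F hP)
  set U := K ⊔ V with hU
  have hUF : U ≤ F.autGroup P := sup_le inf_le_right hVF
  have hUn : V ≤ Subgroup.normalizer (K : Set (MulAut P)) := fun v hv =>
    mem_normalizer_of_conj_mem fun k hk => hKn v (hVF hv) k hk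
  have hUp : IsPGroup p U := by
    have h1 : IsPGroup p K := (Inter.isPGroup_fix_move (R := A) hS hP).to_le inf_le_left
    have h2 : IsPGroup p V := (isPGroup_autInducedBy hS P).to_le (Inter.autInducedBy_mono hPnS)
    rw [hU, sup_comm]
    exact h2.to_sup_of_normal_right' h1 hUn
  have hbU : ∀ u ∈ U, b * u * b⁻¹ ∈ U := by
    have hconj : ∀ v ∈ V, b * v * b⁻¹ ∈ U := by
      intro v hv
      obtain ⟨g, hg, he⟩ := mem_autInducedBy.1 hv
      have hPn' : Pn ≤ Subgroup.normalizer (P : Set Ω) := hPnN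
      obtain ⟨x, hx, a, ha, rfl⟩ := Set.mem_mul.1 ((Subgroup.coe_mul_of_right_le_normalizer_left P
        (normalizerIn A P) fun g hg => hg.2).le hg)
      set cx := P.normalizerMonoidHom ⟨x, Subgroup.le_normalizer hx⟩ with hcx
      set ca := P.normalizerMonoidHom ⟨a, ha.2⟩ with hca
      have hcaV : ca ∈ V := mem_autInducedBy.2 ⟨a, Subgroup.mem_sup_right ha, fun _ => rfl⟩
      have hveq : v = cx * ca := MulEquiv.ext fun y => Subtype.ext (by
        rw [he, MulAut.mul_apply, hcx, normalizerMonoidHom_coe, hca, normalizerMonoidHom_coe]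
        group)
      have h1 : b * cx * b⁻¹ ∈ V := by
        refine mem_autInducedBy.2 ⟨(b ⟨x, hx⟩ : P), Subgroup.mem_sup_left (b ⟨x, hx⟩).2, fun y => ?_⟩
        obtain ⟨w, rfl⟩ := b.surjective y
        rw [MulAut.mul_apply, MulAut.mul_apply, MulAut.inv_apply_self,
          show cx w = ⟨x, hx⟩ * w * ⟨x, hx⟩⁻¹ from Subtype.ext rfl, map_mul, map_mul, map_inv]
        rfl
      have hmove : ca ∈ moveSub P A := Inter.mem_moveSub (hinv _ (hVF hcaV)) fun y => by
        rw [hca, normalizerMonoidHom_coe, ← mul_assoc, ← mul_assoc]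
        exact A.mul_mem (conj_inv_mem_of_normalizer (stronglyClosed_le_normalizer hA (hP y.2)) ha.1)
          (A.inv_mem ha.1)
      have h2 : b * ca * b⁻¹ * ca⁻¹ ∈ K := by
        refine ⟨⟨mul_mem (layerStab_conj_mem (fun _ => hinv b hb)
          (fun _ x => ⟨fun _ => (b x).2, fun _ => x.2⟩) hmove) ((moveSub P A).inv_mem hmove), fun y hy => ?_⟩,
          mul_mem (mul_mem (mul_mem hb (hVF hcaV)) ((F.autGroup P).inv_mem hb)) ((F.autGroup P).inv_mem (hVF hcaV))⟩
        have hy' : ((ca⁻¹ y : P) : Ω) ∈ A := (hinv _ ((F.autGroup P).inv_mem (hVF hcaV)) y).1 hy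
        have hfix : b⁻¹ (ca⁻¹ y) = ca⁻¹ y := by
          apply b.injective
          rw [MulAut.apply_inv_self, hbA _ hy']
        rw [MulAut.mul_apply, MulAut.mul_apply, MulAut.mul_apply, hfix, MulAut.apply_inv_self, hbA _ hy]
      have h3 := mul_mem (Subgroup.mem_sup_right h1 : _ ∈ U)
        (mul_mem (Subgroup.mem_sup_left h2 : _ ∈ U) (Subgroup.mem_sup_right hcaV : _ ∈ U))
      rw [hveq]
      convert h3 using 1
      group
    have hle : U ≤ U.comap (MulAut.conj b).toMonoidHom :=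
      sup_le (fun k hk => Subgroup.mem_sup_left (hKn b hb k hk)) hconj
    exact hle
  -- move to a fully normalised subgroup
  obtain ⟨Q, hPQ, hQn⟩ := exists_isFullyNormalized F hP
  obtain ⟨φ₀, hφ₀, hφ₀r⟩ := hPQ
  have hQS := hQn.1
  haveI := finite_sub hQS
  haveI := FusionP3.GT.finite_mulAut ↥Q
  obtain ⟨Sy, hSy⟩ := (fullyAutomized_of_fullyNormalized hS hF hQn).2
  obtain ⟨m, hm, hmU⟩ := exists_conj_le_sylow Sy hSy
    (T := U.map (MulAut.congr (homEquiv hφ₀ hφ₀r)).toMonoidHom)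
    (by rintro _ ⟨u, hu, rfl⟩; exact congr_mem_autGroup hφ₀ hφ₀r (hUF hu)) (hUp.map _)
  obtain ⟨φ, hφ, hφe⟩ := exists_comp hφ₀ ((mem_autGroup hQS).1 hm) fun x => hφ₀r.le ⟨x, rfl⟩
  have hφr : φ.range = Q := range_eq_of_mem hφ (fun x => by rw [hφe]; exact SetLike.coe_mem _)
    (by rw [← hφ₀r, card_range hφ₀])
  set ι := homEquiv hφ hφr with hι
  have hιU : ∀ u ∈ U, MulAut.congr ι u ∈ autInducedBy S Q := by
    intro u hu
    have h1 := hmU _ ⟨u, hu, rfl⟩
    convert h1 using 1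
    refine MulEquiv.ext fun y => Subtype.ext ?_
    obtain ⟨x, rfl⟩ := ι.surjective y
    rw [hι, congr_apply_map, show homEquiv hφ hφr x = m (homEquiv hφ₀ hφ₀r x) from
      Subtype.ext (by rw [homEquiv_coe, hφe]; rfl)]
    simp only [MulEquiv.coe_toMonoidHom, MulAut.mul_apply, MulAut.inv_apply_self]
    rw [hφe]
    show ((m _ : Q) : Ω) = _
    refine congrArg (fun z => ((m z : Q) : Ω)) (Subtype.ext ?_)
    rw [congr_apply_map]
  set b₂ := MulAut.congr ι b with hb₂
  have hb₂F : b₂ ∈ F.autGroup Q := congr_mem_autGroup hφ hφr hb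
  set W := U.map (MulAut.congr ι).toMonoidHom with hW
  have hWS : W ≤ autInducedBy S Q := by rintro _ ⟨u, hu, rfl⟩; exact hιU u hu
  have hext : Pn ≤ extender S P φ := by
    intro g hg
    have hcgV : P.normalizerMonoidHom ⟨g, hPnN hg⟩ ∈ V := mem_autInducedBy.2 ⟨g, hg, fun _ => rfl⟩
    obtain ⟨h, hh, hhe⟩ := mem_autInducedBy.1 (hιU _ (Subgroup.mem_sup_right hcgV : _ ∈ U))
    refine mem_extender_of ⟨hPnS hg, hPnN hg⟩ hh fun x hx => ?_
    have := hhe (ι x)
    rw [hι, congr_apply_map, homEquiv_coe] at this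
    exact this
  obtain ⟨ν₀, hν₀, hν₀e⟩ := (receptive_of_fullyNormalized hS hF hQn).2 P φ hφ hφr
  obtain ⟨ν, hν, hνe⟩ := exists_restrict hν₀ hext
  have hνP : ∀ x : P, ν (Subgroup.inclusion le_sup_left x) = φ x := fun x => by
    rw [hνe]; exact hν₀e x x.2 _
  set D := FusionP3.Induction.preimageAut S Q W with hD
  have hνD : ∀ g : Pn, ν g ∈ D := by
    intro g
    have hcgV : P.normalizerMonoidHom ⟨g, hPnN g.2⟩ ∈ V := mem_autInducedBy.2 ⟨g, g.2, fun _ => rfl⟩
    have hkey : ∀ y : Q, ((MulAut.congr ι (P.normalizerMonoidHom ⟨g, hPnN g.2⟩) y : Q) : Ω) =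
        ν g * y * (ν g)⁻¹ := by
      intro y
      obtain ⟨x, rfl⟩ := ι.surjective y
      rw [hι, congr_apply_map, homEquiv_coe, ← hνP x, ← map_inv, ← map_mul, ← map_mul, ← hνP]
      rfl
    refine ⟨⟨apply_mem hν g, mem_normalizer_of_conj_mem fun y hy => ?_⟩, _,
      ⟨_, (Subgroup.mem_sup_right hcgV : _ ∈ U), rfl⟩, hkey⟩
    rw [← hkey ⟨y, hy⟩]
    exact SetLike.coe_mem _
  have hQD : Q ≤ D := fun y hy => by
    obtain ⟨x, rfl⟩ := hφr.ge hy
    rw [← hνP]; exact hνD _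
  have hb₂W : ∀ w ∈ W, b₂ * w * b₂⁻¹ ∈ W := by
    rintro _ ⟨u, hu, rfl⟩
    exact ⟨b * u * b⁻¹, hbU u hu, by rw [map_mul, map_mul, map_inv]; rfl⟩
  obtain ⟨ψ, hψ, hψe⟩ := FusionP3.Induction.exists_extend_preimage
    (receptive_of_fullyNormalized hS hF hQn) hWS hb₂F hb₂W
  have hDS : D ≤ S := src_le hψ
  haveI := finite_sub hDS
  haveI := FusionP3.GT.finite_mulAut ↥D
  obtain ⟨a, ha, hae⟩ := exists_aut hψ fun g => by
    obtain ⟨hgN, w, hw, hwg⟩ := g.2
    have hkey : ∀ y : Q, ((((b₂ * w * b₂⁻¹) y : Q)) : Ω) = ψ g * y * (ψ g)⁻¹ := by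
      intro y
      obtain ⟨x, rfl⟩ := b₂.surjective y
      have hx : (g : Ω) * x * (g : Ω)⁻¹ ∈ Q := conj_mem_of_normalizer hgN.2 x.2
      rw [MulAut.mul_apply, MulAut.mul_apply, MulAut.inv_apply_self,
        show w x = ⟨_, hx⟩ from Subtype.ext (hwg x), ← hψe _ hx (hQD hx), ← hψe _ x.2 (hQD x.2), ← map_inv,
        ← map_mul, ← map_mul]
      rfl
    refine ⟨⟨apply_mem hψ g, mem_normalizer_of_conj_mem fun y hy => ?_⟩, _, hb₂W w hw, hkey⟩
    rw [← hkey ⟨y, hy⟩]
    exact SetLike.coe_mem _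
  have hab : Restr hQD a b₂ := fun y => (hae _).trans (hψe _ y.2 _)
  obtain ⟨n, hn, hna⟩ := exists_pow_prime_to (p := p) (x := a) (b := b₂) (by rwa [hb₂, MulEquiv.orderOf_eq])
  set e := a ^ n with he
  have heF : e ∈ F.autGroup D := pow_mem ha n
  have heb : Restr hQD e b₂ := by
    have := hab.pow n
    rwa [hn] at this
  -- `e` fixes `D ∩ A`
  obtain ⟨φX, hφX, hφXe⟩ := exists_restrict hφ hXP
  obtain ⟨φC, hφC, hφCe⟩ := exists_restrict hφ hCP
  haveI := finite_sub (centralizerIn_le (S := A) φX.range)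
  have hφCr : φC.range = centralizerIn A φX.range := by
    refine range_eq_of_mem hφC (fun c => mem_centralizerIn.2 ⟨stronglyClosed_apply_mem hA hφC c.2.1, ?_⟩)
      (hmax _ ⟨φX, hφX, rfl⟩)
    rintro _ ⟨x, rfl⟩
    rw [hφXe, hφCe, ← map_mul, ← map_mul]
    exact congrArg φ (Subtype.ext ((mem_centralizerIn.1 c.2).2 x x.2))
  have hXQ : φX.range ≤ D := fun y ⟨x, hx⟩ => hQD (hφr.le ⟨⟨x, hXP x.2⟩, (hφXe x).symm.trans hx⟩)
  have hfixval : ∀ (x : P) (hd : φ x ∈ D), b x = x → e ⟨φ x, hd⟩ = ⟨φ x, hd⟩ := fun x hd hbx => by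
    refine Subtype.ext ((restr_apply heb (x := ⟨φ x, hd⟩) (hφr.le ⟨x, rfl⟩)).trans ?_)
    rw [hb₂, show (⟨φ x, hφr.le ⟨x, rfl⟩⟩ : Q) = ι x from rfl, hι, congr_apply_map, hbx]
  have hefix : ∀ y : D, (y : Ω) ∈ A → e y = y := by
    intro y hy
    refine fix_inf_of_fix_centralizer hS hA hDS hXQ heF hna ?_ ?_ hy
    · rintro ⟨_, hd⟩ ⟨x, rfl⟩
      have hx := hfixval ⟨x, hXP x.2⟩ ((hφXe x) ▸ hd) (hbX _ x.2)
      refine ((congrArg e (Subtype.ext (hφXe x))).trans hx).trans (Subtype.ext (hφXe x).symm)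
    · rintro ⟨z, hd⟩ hz
      obtain ⟨c, rfl⟩ := hφCr.ge hz
      have hx := hfixval ⟨c, hCP c.2⟩ ((hφCe c) ▸ hd) (hbA _ c.2.1)
      refine ((congrArg e (Subtype.ext (hφCe c))).trans hx).trans (Subtype.ext (hφCe c).symm)
  -- `e` preserves the image of `Pn`
  have hsubD : ν.range ≤ D := by rintro _ ⟨g, rfl⟩; exact hνD g
  have hst : ∀ y : ν.range, ((e (Subgroup.inclusion hsubD y) : D) : Ω) ∈ ν.range := by
    let M : Subgroup Pn := (ν.range.subgroupOf D).comap (e.toMonoidHom.comp (ν.codRestrict D hνD))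
    have hM : Pn ≤ M.map Pn.subtype := by
      refine sup_le (fun x hx => ⟨⟨x, le_sup_left (a := P) hx⟩, ?_, rfl⟩) fun a ha =>
        ⟨⟨a, le_sup_right (b := normalizerIn A P) ha⟩, ?_, rfl⟩
      · show ((e ⟨ν _, _⟩ : D) : Ω) ∈ ν.range
        refine ⟨Subgroup.inclusion le_sup_left (b ⟨x, hx⟩), ?_⟩
        have hval : ν ⟨x, le_sup_left (a := P) hx⟩ = φ ⟨x, hx⟩ := hνP ⟨x, hx⟩
        rw [hνP, show ((e ⟨ν ⟨x, _⟩, hνD _⟩ : D) : Ω) = ((b₂ (ι ⟨x, hx⟩) : Q) : Ω) from
          (congrArg (fun z => ((e z : D) : Ω)) (Subtype.ext hval :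
            (⟨_, hνD ⟨x, le_sup_left (a := P) hx⟩⟩ : D) = Subgroup.inclusion hQD (ι ⟨x, hx⟩))).trans (heb _),
          hb₂, hι, congr_apply_map]
      · show ((e ⟨ν _, _⟩ : D) : Ω) ∈ ν.range
        rw [hefix ⟨ν _, hνD _⟩ (stronglyClosed_apply_mem hA hν ha.1)]
        exact ⟨_, rfl⟩
    rintro ⟨_, g, rfl⟩
    obtain ⟨g', hg', hgg⟩ := hM g.2
    obtain rfl : g' = g := Subtype.ext hgg
    exact hg'
  obtain ⟨e₁, he₁, he₁r⟩ := exists_restr hsubD hDS heF hst
  obtain ⟨η, hη, hηr, hl, -⟩ := exists_inv hν rfl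
  refine ⟨MulAut.congr (homEquiv hη hηr) e₁, congr_mem_autGroup hη hηr he₁,
    by rw [MulEquiv.orderOf_eq]; exact fun hd => hna (hd.trans (orderOf_dvd_of_pow_eq_one
      (Restr.unique (he₁r.pow _) (by rw [pow_orderOf_eq_one]; exact Restr.one)))), fun x => ?_, fun x hx => ?_⟩
  · have h1 : Subgroup.inclusion le_sup_left x =
        homEquiv hη hηr ⟨ν (Subgroup.inclusion le_sup_left x), _, rfl⟩ :=
      Subtype.ext (hl _ _).symm
    rw [h1, congr_apply_map]
    refine Eq.trans ?_ (hl (Subgroup.inclusion le_sup_left (b x)) ⟨_, rfl⟩)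
    refine congrArg η (Subtype.ext ((he₁r _).symm.trans ?_))
    refine Eq.trans ?_ (hνP (b x)).symm
    refine (congrArg (fun z => ((e z : D) : Ω)) (Subtype.ext (hνP x) : _ = Subgroup.inclusion hQD (ι x))).trans ?_
    rw [heb, hb₂, hι, congr_apply_map]
  · have h1 : x = homEquiv hη hηr ⟨ν x, x, rfl⟩ := Subtype.ext (hl _ _).symm
    have h2 : e₁ ⟨ν x, x, rfl⟩ = ⟨ν x, x, rfl⟩ :=
      Subtype.ext ((he₁r _).symm.trans (congrArg Subtype.val (hefix _ (stronglyClosed_apply_mem hA hν hx))))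
    refine Subtype.ext ?_
    conv_lhs => rw [h1, congr_apply_map, h2]
    exact hl _ _

/-- The climb. -/
theorem climb (hS : IsPGroup p S) (hF : F.IsSaturated p) (hA : F.StronglyClosed A) {X : Subgroup Ω}
    (hmax : CentMax F A X) {P : Subgroup Ω} (hP : P ≤ S) (hXP : X ≤ P) (hCP : centralizerIn A X ≤ P)
    {b : MulAut P} (hb : b ∈ F.autGroup P) (hord : ¬ p ∣ orderOf b) (hbX : ∀ x : P, (x : Ω) ∈ X → b x = x)
    (hbA : ∀ x : P, (x : Ω) ∈ A → b x = x) : Fixes F A P (P.subtype.comp b.toMonoidHom) := by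
  suffices key : ∀ (k : ℕ) (P : Subgroup Ω), Nat.card S - Nat.card P ≤ k → P ≤ S → X ≤ P →
      centralizerIn A X ≤ P → ∀ b : MulAut P, b ∈ F.autGroup P → ¬ p ∣ orderOf b →
      (∀ x : P, (x : Ω) ∈ X → b x = x) → (∀ x : P, (x : Ω) ∈ A → b x = x) →
      Fixes F A P (P.subtype.comp b.toMonoidHom) from key _ P le_rfl hP hXP hCP b hb hord hbX hbA
  intro k
  induction k using Nat.strong_induction_on with
  | _ k ih =>
  intro P hk hP hXP hCP b hb hord hbX hbA
  by_cases hAP : A ≤ P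
  · obtain ⟨φ, hφ, -, he⟩ := exists_hom_of_aut hP hb
    obtain ⟨ψ, hψ, hψe⟩ := exists_restrict hφ (sup_le le_rfl hAP)
    refine ⟨ψ, hψ, fun x => (hψe _).trans (he _), fun y => ?_⟩
    rw [hψe, he]
    exact congrArg Subtype.val (hbA ⟨y, hAP y.2⟩ y.2)
  obtain ⟨b₁, hb₁, hb₁o, hr, hb₁A⟩ := climb_step hS hF hA hmax hP hXP hCP hb hord hbX hbA
  have hPnS : P ⊔ normalizerIn A P ≤ S := sup_le hP ((normalizerIn_le _).trans hA.1)
  haveI := finite_sub hP
  haveI := finite_sub hA.1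
  have hPAS : P ⊔ A ≤ S := sup_le hP hA.1
  haveI := finite_sub hPAS
  haveI := finite_sub hPnS
  have hlt : P < P ⊔ normalizerIn A P := by
    refine lt_of_le_of_ne le_sup_left fun heq => hAP ?_
    by_contra hne
    have hlt' : P < P ⊔ A := lt_of_le_of_ne le_sup_left fun e => hne (le_sup_right.trans e.ge)
    obtain ⟨x, ⟨hx, hxn⟩, hxP⟩ := SetLike.exists_of_lt
      (FusionP3.Induction.lt_normalizerIn (isPGroup_of_le hS hPAS) hlt')
    obtain ⟨u, hu, a, ha, rfl⟩ := Set.mem_mul.1 ((Subgroup.coe_mul_of_left_le_normalizer_right P A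
      (hP.trans (stronglyClosed_le_normalizer hA))).le hx)
    have han : a ∈ Subgroup.normalizer (P : Set Ω) := by
      simpa using mul_mem (Subgroup.inv_mem _ (Subgroup.le_normalizer hu)) hxn
    exact hxP (P.mul_mem hu (heq.ge (Subgroup.mem_sup_right (⟨ha, han⟩ : a ∈ normalizerIn A P))))
  have hcard : Nat.card P < Nat.card ↥(P ⊔ normalizerIn A P) :=
    lt_of_not_ge fun hge => hlt.ne (Subgroup.eq_of_le_of_card_ge le_sup_left hge)
  have hcard' := Subgroup.card_le_of_le hPnS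
  obtain ⟨ψ, hψ, hψ1, hψ2⟩ := ih (Nat.card S - Nat.card ↥(P ⊔ normalizerIn A P)) (by omega) _ le_rfl hPnS
    (hXP.trans le_sup_left) (hCP.trans le_sup_left) b₁ hb₁ hb₁o (fun x hx => Subtype.ext (by
      rw [restr_apply hr (hXP hx), hbX ⟨x, hXP hx⟩ hx])) hb₁A
  obtain ⟨χ, hχ, hχe⟩ := exists_restrict hψ (sup_le_sup_right le_sup_left A)
  refine ⟨χ, hχ, fun x => ?_, fun y => ?_⟩
  · rw [hχe]
    exact (hψ1 (Subgroup.inclusion le_sup_left x)).trans (hr x)
  · rw [hχe]
    exact hψ2 y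

/-- A perfect system centralising `X` and the centraliser of `X` in `A` centralises `A`. -/
theorem centralizes_of_centMax (hS : IsPGroup p S) (hF : F.IsSaturated p) (hA : F.StronglyClosed A)
    {X : Subgroup Ω} (hXS : X ≤ S) (hmax : CentMax F A X) {RC : Subgroup Ω} {C : FusionSystem RC}
    (hC : C.IsSaturated p) (hperf : C.hyperfocalSubgroup p = RC) (hRC : RC ≤ centralizerIn S X)
    (hfix : ∀ (P : Subgroup Ω) (φ : P →* Ω), φ ∈ C.Hom P → φ ∈ F.Hom P ∧
      Fixes F (X ⊔ centralizerIn A X) P φ) : Inter.Centralizes F A C := by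
  have hRS : RC ≤ S := hRC.trans (centralizerIn_le _)
  haveI := finite_sub hRS
  have hRp := isPGroup_of_le hS hRS
  have hYS : X ⊔ centralizerIn A X ≤ S := sup_le hXS ((centralizerIn_le _).trans hA.1)
  have hgen : ∀ Q : Subgroup Ω, Q ≤ RC → ∀ b ∈ C.autGroup Q, ¬ p ∣ orderOf b →
      Fixes F A Q (Q.subtype.comp b.toMonoidHom) := by
    intro Q hQ b hb hord
    obtain ⟨-, ψ, hψ, h1, h2⟩ := hfix Q _ ((mem_autGroup hQ).1 hb)
    haveI := finite_sub (src_le hψ)
    haveI := FusionP3.GT.finite_mulAut ↥(Q ⊔ (X ⊔ centralizerIn A X))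
    obtain ⟨a, ha, hae⟩ := exists_aut hψ (mapsTo_sup
      (fun x => by rw [h1]; exact Subgroup.mem_sup_left (b x).2)
      (fun y => by rw [h2]; exact Subgroup.mem_sup_right y.2))
    have hab : Restr le_sup_left a b := fun x => (hae _).trans (h1 x)
    obtain ⟨n, hn, hna⟩ := exists_pow_prime_to (p := p) (x := a) hord
    have hfixY : ∀ (i : ℕ) (y : ↥(Q ⊔ (X ⊔ centralizerIn A X))), (y : Ω) ∈ X ⊔ centralizerIn A X →
        (a ^ i) y = y := by
      intro i y hy
      induction i with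
      | zero => rfl
      | succ i ih =>
        rw [pow_succ', MulAut.mul_apply, ih]
        exact Subtype.ext ((hae _).trans (h2 ⟨y, hy⟩))
    obtain ⟨χ, hχ, hχ1, hχ2⟩ := climb hS hF hA hmax (src_le hψ) (le_sup_left.trans le_sup_right)
      (le_sup_right.trans le_sup_right) (pow_mem ha n) hna (fun x hx => hfixY n x (Subgroup.mem_sup_left hx))
      fun x hx => fix_inf_of_fix_centralizer hS hA (src_le hψ) (le_sup_left.trans le_sup_right) (pow_mem ha n)
        hna (fun y hy => hfixY n y (Subgroup.mem_sup_left hy))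
        (fun y hy => hfixY n y (Subgroup.mem_sup_right hy)) hx
    obtain ⟨χ', hχ', hχ'e⟩ := exists_restrict hχ (sup_le_sup_right le_sup_left A)
    refine ⟨χ', hχ', fun x => ?_, fun y => ?_⟩
    · rw [hχ'e]
      refine (hχ1 (Subgroup.inclusion le_sup_left x)).trans ?_
      exact (hab.pow n x).trans (by rw [hn]; rfl)
    · rw [hχ'e]
      exact hχ2 y
  have hRA : RC ≤ centralizerIn S A := by
    rw [← hperf]
    refine (Subgroup.closure_le _).2 ?_
    rintro _ ⟨Q, α, x, hQ, hα, rfl⟩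
    refine Subgroup.closure_induction (p := fun (α : C.autGroup Q) _ =>
      ∀ x : Q, (x : Ω)⁻¹ * ((α : MulAut Q) x : Q) ∈ centralizerIn S A) ?_ ?_ ?_ ?_ hα x
    · intro c hc x
      have hord : ¬ p ∣ orderOf (c : MulAut Q) :=
        (hp.out.coprime_iff_not_dvd).1 (by rw [Subgroup.orderOf_coe]; exact Nat.Coprime.symm hc)
      obtain ⟨ψ, hψ, h1, h2⟩ := hgen Q hQ c c.2 hord
      refine mem_centralizerIn'.2 ⟨S.mul_mem (S.inv_mem (hRS (hQ x.2))) (hRS (hQ ((c : MulAut Q) x).2)),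
        fun y hy => ?_⟩
      have hxy : (x : Ω) * y * (x : Ω)⁻¹ ∈ A :=
        conj_mem_of_normalizer (stronglyClosed_le_normalizer hA (hRS (hQ x.2))) hy
      have h3 : ((c : MulAut Q) x : Q) * y * (((c : MulAut Q) x : Q) : Ω)⁻¹ = (x : Ω) * y * (x : Ω)⁻¹ := by
        have hh := h2 ⟨_, hxy⟩
        rw [show Subgroup.inclusion le_sup_right ⟨_, hxy⟩ = Subgroup.inclusion le_sup_left x *
          Subgroup.inclusion le_sup_right ⟨y, hy⟩ * (Subgroup.inclusion le_sup_left x)⁻¹ from Subtype.ext rfl,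
          map_mul, map_mul, map_inv, h1, h2] at hh
        exact hh
      calc (x : Ω)⁻¹ * ((c : MulAut Q) x : Q) * y * ((x : Ω)⁻¹ * ((c : MulAut Q) x : Q))⁻¹
          = (x : Ω)⁻¹ * (((c : MulAut Q) x : Q) * y * (((c : MulAut Q) x : Q) : Ω)⁻¹) * x := by group
        _ = y := by rw [h3]; group
    · intro x; simp
    · intro a b _ _ ha hb x
      have := Subgroup.mul_mem _ (hb x) (ha ((b : MulAut Q) x))
      simpa [mul_assoc] using this
    · intro a _ ha x
      have h1 := Subgroup.inv_mem _ (ha (((a⁻¹ : C.autGroup Q) : MulAut Q) x))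
      simpa using h1
  refine ⟨hRA, fun P φ hφ => ⟨(hfix P φ hφ).1, ?_⟩⟩
  refine FusionP3.Induction.hom_induction hRp hC (M := fun P φ => Fixes F A P φ) ?_ ?_ ?_ P φ hφ
  · exact fun P Q φ ψ χ _ _ hm he h1 h2 => h1.comp hm he h2
  · exact fun P Q φ ψ hle _ he h2 => h2.restrict hle he
  · intro W hWn _ _ a ha _
    have hWR := hWn.1
    haveI := finite_sub hWR
    let K : Subgroup (MulAut W) :=
      { carrier := {g | Fixes F A W (W.subtype.comp g.toMonoidHom)}
        one_mem' := ⟨(W ⊔ A).subtype, subtype_mem F (sup_le (hWR.trans hRS) hA.1), fun _ => rfl, fun _ => rfl⟩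
        mul_mem' := fun {g k} hg hk => hk.comp (fun x => (k x).2) (fun _ => rfl) hg
        inv_mem' := fun {g} hg => by
          haveI := FusionP3.GT.finite_mulAut ↥W
          have hpow : ∀ i : ℕ, Fixes F A W (W.subtype.comp (g ^ i).toMonoidHom) := by
            intro i
            induction i with
            | zero => exact ⟨(W ⊔ A).subtype, subtype_mem F (sup_le (hWR.trans hRS) hA.1), fun _ => rfl,
                fun _ => rfl⟩
            | succ i ih => rw [pow_succ]; exact hg.comp (fun x => (g x).2) (fun _ => rfl) ih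
          show Fixes F A W _
          rw [show g⁻¹ = g ^ (orderOf g - 1) by
            rw [inv_eq_iff_mul_eq_one, ← pow_succ', Nat.sub_add_cancel (orderOf_pos g), pow_orderOf_eq_one]]
          exact hpow _ }
    refine (FusionP3.Prime.PPower.autGroup_le_sup' C (K := K) (fullyAutomized_of_fullyNormalized hRp hC hWn)
      (fun b hb hc => hgen W hWR b hb ((hp.out.coprime_iff_not_dvd).1 hc.symm)) ?_ ha :)
    intro g hg
    obtain ⟨r, hr, he⟩ := mem_autInducedBy.1 hg
    refine ⟨conjHom _ r, F.conj_mem (sup_le (hWR.trans hRS) hA.1) (hRS hr), fun x => (he x).symm, fun y => ?_⟩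
    show r * (y : Ω) * r⁻¹ = y
    rw [← (mem_centralizerIn.1 (hRA hr)).2 y y.2, mul_inv_cancel_right]

end Cfsg.Agent.Lib.FS.ES
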