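import Cfsg.Agent.Lib.FusionSystem.ES.CentX
import Cfsg.Agent.Lib.FusionSystem.ES.Climb
import Cfsg.Agent.Lib.FusionSystem.Inter.Components
import Cfsg.Agent.Lib.FusionSystem.Inter.LayerIn
import Cfsg.Agent.Lib.FusionSystem.Fitting
import Cfsg.Agent.Lib.Transfer.FusionLocal
import Cfsg.Agent.S5124

/-!
Balance for layers: the layer of the normaliser system of a fully normalised subgroup lies in the layer.
-/

set_option autoImplicit false
set_option linter.style.haveILetI false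
set_option linter.unusedSectionVars false

namespace Cfsg.Agent.Lib.FS.ES

open Cfsg Cfsg.FusionSystem Cfsg.Agent.Lib Cfsg.Agent.Lib.FS
open Cfsg.Agent.Lib.FS.NormalCentralizer (Fixes)
open Cfsg.Agent.Lib.FS.Inter (exists_aut exists_restr Centralizes)

universe u

variable {Ω : Type u} [Group Ω] {S T : Subgroup Ω} [Finite S] {p : ℕ} [hp : Fact p.Prime]
  {F : FusionSystem S}

/-- A perfect subsystem lies in every subsystem of `p`-power index. -/
theorem le_of_pPower_perfect (hS : IsPGroup p S) {RC : Subgroup Ω} {C : FusionSystem RC}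
    (hC : C.IsSaturated p) (hperf : C.hyperfocalSubgroup p = RC) (hsub : C.IsSubsystemOf F) (hRS : RC ≤ S)
    {E' : FusionSystem T} (hi : E'.HasPPowerIndexIn F p) : C.IsSubsystemOf E' := by
  haveI := finite_sub hRS
  have hRp := isPGroup_of_le hS hRS
  have hRT : RC ≤ T := by
    rw [← hperf]
    exact (PPowerKernel.hyperfocal_mono hRS hsub).trans hi.2.1
  intro P φ hφ
  refine FusionP3.Induction.hom_induction hRp hC (M := fun P φ => φ ∈ E'.Hom P) ?_ ?_ ?_ P φ hφ
  · exact fun P Q φ ψ χ _ _ hm he h1 h2 => mem_comp h1 h2 hm he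
  · exact fun P Q φ ψ hle _ he h2 => mem_of_restrict h2 hle he
  · intro W hWn _ _ a ha _
    have hWT := hWn.1.trans hRT
    refine (mem_autGroup hWT).1 (FusionP3.Prime.PPower.autGroup_le_sup' C
      (fullyAutomized_of_fullyNormalized hRp hC hWn) (fun b hb hc => ?_)
      ((Inter.autInducedBy_mono hRT).trans (autInducedBy_le_autGroup _ hWT)) ha)
    exact FusionP3.Prime.PPower.coprime_aut_mem hi hWT (FusionP3.GT.autGroup_mono hsub hWn.1 hb) hc

/-- A centraliser system taken in the normaliser system is that of `F`. -/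
theorem centralizer_normal_in_normalizer (hS : IsPGroup p S) (hF : F.IsSaturated p) {X : Subgroup Ω}
    (hX : F.IsFullyNormalized X) {N : FusionSystem (normalizerIn S X)} (hN : F.IsNormalizerSystem X N)
    {G : FusionSystem (centralizerIn S X)} (hG : F.IsCentralizerSystem X G) : G.IsNormalIn N p := by
  have hXS : X ≤ S := hX.1
  haveI := finite_sub (normalizerIn_le (S := S) X)
  have hNp := isPGroup_of_le hS (normalizerIn_le X)
  have hNs : N.IsSaturated p := normalizerSystem_isSaturated hS hF hX hN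
  obtain ⟨C, hC, hCn⟩ := exists_centralizer_normal hNp hNs (Transfer.FusionLocal.isNormal_normalizerSystem hXS hN)
  have key : ∀ (V : Subgroup Ω) (C : FusionSystem V), V = centralizerIn S X → C.IsNormalIn N p →
      (∀ P, C.Hom P = G.Hom P) → G.IsNormalIn N p := by
    rintro V C rfl hC he
    obtain rfl : C = G := fusion_le_antisymm (fun P φ hφ => (he P).le hφ) fun P φ hφ => (he P).ge hφ
    exact hC
  have hbase : centralizerIn (normalizerIn S X) X = centralizerIn S X :=
    le_antisymm (fun g hg => ⟨hg.1.1, hg.2⟩) fun g hg => ⟨centralizerIn_le_normalizerIn X hg, hg.2⟩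
  refine key _ C hbase hCn fun P => Set.ext fun φ => ?_
  rw [hC P, hG P]
  constructor
  · rintro ⟨h1, h2, h3, ψ, hψ, h4, h5⟩
    exact ⟨((hN P).le h1).1, h2.trans hbase.le, fun x => hbase.le (h3 x), ψ, ((hN _).le hψ).1, h4, h5⟩
  · rintro ⟨h1, h2, h3, ψ, hψ, h4, h5⟩
    have hPN : P ≤ normalizerIn S X := h2.trans (centralizerIn_le_normalizerIn X)
    have hX' : X ≤ normalizerIn S X := le_normalizerIn hXS
    have hmap : (X.subgroupOf (P ⊔ X)).map ψ = X := by
      refine le_antisymm ?_ fun x hx => ⟨Subgroup.inclusion le_sup_right ⟨x, hx⟩, hx, h5 ⟨x, hx⟩⟩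
      rintro _ ⟨w, hw, rfl⟩
      rw [show w = Subgroup.inclusion le_sup_right ⟨(w : Ω), hw⟩ from Subtype.ext rfl, h5]
      exact hw
    have hv : ∀ v, ψ v ∈ normalizerIn S X := NormalCentralizer.mapsTo_sup
      (fun x => by rw [h4]; exact centralizerIn_le_normalizerIn X (h3 x))
      fun x => by rw [h5]; exact hX' x.2
    refine ⟨(hN P).ge ⟨h1, hPN, fun x => centralizerIn_le_normalizerIn X (h3 x), ψ, hψ, h4, hmap⟩,
      h2.trans hbase.ge, fun x => hbase.ge (h3 x), ψ, (hN _).ge ⟨hψ, sup_le hPN hX', hv, ?_⟩, h4, h5⟩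
    obtain ⟨ψ', hψ', hψ'e⟩ := exists_restrict hψ (sup_le le_rfl le_sup_right : P ⊔ X ⊔ X ≤ P ⊔ X)
    refine ⟨ψ', hψ', fun x => (hψ'e _), ?_⟩
    refine le_antisymm ?_ fun x hx => ⟨Subgroup.inclusion le_sup_right ⟨x, hx⟩, hx,
      (hψ'e _).trans (h5 ⟨x, hx⟩)⟩
    rintro _ ⟨w, hw, rfl⟩
    rw [show w = Subgroup.inclusion le_sup_right ⟨(w : Ω), hw⟩ from Subtype.ext rfl, hψ'e]
    exact (h5 ⟨(w : Ω), hw⟩).symm ▸ hw

/-- Fixing in the centraliser system is fixing in `F` together with `X`. -/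
theorem fixes_lift {X Y Y' : Subgroup Ω} {G : FusionSystem (centralizerIn S X)} (hG : F.IsCentralizerSystem X G)
    (hY : Y' ≤ Y) {P : Subgroup Ω} {φ : P →* Ω} (hfix : Fixes G Y P φ) : Fixes F (X ⊔ Y') P φ := by
  obtain ⟨ψ, hψ, h1, h2⟩ := hfix
  obtain ⟨-, -, -, χ, hχ, h3, h4⟩ := (hG _).le hψ
  have hle : P ⊔ (X ⊔ Y') ≤ P ⊔ Y ⊔ X :=
    sup_le (le_sup_left.trans le_sup_left) (sup_le le_sup_right ((hY.trans le_sup_right).trans le_sup_left))
  obtain ⟨χ', hχ', hχe⟩ := exists_restrict hχ hle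
  refine ⟨χ', hχ', fun x => ?_, fun y => ?_⟩
  · rw [hχe]
    exact (h3 (Subgroup.inclusion le_sup_left x)).trans (h1 x)
  · have key : X ⊔ Y' ≤ ((χ.eqLocus (P ⊔ Y ⊔ X).subtype)).map (P ⊔ Y ⊔ X).subtype := by
      refine sup_le (fun z hz => ⟨Subgroup.inclusion le_sup_right ⟨z, hz⟩, h4 ⟨z, hz⟩, rfl⟩) fun z hz => ?_
      exact ⟨Subgroup.inclusion le_sup_left (Subgroup.inclusion le_sup_right ⟨z, hY hz⟩),
        (h3 (Subgroup.inclusion le_sup_right ⟨z, hY hz⟩)).trans (h2 ⟨z, hY hz⟩), rfl⟩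
    obtain ⟨w, hw, hwy⟩ := key y.2
    rw [hχe]
    exact (congrArg χ (Subtype.ext hwy.symm)).trans ((hw : χ w = (w : Ω)).trans hwy)

/-- The centraliser of `X` in a normal subgroup is normal in the centraliser system. -/
theorem isNormal_centralizerIn {X O : Subgroup Ω} (hO : F.IsNormal O)
    {G : FusionSystem (centralizerIn S X)} (hG : F.IsCentralizerSystem X G) :
    G.IsNormal (centralizerIn O X) := by
  have hOS := hO.1
  haveI := finite_sub hOS
  have hCS : centralizerIn O X ≤ centralizerIn S X := fun g hg => ⟨hOS hg.1, hg.2⟩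
  refine ⟨hCS, fun P φ hφ => ?_⟩
  obtain ⟨-, hP, hφv, ψ, hψ, h1, h2⟩ := (hG P).le hφ
  obtain ⟨χ, hχ, h3, h4⟩ := hO.2 _ ψ hψ
  set C := centralizerIn O X with hC
  obtain ⟨χ₀, hχ₀, hχ₀e⟩ := exists_restrict hχ
    (sup_le (sup_le (le_sup_left.trans le_sup_left) ((centralizerIn_le (S := O) X).trans le_sup_right))
      (le_sup_right.trans le_sup_left) : P ⊔ C ⊔ X ≤ P ⊔ X ⊔ O)
  have hX : ∀ x : X, χ₀ (Subgroup.inclusion le_sup_right x) = x := fun x => by
    rw [hχ₀e]
    exact (h3 (Subgroup.inclusion le_sup_right x)).trans (h2 x)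
  obtain ⟨χC, hχC, hχCe⟩ := exists_restrict hχ₀ (le_sup_left : P ⊔ C ≤ P ⊔ C ⊔ X)
  obtain ⟨χ₁, hχ₁, hχ₁e⟩ := exists_restrict hχC (le_sup_right : C ≤ P ⊔ C)
  have hC₁ : ∀ c, χ₁ c ∈ C := fun c => by
    refine mem_centralizerIn.2 ⟨?_, fun x hx => ?_⟩
    · rw [hχ₁e, hχCe, hχ₀e]
      exact h4.le ⟨_, c.2.1, rfl⟩
    · have e := hX ⟨x, hx⟩
      change _ = x at e
      rw [hχ₁e, hχCe, ← e, ← map_mul, ← map_mul]
      exact congrArg χ₀ (Subtype.ext ((mem_centralizerIn.1 c.2).2 x hx))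
  haveI := finite_sub ((centralizerIn_le (S := O) X).trans hOS : C ≤ S)
  have hr : χ₁.range = C := range_eq_of_mem hχ₁ hC₁ le_rfl
  have hP' : ∀ x : P, χC (Subgroup.inclusion le_sup_left x) = φ x := fun x => by
    rw [hχCe, hχ₀e]
    exact (h3 (Subgroup.inclusion le_sup_left x)).trans (h1 x)
  refine ⟨χC, (hG _).ge ⟨hχC, sup_le hP hCS, NormalCentralizer.mapsTo_sup (fun x => by rw [hP']; exact hφv x)
    (fun c => hCS (by
      have := hC₁ c
      rwa [hχ₁e] at this)), χ₀, hχ₀, fun x => (hχCe x).symm, hX⟩, hP', ?_⟩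
  refine le_antisymm ?_ fun c hc => ?_
  · rintro _ ⟨w, hw, rfl⟩
    have := hC₁ ⟨(w : Ω), hw⟩
    rwa [hχ₁e] at this
  · obtain ⟨c', rfl⟩ := hr.ge hc
    exact ⟨Subgroup.inclusion le_sup_right c', c'.2, (hχ₁e c').symm⟩

variable {E : FusionSystem T}

/-- Every component of the centraliser system lies in the normal subsystem inside the product. -/
theorem component_le {X : Subgroup Ω} (hS : IsPGroup p S) (hF : F.IsSaturated p) (hX : F.IsFullyNormalized X)
    (hE : E.IsLayerOf F p) {G : FusionSystem (centralizerIn S X)} (hG : F.IsCentralizerSystem X G)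
    {M : FusionSystem (centralizerIn (T ⊔ X) X)} (hM : M.IsNormalIn G p) {RC : Subgroup Ω}
    {C : FusionSystem RC} (hC : C.IsComponentIn G p) : C.IsSubsystemOf M := by
  have hXS : X ≤ S := hX.1
  have hsc : F.StronglyClosed T := hE.1.1.2.2.2.1
  haveI := finite_sub (centralizerIn_le (S := S) X)
  have hGp := isPGroup_of_le hS (centralizerIn_le X)
  have hGs : G.IsSaturated p := centralizerSystem_isSaturated hS hF (fullyNormalized_props hS hF hX).1 hG
  rcases Inter.component_dichotomy hC.1 hGp hC.2 _ M hM with h | ⟨hRU, hfix⟩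
  · exact h
  exfalso
  have hRC : RC ≤ centralizerIn S X := hRU.trans (centralizerIn_le _)
  have hRS : RC ≤ S := hRC.trans (centralizerIn_le _)
  have hCsub : ∀ (P : Subgroup Ω) (φ : P →* Ω), φ ∈ C.Hom P → φ ∈ F.Hom P := fun P φ hφ =>
    ((hG P).le (hfix P φ hφ).1).1
  have hT : Centralizes F T C := centralizes_of_centMax hS hF hsc hXS (centMax_of_fullyNormalized hS hF hsc hX)
    hC.2.1 hC.2.2.1 hRC fun P φ hφ => ⟨hCsub P φ hφ,
      fixes_lift hG (Y' := centralizerIn T X) (Y := centralizerIn (T ⊔ X) X) (fun c hc => ⟨Subgroup.mem_sup_left hc.1, hc.2⟩) (hfix P φ hφ).2⟩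
  have hO := FusionAlperin.Join.isNormal_core F
  have hOsc := isNormal_stronglyClosed hO
  obtain ⟨hRcore, hfixO⟩ := fixes_core hC.1 hp inferInstance hGp hGs hC.2
  have hOle : centralizerIn F.core X ≤ G.core := le_core_of_isNormal (isNormal_centralizerIn hO hG)
  have hO' : Centralizes F F.core C := centralizes_of_centMax hS hF hOsc hXS
    (centMax_of_fullyNormalized hS hF hOsc hX) hC.2.1 hC.2.2.1 hRC fun P φ hφ => ⟨hCsub P φ hφ,
      fixes_lift hG hOle (hfixO P φ hφ).2⟩
  obtain ⟨DY, ⟨-, hDYi⟩, -⟩ := CentralizerSubsystem.exists_centralizer' hS hE.1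
  obtain ⟨hRY, -⟩ := Inter.le_centralizer_system hS hC.2.1 hC.2.2.1 hT hsc.1 hDYi
  have hRO : RC ≤ F.core := fun y hy => Fitting.centralizer_layer_le_core hS hF hE (hRY hy)
    fun x hx => (mem_centralizerIn.1 (hO'.1 hy)).2 x hx
  haveI := finite_sub hRS
  exact Inter.not_centralizes_self (isPGroup_of_le hS hRS) hC.2 hRO hO'.1

/-- Balance for layers. -/
theorem layer_balance (hS : IsPGroup p S) (hF : F.IsSaturated p) {X : Subgroup Ω} (hX : F.IsFullyNormalized X)
    {N : FusionSystem (normalizerIn S X)} (hN : F.IsNormalizerSystem X N) {U : Subgroup Ω}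
    {EN : FusionSystem U} (hEN : EN.IsLayerOf N p) (hE : E.IsLayerOf F p) : EN.IsSubsystemOf E := by
  have hXS : X ≤ S := hX.1
  have hsc : F.StronglyClosed T := hE.1.1.2.2.2.1
  have h : Setting F E (T ⊔ X) p := ⟨hS, hE.1, le_sup_left, sup_le hsc.1 hXS⟩
  haveI := finite_sub (normalizerIn_le (S := S) X)
  haveI := finite_sub (centralizerIn_le (S := S) X)
  have hNp := isPGroup_of_le hS (normalizerIn_le X)
  have hGp := isPGroup_of_le hS (centralizerIn_le X)
  have hNs : N.IsSaturated p := normalizerSystem_isSaturated hS hF hX hN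
  obtain ⟨G, hG⟩ := exists_centralizerSystem F hXS
  have hGN := centralizer_normal_in_normalizer hS hF hX hN hG
  obtain ⟨M, hM, hMD⟩ := h.exists_normal_in_centralizer hX hG
  have hXcore : X ≤ N.core := le_core_of_isNormal (Transfer.FusionLocal.isNormal_normalizerSystem hXS hN)
  -- the components of `N` are components of `G`
  have hcomp : ∀ (V : Subgroup Ω) (C : FusionSystem V), C.IsComponentIn N p → C.IsComponentIn G p := by
    intro V C hC
    obtain ⟨hV, hfix⟩ := fixes_core hC.1 hp inferInstance hNp hNs hC.2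
    refine ⟨Inter.subnormal_in_normal hC.1 hNp hC.2 _ G hGN fun P φ hφ => ?_, hC.2⟩
    obtain ⟨h1, ψ, hψ, h2, h3⟩ := hfix P φ hφ
    obtain ⟨ψ', hψ', hψ'e⟩ := exists_restrict hψ (sup_le_sup_left hXcore P)
    have hcent : ∀ v ∈ V, v ∈ centralizerIn S X := fun v hv =>
      mem_centralizerIn.2 ⟨(hV hv).1.1, fun x hx => (mem_centralizerIn.1 (hV hv)).2 x (hXcore hx)⟩
    refine (hG P).ge ⟨((hN P).le h1).1, fun x hx => hcent x (src_le hφ hx), fun x => hcent _ (apply_mem hφ x), ψ',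
      ((hN _).le hψ').1, fun x => (hψ'e _).trans (h2 x), fun x => ?_⟩
    exact (hψ'e _).trans (h3 ⟨(x : Ω), hXcore x.2⟩)
  obtain ⟨W, LG, hLG⟩ := Inter.exists_layer hGp hM.1.2.1
  have hLN : LG.IsNormalIn N p := Inter.layer_isNormalIn hNp hGN hLG
  have hEND : EN.IsSubsystemOf h.dSys := fun P φ hφ =>
    hMD P (hLG.2.2 _ M hM (fun V C hC => component_le hS hF hX hE hG hM hC) P
      (hEN.2.2 W LG hLN (fun V C hC => hLG.2.1 V C (hcomp V C hC)) P hφ))
  -- the layer is perfect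
  have hEs : EN.IsSaturated p := hEN.1.1.1
  have hUN : U ≤ normalizerIn S X := hEN.1.1.2.2.2.1.1
  haveI := finite_sub hUN
  have hUp := isPGroup_of_le hNp hUN
  have hperf : U ≤ EN.hyperfocalSubgroup p := by
    have hle := FusionP3.Tate.hyperfocal_le EN p
    obtain ⟨E', hE's, hi⟩ := PPowerKernel.exists_pPower hUp EN hEs hle le_rfl
    have hn : ((EN.hyperfocalSubgroup p).subgroupOf U).Normal :=
      (Subgroup.normal_subgroupOf_iff_le_normalizer hle).2
        (stronglyClosed_le_normalizer (S5124.result p hUp EN hEs))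
    have hE'n := FusionP3.Prime.PPower.isNormalIn_of_pPowerIndex hUp hEs hle hn le_rfl hE's hi
    obtain ⟨U', L', hL'⟩ := Inter.exists_layer hUp hEs
    have hEL : EN.IsSubsystemOf L' := hEN.2.2 U' L' (Inter.layer_isNormalIn hNp hEN.1 hL') fun V C hC =>
      hL'.2.1 V C ⟨Inter.subnormal_in_normal hC.1 hNp hC.2 U EN hEN.1 (hEN.2.1 V C hC), hC.2⟩
    have hL'E : L'.IsSubsystemOf E' := hL'.2.2 _ E' hE'n fun V C hC =>
      le_of_pPower_perfect hUp hC.2.1 hC.2.2.1 (Inter.subnormal_le hC.1)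
        (src_le (Inter.subnormal_le hC.1 V (subtype_mem C le_rfl))) hi
    exact src_le (hL'E U (hEL U (subtype_mem EN le_rfl)))
  haveI := h.finR
  have hUR : U ≤ T ⊔ X := src_le (hEND U (subtype_mem EN le_rfl))
  refine h.sys_le hEs (hperf.trans ?_) hEND
  exact (PPowerKernel.hyperfocal_mono hUR hEND).trans (h.hyp_d.le.trans (FusionP3.Tate.hyperfocal_le E p))

end Cfsg.Agent.Lib.FS.ES
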