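import Cfsg.Agent.Lib.FusionSystem.ES.Saturated
import Cfsg.Agent.Lib.FusionSystem.CentralizerNormal
import Cfsg.Agent.Lib.FusionP3.Prime.Normality
import Cfsg.Agent.Lib.FusionP3.Prime.Saturated

/-!
The centraliser system of `X` in the product over `T ⊔ X` is weakly normal in the centraliser system of `X`.
-/

set_option autoImplicit false
set_option linter.style.haveILetI false
set_option linter.unusedSectionVars false

namespace Cfsg.Agent.Lib.FS.ES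

open Cfsg Cfsg.FusionSystem Cfsg.Agent.Lib Cfsg.Agent.Lib.FS
open Cfsg.Agent.Lib.FS.NormalCentralizer (mapsTo_sup)
open Cfsg.Agent.Lib.FS.Inter (exists_aut exists_restr)

universe u

variable {Ω : Type u} [Group Ω] {S T X : Subgroup Ω} [Finite S] {p : ℕ} [hp : Fact p.Prime]
  {F : FusionSystem S} {E : FusionSystem T}

namespace Setting

variable (h : Setting F E (T ⊔ X) p)
include h

/-- A conjugate of `X` in the product still generates the base with `T`. -/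
theorem sup_eq_of_hom {V : Subgroup Ω} (hXV : X ≤ V) {δ : V →* Ω} (hδ : δ ∈ h.dSys.Hom V) :
    T ⊔ (δ.comp (Subgroup.inclusion hXV)).range = T ⊔ X := by
  set X' := (δ.comp (Subgroup.inclusion hXV)).range with hX'
  obtain ⟨s, hs, hm, -⟩ := h.pgen_inv_mod T (fun g hg y hy => h.conj_mem_T (h.hRS hg) hy)
    (fun _ _ ha x => ha.2.2.1 x) hδ
  refine le_antisymm (sup_le le_sup_left ?_) fun r hr => ?_
  · rintro _ ⟨x, rfl⟩
    exact (h.pgen_mem hδ).2.2 _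
  have key : T ⊔ X ≤ (T ⊔ X').comap (MulAut.conj s).toMonoidHom := by
    refine sup_le (fun t ht => ?_) fun x hx => ?_
    · exact (le_sup_left : T ≤ T ⊔ X') (h.conj_mem_T (h.hRS hs) ht)
    · show s * x * s⁻¹ ∈ T ⊔ X'
      have h1 := hm ⟨x, hXV hx⟩
      have h2 : δ ⟨x, hXV hx⟩ ∈ T ⊔ X' := Subgroup.mem_sup_right ⟨⟨x, hx⟩, rfl⟩
      have h3 := (T ⊔ X').mul_mem h2 ((le_sup_left : T ≤ T ⊔ X') (T.inv_mem h1))
      rwa [mul_inv_rev, inv_inv, mul_inv_cancel_left] at h3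
  have h4 := key ((T ⊔ X).mul_mem ((T ⊔ X).mul_mem ((T ⊔ X).inv_mem hs) hr) hs)
  change s * (s⁻¹ * r * s) * s⁻¹ ∈ T ⊔ X' at h4
  rwa [← mul_assoc, ← mul_assoc, mul_inv_cancel, one_mul, mul_inv_cancel_right] at h4

theorem fn_d (hX : F.IsFullyNormalized X) : h.dSys.IsFullyNormalized X := by
  refine ⟨le_sup_right, fun X' hc => ?_⟩
  obtain ⟨φ, hφ, rfl⟩ := id hc
  have hR : T ⊔ φ.range = T ⊔ X := by
    have := h.sup_eq_of_hom (le_refl X) hφ
    rwa [show φ.comp (Subgroup.inclusion (le_refl X)) = φ from MonoidHom.ext fun _ => rfl] at this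
  obtain ⟨η, hη, -, hηX⟩ := exists_normalizer_map h.hS h.hF hX (isConj_symm ⟨φ, h.dsub X hφ, rfl⟩)
  have hle : normalizerIn (T ⊔ X) φ.range ≤ normalizerIn S φ.range := fun g hg => ⟨h.hRS hg.1, hg.2⟩
  obtain ⟨θ, hθ, hθe⟩ := exists_restrict hη hle
  haveI := h.finR
  haveI := finite_sub (normalizerIn_le (S := T ⊔ X) X)
  refine card_le_of_hom hθ fun g => ⟨?_, ?_⟩
  · have hgR : (g : Ω) ∈ T ⊔ φ.range := hR.symm ▸ g.2.1
    have hXS : φ.range ≤ Subgroup.normalizer (T : Set Ω) := fun y hy =>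
      stronglyClosed_le_normalizer h.hsc (h.hRS (by rw [← hR]; exact Subgroup.mem_sup_right hy))
    obtain ⟨t, ht, y, hy, hty⟩ := Set.mem_mul.1
      ((Subgroup.coe_mul_of_right_le_normalizer_left T φ.range hXS).le hgR)
    have hyN : y ∈ normalizerIn S φ.range := ⟨h.hRS (hR ▸ Subgroup.mem_sup_right hy), Subgroup.le_normalizer hy⟩
    have htN : t ∈ normalizerIn S φ.range := by
      rw [show t = (g : Ω) * y⁻¹ by rw [← hty, mul_inv_cancel_right]]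
      exact Subgroup.mul_mem _ (hle g.2) (Subgroup.inv_mem _ hyN)
    rw [hθe, show (⟨(g : Ω), hle g.2⟩ : normalizerIn S φ.range) = ⟨t, htN⟩ * ⟨y, hyN⟩ from Subtype.ext hty.symm,
      map_mul]
    exact Subgroup.mul_mem _ (Subgroup.mem_sup_left (stronglyClosed_apply_mem h.hsc hη ht))
      (Subgroup.mem_sup_right (hηX.le ⟨_, hy, rfl⟩))
  · have hn : θ g ∈ Subgroup.normalizer (X : Set Ω) := by
      haveI := finite_sub hX.1
      refine mem_normalizer_of_conj_mem fun x hx => ?_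
      obtain ⟨y, hy, rfl⟩ := hηX.ge hx
      rw [hθe, ← map_inv, ← map_mul, ← map_mul]
      exact hηX.le ⟨_, (conj_mem_of_normalizer g.2.2 (Subgroup.mem_subgroupOf.1 hy) :), rfl⟩
    exact hn

/-- A map of `F` fixing `X`, defined on a subgroup of the base, is a map of the product followed by an
automorphism of the base. -/
theorem exists_beta {V : Subgroup Ω} (hXV : X ≤ V) (hVR : V ≤ T ⊔ X) {ψ : V →* Ω} (hψ : ψ ∈ F.Hom V)
    (hfix : ∀ x : V, (x : Ω) ∈ X → ψ x = x) :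
    ∃ δ ∈ h.dSys.Hom V, ∃ β ∈ F.autGroup (T ⊔ X), ∀ (v : V) (hv : δ v ∈ T ⊔ X),
      ψ v = ((β ⟨δ v, hv⟩ : ↥(T ⊔ X)) : Ω) := by
  obtain ⟨δ, hδ, Y, α, hα, hTY, hm, he⟩ := h.psi hψ
  have hδD : δ ∈ h.dSys.Hom V := hδ.mono (sup_le le_sup_left hVR)
  have hX' := h.sup_eq_of_hom hXV hδD
  have hRY : T ⊔ X ≤ Y := hX'.ge.trans (sup_le hTY fun _ ⟨x, hx⟩ => hx ▸ hm _)
  obtain ⟨α', hα', hαe⟩ := exists_restrict hα hRY
  have hmap : ∀ r, α' r ∈ T ⊔ X := by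
    intro r
    have key : T ⊔ X ≤ ((T ⊔ X).comap α').map (T ⊔ X).subtype := by
      refine hX'.ge.trans (sup_le (fun t ht => ?_) ?_)
      · refine ⟨⟨t, le_sup_left (b := X) ht⟩, ?_, rfl⟩
        show α' _ ∈ T ⊔ X
        exact Subgroup.mem_sup_left (stronglyClosed_apply_mem h.hsc hα' ht)
      · rintro _ ⟨x, rfl⟩
        refine ⟨⟨δ (Subgroup.inclusion hXV x), (h.pgen_mem hδD).2.2 _⟩, ?_, rfl⟩
        show α' _ ∈ T ⊔ X
        rw [hαe, ← he, hfix _ x.2]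
        exact Subgroup.mem_sup_right x.2
    obtain ⟨r', hr', hrr⟩ := key r.2
    obtain rfl : r' = r := Subtype.ext hrr
    exact hr'
  obtain ⟨β, hβ, hβe⟩ := exists_aut hα' hmap
  exact ⟨δ, hδD, β, hβ, fun v hv => by rw [hβe, hαe, he]⟩

variable {G : FusionSystem (centralizerIn S X)} {M₀ : FusionSystem (centralizerIn (T ⊔ X) X)}

theorem centralizer_weaklyNormal (hX : F.IsFullyNormalized X) (hG : F.IsCentralizerSystem X G)
    (hM : h.dSys.IsCentralizerSystem X M₀) : M₀.IsWeaklyNormalIn G p := by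
  haveI := h.finR
  have hXS : X ≤ S := hX.1
  have hRp := h.pR
  have hUR : (centralizerIn (T ⊔ X) X) ≤ T ⊔ X := centralizerIn_le X
  have hUS : (centralizerIn (T ⊔ X) X) ≤ S := hUR.trans h.hRS
  have hUG : (centralizerIn (T ⊔ X) X) ≤ centralizerIn S X := fun u hu => ⟨h.hRS hu.1, hu.2⟩
  haveI := finite_sub hUS
  haveI := finite_sub (centralizerIn_le (S := S) X)
  have hXR : X ≤ T ⊔ X := le_sup_right
  have hfnD := h.fn_d hX
  have hM₀s : M₀.IsSaturated p :=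
    centralizerSystem_isSaturated hRp h.saturated (fullyNormalized_props hRp h.saturated hfnD).1 hM
  have hGs : G.IsSaturated p :=
    centralizerSystem_isSaturated h.hS h.hF (fullyNormalized_props h.hS h.hF hX).1 hG
  have hVR : (centralizerIn (T ⊔ X) X) ⊔ X ≤ T ⊔ X := sup_le hUR hXR
  haveI := finite_sub hVR
  -- values commuting with `X`
  have hcomm : ∀ {P : Subgroup Ω} (χ : ↥(P ⊔ X) →* Ω) (_ : ∀ x : X, χ (Subgroup.inclusion le_sup_right x) = x)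
      (_ : P ≤ centralizerIn S X) (_ : ∀ v, χ v ∈ T ⊔ X) (u : P), χ (Subgroup.inclusion le_sup_left u) ∈ (centralizerIn (T ⊔ X) X) := by
    intro P χ hfx hP hv u
    refine mem_centralizerIn.2 ⟨hv _, fun x hx => ?_⟩
    have e := hfx ⟨x, hx⟩
    change _ = x at e
    rw [← e, ← map_mul, ← map_mul]
    exact congrArg χ (Subtype.ext ((mem_centralizerIn.1 (hP u.2)).2 x hx))
  have hfrat : ∀ (P : Subgroup Ω), P ≤ (centralizerIn (T ⊔ X) X) → ∀ (φ : P →* Ω), φ ∈ G.Hom P →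
      ∃ α ∈ G.autGroup (centralizerIn (T ⊔ X) X), ∃ φ₀ ∈ M₀.Hom P, ∀ (x : P) (hx : φ₀ x ∈ (centralizerIn (T ⊔ X) X)), φ x = ((α ⟨φ₀ x, hx⟩ : (centralizerIn (T ⊔ X) X)) : Ω) := by
    intro P hP φ hφ
    obtain ⟨-, -, -, ψ, hψ, hψP, hψX⟩ := (hG P).le hφ
    have hPR : P ⊔ X ≤ T ⊔ X := sup_le (hP.trans hUR) hXR
    haveI := finite_sub hPR
    obtain ⟨δ, hδ, β, hβ, hψe⟩ := h.exists_beta le_sup_right hPR hψ fun x hx => hψX ⟨x, hx⟩
    have hδR : ∀ v, δ v ∈ T ⊔ X := fun v => (h.pgen_mem hδ).2.2 v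
    have hβX : ∀ x : X, ((β ⟨δ (Subgroup.inclusion le_sup_right x), hδR _⟩ : ↥(T ⊔ X)) : Ω) = x := fun x => by
      rw [← hψe, hψX]
    obtain ⟨δX, hδX, hδXe⟩ := exists_restrict hδ (le_sup_right : X ≤ P ⊔ X)
    set X' := δX.range with hX'
    have hX'R : X' ≤ T ⊔ X := range_le_base hδX
    obtain ⟨θ, hθ, hθr, hθl, -⟩ := exists_inv hδX rfl
    obtain ⟨η₀, hη₀, hη₀e⟩ := (receptive_of_fullyNormalized hRp h.saturated hfnD).2 X' θ hθ hθr
    set C' := centralizerIn (T ⊔ X) X' with hC'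
    have hC'R : C' ≤ T ⊔ X := centralizerIn_le _
    haveI := finite_sub hC'R
    have hVle : C' ⊔ X' ≤ extender (T ⊔ X) X' θ := by
      refine sup_le (fun c hc => mem_extender_of (centralizerIn_le_normalizerIn _ hc) (T ⊔ X).one_mem
        fun x hx => ?_) fun y hy => ?_
      · rw [one_mul, inv_one, mul_one]
        exact congrArg θ (Subtype.ext ((mem_centralizerIn'.1 hc).2 x x.2))
      · refine mem_extender_of (le_normalizerIn hX'R hy) (h := θ ⟨y, hy⟩) (apply_mem hθ _) fun x hx => ?_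
        rw [← map_inv, ← map_mul, ← map_mul]
        rfl
    obtain ⟨η, hη, hηe⟩ := exists_restrict hη₀ hVle
    have hηX : ∀ x : X, ∀ hx, η ⟨δX x, hx⟩ = x := fun x hx => by
      rw [hηe]
      exact (hη₀e _ ⟨x, rfl⟩ _).trans (hθl x ⟨x, rfl⟩)
    have hδm : ∀ v, δ v ∈ C' ⊔ X' := mapsTo_sup
      (fun u => Subgroup.mem_sup_left (mem_centralizerIn.2 ⟨hδR _, by
        rintro _ ⟨x, rfl⟩
        rw [hδXe, ← map_mul, ← map_mul]
        exact congrArg δ (Subtype.ext ((mem_centralizerIn.1 (hP u.2)).2 x x.2))⟩))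
      fun x => Subgroup.mem_sup_right ⟨x, hδXe x⟩
    obtain ⟨χ, hχ, hχe⟩ := exists_comp hδ hη hδm
    have hχX : ∀ x : X, χ (Subgroup.inclusion le_sup_right x) = x := fun x => by
      rw [hχe]
      refine (congrArg η (Subtype.ext (hδXe x).symm)).trans (hηX x (Subgroup.mem_sup_right ⟨x, rfl⟩))
    obtain ⟨φ₀, hφ₀, hφ₀e⟩ := exists_restrict hχ (le_sup_left : P ≤ P ⊔ X)
    have hφ₀U : ∀ u, φ₀ u ∈ (centralizerIn (T ⊔ X) X) := fun u => by
      rw [hφ₀e]; exact hcomm χ hχX (hP.trans hUG) (fun v => apply_mem hχ v) u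
    have hφ₀M : φ₀ ∈ M₀.Hom P := (hM P).ge ⟨hφ₀, hP, hφ₀U, χ, hχ, fun u => (hφ₀e u).symm, hχX⟩
    -- the inverse of `η` is defined on `(centralizerIn (T ⊔ X) X) ⊔ X`
    have hX'β : ∀ y : X', ∃ x : X, δX x = y ∧ ((β ⟨y, hX'R y.2⟩ : ↥(T ⊔ X)) : Ω) = x := by
      rintro ⟨_, x, rfl⟩
      refine ⟨x, rfl, ?_⟩
      rw [show (⟨δX x, hX'R ⟨x, rfl⟩⟩ : ↥(T ⊔ X)) = ⟨δ (Subgroup.inclusion le_sup_right x), hδR _⟩ from
        Subtype.ext (hδXe x), hβX]
    obtain ⟨ηC, hηC, hηCe⟩ := exists_restrict hη (le_sup_left : C' ≤ C' ⊔ X')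
    have hηCU : ∀ c, ηC c ∈ (centralizerIn (T ⊔ X) X) := fun c => mem_centralizerIn.2 ⟨apply_mem hηC c, fun x hx => by
      have e := hηX ⟨x, hx⟩ (Subgroup.mem_sup_right ⟨_, rfl⟩)
      change _ = x at e
      rw [hηCe, ← e, ← map_mul, ← map_mul]
      exact congrArg η (Subtype.ext ((mem_centralizerIn.1 c.2).2 _ ⟨_, rfl⟩))⟩
    have hcard : Nat.card (centralizerIn (T ⊔ X) X) ≤ Nat.card C' := by
      let f : (centralizerIn (T ⊔ X) X) → C' := fun u => ⟨((β⁻¹ ⟨u, hUR u.2⟩ : ↥(T ⊔ X)) : Ω), mem_centralizerIn.2 ⟨SetLike.coe_mem _,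
        fun y hy => by
          obtain ⟨x, -, hx⟩ := hX'β ⟨y, hy⟩
          have e1 : β ⟨y, hX'R hy⟩ = ⟨x, hXR x.2⟩ := Subtype.ext hx
          have e2 : (⟨y, hX'R hy⟩ : ↥(T ⊔ X)) = β⁻¹ ⟨x, hXR x.2⟩ := by rw [← e1, MulAut.inv_apply_self]
          have := congrArg (fun z => ((β⁻¹ z : ↥(T ⊔ X)) : Ω))
            (Subtype.ext ((mem_centralizerIn.1 u.2).2 x x.2) :
              (⟨x, hXR x.2⟩ : ↥(T ⊔ X)) * ⟨u, hUR u.2⟩ = ⟨u, hUR u.2⟩ * ⟨x, hXR x.2⟩)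
          simp only [map_mul, ← e2, Subgroup.coe_mul] at this
          exact this⟩⟩
      exact Nat.card_le_card_of_injective f fun u v e => Subtype.ext
        (congrArg Subtype.val ((β⁻¹).injective (Subtype.ext (congrArg Subtype.val e :))) :)
    have hηCr : ηC.range = (centralizerIn (T ⊔ X) X) := range_eq_of_mem hηC hηCU hcard
    obtain ⟨ι, hι, -, hιl, hιr⟩ := exists_inv hη rfl
    have hUXη : (centralizerIn (T ⊔ X) X) ⊔ X ≤ η.range := by
      refine sup_le (fun u hu => ?_) fun x hx => ⟨_, hηX ⟨x, hx⟩ (Subgroup.mem_sup_right ⟨_, rfl⟩)⟩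
      obtain ⟨c, rfl⟩ := hηCr.ge hu
      exact ⟨_, (hηCe c).symm⟩
    obtain ⟨ι', hι', hι'e⟩ := exists_restrict (h.dsub _ hι) hUXη
    obtain ⟨βh, hβh, -, hβhe⟩ := exists_hom_of_aut h.hRS hβ
    have hι'R : ∀ v, ι' v ∈ T ⊔ X := fun v => by rw [hι'e]; exact apply_mem hι _
    obtain ⟨ε, hε, hεe⟩ := exists_comp hι' hβh hι'R
    have hεv : ∀ v, ε v ∈ T ⊔ X := fun v => by rw [hεe, hβhe]; exact SetLike.coe_mem _
    have hεX : ∀ x : X, ε (Subgroup.inclusion le_sup_right x) = x := fun x => by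
      have h2 : ι' (Subgroup.inclusion le_sup_right x) = δX x := by
        rw [hι'e]
        refine (congrArg ι (Subtype.ext ?_)).trans
          (hιl ⟨δX x, Subgroup.mem_sup_right ⟨x, rfl⟩⟩ ⟨_, rfl⟩)
        exact (hηX x (Subgroup.mem_sup_right ⟨x, rfl⟩)).symm
      obtain ⟨x', hx'1, hx'2⟩ := hX'β ⟨δX x, x, rfl⟩
      obtain rfl : x' = x := F.injective_of_mem (h.dsub _ hδX) hx'1
      rw [hεe, hβhe, ← hx'2]
      exact congrArg (fun z => ((β z : ↥(T ⊔ X)) : Ω)) (Subtype.ext h2)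
    obtain ⟨εU, hεU, hεUe⟩ := exists_restrict hε (le_sup_left : (centralizerIn (T ⊔ X) X) ≤ (centralizerIn (T ⊔ X) X) ⊔ X)
    have hεUU : ∀ u, εU u ∈ (centralizerIn (T ⊔ X) X) := fun u => by rw [hεUe]; exact hcomm ε hεX hUG hεv u
    have hεG : εU ∈ G.Hom (centralizerIn (T ⊔ X) X) := (hG (centralizerIn (T ⊔ X) X)).ge ⟨hεU, hUG, fun u => hUG (hεUU u), ε, hε, fun u => (hεUe u).symm, hεX⟩
    obtain ⟨α, hα, hαe⟩ := exists_aut hεG hεUU
    refine ⟨α, hα, φ₀, hφ₀M, fun u hu => ?_⟩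
    rw [hαe, hεUe, hεe, hβhe, ← hψP u, hψe _ (hδR _)]
    refine congrArg (fun z => ((β z : ↥(T ⊔ X)) : Ω)) (Subtype.ext ?_)
    show δ _ = ι' _
    rw [hι'e]
    refine (hιl ⟨δ (Subgroup.inclusion le_sup_left u), hδm _⟩ ⟨_, rfl⟩).symm.trans (congrArg ι (Subtype.ext ?_))
    show η _ = φ₀ u
    rw [hφ₀e, hχe]
    rfl
  have hsc : G.StronglyClosed (centralizerIn (T ⊔ X) X) := by
    refine ⟨hUG, fun P hP φ hφ x => ?_⟩
    obtain ⟨α, hα, φ₀, hφ₀, he⟩ := hfrat P hP φ hφ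
    rw [he x (apply_mem hφ₀ x)]
    exact SetLike.coe_mem _
  refine ⟨hM₀s, hGs, fun P φ hφ => ?_, hsc, ?_, hfrat⟩
  · obtain ⟨h1, h2, h3, ψ, hψ, h4, h5⟩ := (hM P).le hφ
    exact (hG P).ge ⟨h.dsub P h1, h2.trans hUG, fun x => hUG (h3 x), ψ, h.dsub _ hψ, h4, h5⟩
  intro P hPU φ hφ α hα
  obtain ⟨-, -, hφU, χ, hχ, hχP, hχX⟩ := (hM P).le hφ
  obtain ⟨-, -, -, ε, hε, hεU, hεX⟩ := (hG (centralizerIn (T ⊔ X) X)).le ((mem_autGroup hUG).1 hα)
  obtain ⟨δ, hδ, β, hβ, hεe⟩ := h.exists_beta le_sup_right hVR hε fun x hx => hεX ⟨x, hx⟩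
  have hδR : ∀ v, δ v ∈ T ⊔ X := fun v => (h.pgen_mem hδ).2.2 v
  obtain ⟨δ₀, hδ₀, hδ₀e⟩ := exists_restrict hδ (sup_le_sup_right hPU X : P ⊔ X ≤ (centralizerIn (T ⊔ X) X) ⊔ X)
  obtain ⟨η₀, hη₀, hη₀r, hη₀l, -⟩ := exists_inv hδ₀ rfl
  have hχV : ∀ v, χ v ∈ (centralizerIn (T ⊔ X) X) ⊔ X := mapsTo_sup (fun u => by rw [hχP]; exact Subgroup.mem_sup_left (hφU u))
    fun x => by rw [hχX]; exact Subgroup.mem_sup_right x.2
  obtain ⟨χ', hχ', hχ'e⟩ := exists_comp hχ hδ hχV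
  obtain ⟨ω, hω, hωe⟩ := exists_comp hη₀ hχ' fun y => hη₀r.le ⟨y, rfl⟩
  obtain ⟨βh, hβh, hβhr, hβhe⟩ := exists_hom_of_aut h.hRS hβ
  obtain ⟨τ, hτ, hτe⟩ := h.pgen_transport (R₁ := T ⊔ X) hβh le_rfl (fun y _ => hβhr.le ⟨y, rfl⟩) hω
  set P' := (P.subgroupOf (centralizerIn (T ⊔ X) X)).map ((centralizerIn (T ⊔ X) X).subtype.comp α.toMonoidHom) with hP'
  have hεval : ∀ v, ε v = βh ⟨δ v, hδR v⟩ := fun v => by rw [hβhe, hεe v (hδR v)]
  have hmemW : ∀ v : ↥(P ⊔ X), ε (Subgroup.inclusion (sup_le_sup_right hPU X) v) ∈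
      (δ₀.range.subgroupOf (T ⊔ X)).map βh := fun v =>
    ⟨⟨δ (Subgroup.inclusion (sup_le_sup_right hPU X) v), hδR _⟩, ⟨v, hδ₀e v⟩, (hεval _).symm⟩
  have hW : P' ⊔ X ≤ (δ₀.range.subgroupOf (T ⊔ X)).map βh := by
    refine sup_le ?_ fun x hx => ?_
    · rintro _ ⟨u, hu, rfl⟩
      have := hmemW (Subgroup.inclusion le_sup_left ⟨u, hu⟩)
      rwa [show Subgroup.inclusion (sup_le_sup_right hPU X) (Subgroup.inclusion le_sup_left ⟨(u : Ω), hu⟩) =
        Subgroup.inclusion le_sup_left u from rfl, hεU] at this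
    · have := hmemW (Subgroup.inclusion le_sup_right ⟨x, hx⟩)
      rwa [show Subgroup.inclusion (sup_le_sup_right hPU X) (Subgroup.inclusion le_sup_right ⟨x, hx⟩) =
        Subgroup.inclusion le_sup_right ⟨x, hx⟩ from rfl, hεX] at this
  obtain ⟨τ', hτ', hτ'e⟩ := exists_restrict (F := h.dSys) hτ hW
  have hval : ∀ (v : ↥(P ⊔ X)), τ ⟨_, hmemW v⟩ =
      ε ⟨χ v, hχV v⟩ := fun v => by
    have hv' : δ₀ v ∈ T ⊔ X := apply_mem hδ₀ v
    have h1 := hτe ⟨δ₀ v, v, rfl⟩ hv' (apply_mem hω _)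
    refine (congrArg τ (Subtype.ext ?_)).trans (h1.trans ?_)
    · exact (hεval _).trans (congrArg βh (Subtype.ext (hδ₀e v).symm))
    · rw [hεval]
      refine congrArg βh (Subtype.ext ?_)
      show ω _ = δ _
      rw [hωe, hχ'e]
      exact congrArg δ (Subtype.ext (congrArg χ (Subtype.ext (hη₀l v ⟨v, rfl⟩))))
  have hτX : ∀ x : X, τ' (Subgroup.inclusion le_sup_right x) = x := fun x => by
    rw [hτ'e]
    refine (congrArg τ (Subtype.ext ?_)).trans ((hval (Subgroup.inclusion le_sup_right x)).trans ?_)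
    · exact (hεX x).symm
    · refine (congrArg ε (Subtype.ext (hχX x) : _ = Subgroup.inclusion le_sup_right x)).trans (hεX x)
  have hP'U : P' ≤ (centralizerIn (T ⊔ X) X) := by rintro _ ⟨u, -, rfl⟩; exact (α u).2
  obtain ⟨χ₁, hχ₁, hχ₁e⟩ := exists_restrict hτ' (le_sup_left : P' ≤ P' ⊔ X)
  refine ⟨χ₁, (hM P').ge ⟨hχ₁, hP'U, fun u => ?_, τ', hτ', fun u => (hχ₁e u).symm, hτX⟩, fun x hφx hαx => ?_⟩
  · rw [hχ₁e]; exact hcomm τ' hτX (hP'U.trans hUG) (fun v => apply_mem hτ' v) u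
  · rw [hχ₁e, hτ'e]
    refine (congrArg τ (Subtype.ext ?_)).trans ((hval (Subgroup.inclusion le_sup_left x)).trans ?_)
    · exact (hεU ⟨x, hPU x.2⟩).symm
    · refine (congrArg ε (Subtype.ext (hχP x) : _ = Subgroup.inclusion le_sup_left ⟨φ x, hφx⟩)).trans ?_
      exact hεU ⟨φ x, hφx⟩

/-- A normal subsystem of `C_F(X)` over `C_R(X)` inside the product. -/
theorem exists_normal_in_centralizer (hX : F.IsFullyNormalized X) (hG : F.IsCentralizerSystem X G) :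
    ∃ M : FusionSystem (centralizerIn (T ⊔ X) X), M.IsNormalIn G p ∧ M.IsSubsystemOf h.dSys := by
  haveI := h.finR
  haveI := finite_sub (centralizerIn_le (S := S) X)
  obtain ⟨M₀, hM₀⟩ := exists_centralizerSystem h.dSys (le_sup_right : X ≤ T ⊔ X)
  have hw := h.centralizer_weaklyNormal hX hG hM₀
  haveI := finite_sub (centralizerIn_le (S := T ⊔ X) X)
  obtain ⟨M, hM⟩ := FusionP3.Prime.exists_residual (isPGroup_of_le h.pR (centralizerIn_le X)) hw.1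
  exact ⟨M, FusionP3.Prime.Normality.residual_isNormalIn (isPGroup_of_le h.hS (centralizerIn_le X)) hw hM,
    fun P φ hφ => ((hM₀ P).le (hM.2.1.1 P hφ)).1⟩

end Setting

end Cfsg.Agent.Lib.FS.ES
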