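import Cfsg.Agent.Lib.FusionSystem.ES.Sys
import Cfsg.Agent.Lib.FusionP3.Criterion.Main

/-!
The automiser of a fully normalised member of a class in the product, when all larger subgroups are good.
-/

set_option autoImplicit false
set_option linter.style.haveILetI false
set_option linter.unusedSectionVars false

namespace Cfsg.Agent.Lib.FS.ES

open Cfsg Cfsg.FusionSystem Cfsg.Agent.Lib Cfsg.Agent.Lib.FS
open Cfsg.Agent.Lib.FusionP3.GT (preserve res res_coe res_mem_autGroup)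
open Cfsg.Agent.Lib.FusionP3.Criterion (Good Aligned exists_aligned extend_to_aligned Full Join join_of_step
  map_eq_iff full_refl FullEquiv exists_fullEquiv map_eq_of_equiv fullEquiv_refl apply_mem_normalizer
  exists_sylow_of_catches)
open Cfsg.Agent.Lib.FS.NormalCentralizer (closure_prime_to_sup_sylow)
open Cfsg.Agent.Lib.FS.CentralLift (congr_apply_map)

variable {Ω : Type*} [Group Ω] {S T R : Subgroup Ω} [Finite S] {p : ℕ} [hp : Fact p.Prime]
  {F : FusionSystem S} {E : FusionSystem T}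

/-- A fully normalised member `P` of a class of order `n`, all larger subgroups being good. -/
structure Cls (h : Setting F E R p) (n : ℕ) (P : Subgroup Ω) : Prop where
  inH : InH F T R P
  card_eq : Nat.card P = n
  fn : h.dSys.IsFullyNormalized P
  lt : n < Nat.card R
  big : ∀ Q : Subgroup Ω, Q ≤ R → n < Nat.card Q → ∃ Q', h.dSys.IsConj Q Q' ∧ Good h.dSys p Q'

/-- The automorphisms generated by `R` and by the generating automorphisms of `P`. -/
def lSub (F : FusionSystem S) (E : FusionSystem T) (p : ℕ) (R P : Subgroup Ω) : Subgroup (MulAut P) :=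
  Subgroup.closure {a | IsKGen F E p P a} ⊔ autInducedBy R P

/-- What is known for the subgroups of order at least `m` between `P` and `N_R(P)`. -/
def LClaimed (h : Setting F E R p) (P : Subgroup Ω) (m : ℕ) : Prop :=
  ∀ R' : Subgroup Ω, P < R' → R' ≤ normalizerIn R P → m ≤ Nat.card R' → ∀ ψ ∈ h.dSys.Hom R', ∀ a : MulAut P,
    (∀ (x : P) (hx : (x : Ω) ∈ R'), ψ ⟨x, hx⟩ = a x) → a ∈ lSub F E p R P

variable {h : Setting F E R p} {n : ℕ} {P : Subgroup Ω}

theorem lSub_le (hP : InH F T R P) : lSub F E p R P ≤ h.dSys.autGroup P :=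
  sup_le ((Subgroup.closure_le _).2 fun _ ha => h.kgen_mem_d hP ha) (autInducedBy_le_autGroup _ hP.1)

namespace Cls

variable (c : Cls h n P)
include c

theorem le : P ≤ R := c.inH.1

theorem inH_of_conj {A : Subgroup Ω} (hA : h.dSys.IsConj A P) : InH F T R A :=
  h.d_inH c.inH (isConj_symm hA)

theorem join_of_pgen {X : Subgroup Ω} {φ : X →* Ω} (hg : PGen F E p R φ) :
    ∀ A : Subgroup Ω, A ≤ X → Nat.card A = n → Join h.dSys A ((A.subgroupOf X).map φ) := by
  haveI := h.finR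
  induction hg with
  | @conj X φ g hgR hX he =>
    intro A hA hn
    have hAR := hA.trans hX
    obtain ⟨θ, hθ, hθe⟩ : ∃ θ ∈ h.dSys.Hom (normalizerIn R A), ∀ x, θ x = g * x * g⁻¹ :=
      ⟨_, h.dSys.conj_mem (normalizerIn_le A) hgR, fun _ => rfl⟩
    have hC : (A.subgroupOf X).map φ ≤ R := by
      rintro _ ⟨x, -, rfl⟩
      exact (h.pgen_mem (PGen.conj φ g hgR hX he)).2.2 x
    refine ⟨_, ⟨θ, hθ, ?_⟩, full_refl hC⟩
    ext y
    constructor
    · rintro ⟨x, hx, rfl⟩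
      exact ⟨⟨x, hA hx⟩, hx, (he _).trans (hθe x).symm⟩
    · rintro ⟨x, hx, rfl⟩
      exact ⟨⟨x, le_normalizerIn hAR hx⟩, hx, (hθe _).trans (he x).symm⟩
  | @kgen X W φ a hW ha hle he =>
    intro A hA hn
    have hAW : A ≤ W := hA.trans hle
    haveI := finite_sub hW.1
    rcases hAW.eq_or_lt with rfl | hlt
    · have hX : X = A := le_antisymm hle hA
      subst hX
      have hr : (X.subgroupOf X).map φ = X := by
        ext y
        constructor
        · rintro ⟨x, -, rfl⟩; rw [he]; exact SetLike.coe_mem _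
        · intro hy
          refine ⟨a⁻¹ ⟨y, hy⟩, (a⁻¹ ⟨y, hy⟩).2, ?_⟩
          rw [he]
          exact congrArg Subtype.val (MulAut.apply_inv_self _ a ⟨y, hy⟩)
      rw [hr]
      exact ⟨X, full_refl hW.1, full_refl hW.1⟩
    have hψ : W.subtype.comp a.toMonoidHom ∈ h.dSys.Hom W := PGen.kgen _ a hW ha le_rfl fun _ => rfl
    have hlt' := FusionP3.Induction.lt_normalizerIn (isPGroup_of_le h.pR hW.1) hlt
    obtain ⟨ψ, hψ', hψe⟩ := exists_restrict hψ (normalizerIn_le (S := W) A)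
    refine join_of_step h.pR c.big hψ' hn hlt'.le (fun g hg => ⟨hW.1 hg.1, hg.2⟩) hlt' ?_
    ext y
    constructor
    · rintro ⟨x, hx, rfl⟩
      exact ⟨⟨x, hA hx⟩, hx, (he _).trans (hψe x).symm⟩
    · rintro ⟨x, hx, rfl⟩
      exact ⟨⟨x, hlt'.le hx⟩, hx, (hψe _).trans (he x).symm⟩
  | @comp X Q φ ψ χ hgφ hgψ hm he ihφ ihψ =>
    intro A hA hn
    set B := (A.subgroupOf X).map φ
    have hX := (h.pgen_mem hgφ).2.1
    have hcB : Nat.card B = n := by
      rw [Subgroup.card_map_of_injective (F.injective_of_mem (h.pgen_mem hgφ).1),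
        Nat.card_congr (Subgroup.subgroupOfEquivOfLe hA).toEquiv, hn]
    have hBQ : B ≤ Q := by rintro _ ⟨x, -, rfl⟩; exact hm x
    have h3 : (A.subgroupOf X).map χ = (B.subgroupOf Q).map ψ := by
      ext y
      constructor
      · rintro ⟨x, hx, rfl⟩; exact ⟨⟨φ x, hm x⟩, ⟨x, hx, rfl⟩, (he x).symm⟩
      · rintro ⟨z, ⟨x, hx, hxz⟩, rfl⟩
        exact ⟨x, hx, (he x).trans (congrArg ψ (Subtype.ext hxz))⟩
    rw [h3]
    refine Join.trans h.pR c.lt c.big (hA.trans hX) ?_ ?_ hcB (ihφ A hA hn) (ihψ B hBQ hcB)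
    · exact hBQ.trans (h.pgen_mem hgψ).2.1
    · rintro _ ⟨x, -, rfl⟩; exact (h.pgen_mem hgψ).2.2 x

theorem full {A : Subgroup Ω} (hA : h.dSys.IsConj A P) : Full h.dSys A P := by
  haveI := h.finR
  obtain ⟨φ, hφ, hr⟩ := id hA
  have h1 := c.join_of_pgen hφ A le_rfl ((isConj_card hA).symm.trans c.card_eq)
  rw [Subgroup.subgroupOf_self, ← MonoidHom.range_eq_map, hr] at h1
  obtain ⟨C, hAC, hPC⟩ := h1
  exact hAC.trans (isConj_le_left hA) (hPC.symm c.le (c.fn.2 C (hPC.le_left c.le)))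

/-- The stabiliser of `A` in an aligned automiser is carried into `lSub`. -/
theorem mem_of_aligned {A Q : Subgroup Ω} (hQ : h.dSys.IsFullyAutomized p Q) (hal : Aligned h.dSys p A Q)
    {eQ : A ≃* P} (heQ : FullEquiv h.dSys eQ) {k : MulAut Q} (hk : k ∈ h.dSys.autGroup Q)
    (hkp : k ∈ preserve A Q) : (eQ.symm.trans ((res hal.1 ⟨k, hkp⟩).trans eQ) : MulAut P) ∈ lSub F E p R P := by
  haveI := h.finR
  haveI := finite_sub hQ.1
  haveI := FusionP3.GT.finite_mulAut ↥Q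
  have hAR : A ≤ R := hal.1.trans hQ.1
  obtain ⟨θ, hθ, hθe⟩ := heQ
  obtain ⟨φ, hφ, hφe⟩ := exists_restrict hθ (le_normalizerIn hAR)
  have hval : ∀ x : A, φ x = ((eQ x : P) : Ω) := fun x => (hφe x).trans (hθe x _)
  have hmap := map_eq_of_equiv (le_normalizerIn hAR) eQ hθe
  have hr : φ.range = P := by
    ext y
    constructor
    · rintro ⟨x, rfl⟩; rw [hval]; exact SetLike.coe_mem _
    · intro hy
      exact ⟨eQ.symm ⟨y, hy⟩, by rw [hval, MulEquiv.apply_symm_apply]⟩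
  have heq : homEquiv hφ hr = eQ := MulEquiv.ext fun x => Subtype.ext (hval x)
  set K := h.dSys.autGroup Q ⊓ preserve A Q with hK
  set f : K →* MulAut P := ((MulAut.congr eQ).toMonoidHom.comp (res hal.1)).comp
    (Subgroup.inclusion (inf_le_right : K ≤ preserve A Q)) with hf
  set U := K ⊓ autInducedBy R Q with hU
  obtain ⟨Sy, hSy⟩ := exists_sylow_of_catches (p := p) (inf_le_left : U ≤ K)
    ((isPGroup_autInducedBy h.pR Q).to_le inf_le_right) fun Z hZ hZp => by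
      obtain ⟨b, hb, hbZ⟩ := hal.2 Z hZ hZp
      exact ⟨b, fun z hz => ⟨mul_mem (mul_mem hb (hZ hz)) (K.inv_mem hb), hbZ z hz⟩⟩
  have key : (⊤ : Subgroup K) ≤ (lSub F E p R P).comap f := by
    rw [← closure_prime_to_sup_sylow Sy]
    refine sup_le ((Subgroup.closure_le _).2 fun x hx => ?_) fun x hx => ?_
    · refine Subgroup.mem_sup_left (Subgroup.subset_closure (h.coprime_aut_kgen c.le ?_ fun hd =>
        hx (hd.trans (orderOf_map_dvd f x))))
      show MulAut.congr eQ (res hal.1 ⟨(x : MulAut Q), x.2.2⟩) ∈ h.dSys.autGroup P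
      rw [← heq]
      exact congr_mem_autGroup hφ hr (res_mem_autGroup hal.1 hQ.1 x.2.1)
    · rw [hSy, Subgroup.mem_subgroupOf] at hx
      obtain ⟨g, hg, hge⟩ := mem_autInducedBy.1 hx.2
      haveI := finite_sub hAR
      have hgA : g ∈ normalizerIn R A := ⟨hg, mem_normalizer_of_conj_mem fun a ha => by
        rw [← hge ⟨a, hal.1 ha⟩]
        exact (x.2.2 _).1 ha⟩
      refine Subgroup.mem_sup_right (mem_autInducedBy.2 ⟨θ ⟨g, hgA⟩, apply_mem hθ _, fun y => ?_⟩)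
      obtain ⟨z, rfl⟩ := eQ.surjective y
      show ((eQ (res hal.1 ⟨(x : MulAut Q), x.2.2⟩ (eQ.symm (eQ z))) : P) : Ω) = _
      rw [MulEquiv.symm_apply_apply, ← hθe _ (le_normalizerIn hAR (res hal.1 _ z).2),
        ← hθe z (le_normalizerIn hAR z.2), ← map_inv, ← map_mul, ← map_mul]
      exact congrArg θ (Subtype.ext (hge (Subgroup.inclusion hal.1 z)))
  exact key (Subgroup.mem_top (⟨k, hk, hkp⟩ : K))

/-- A map between two conjugates of `P` defined beyond them induces an element of `lSub`. -/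
theorem step {m : ℕ} (hC : LClaimed h P m) {A B D : Subgroup Ω} {eA : A ≃* P} {eB : B ≃* P}
    (hA : FullEquiv h.dSys eA) (hB : FullEquiv h.dSys eB) (f : A ≃* B) {δ : D →* Ω} (hδ : δ ∈ h.dSys.Hom D)
    (hAD : A < D) (hDN : D ≤ normalizerIn R A) (hm : m ≤ Nat.card D)
    (hf : ∀ (x : A) (hx : (x : Ω) ∈ D), δ ⟨x, hx⟩ = f x) :
    (eA.symm.trans (f.trans eB) : MulAut P) ∈ lSub F E p R P := by
  haveI := h.finR
  obtain ⟨θA, hθA, hθAe⟩ := hA
  obtain ⟨θB, hθB, hθBe⟩ := hB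
  have hAR : A ≤ R := hAD.le.trans (src_le hδ)
  have hmapA := map_eq_of_equiv (le_normalizerIn hAR) eA hθAe
  haveI := finite_sub (src_le hδ)
  obtain ⟨ρ, hρ, hρe⟩ := exists_restrict hθA hDN
  obtain ⟨η, hη, hηr, hηl, -⟩ := exists_inv hρ rfl
  have hmapD := map_eq_of_equiv hAD.le f hf
  obtain ⟨χ₁, hχ₁, hχ₁e⟩ := exists_comp hη hδ fun y => hηr.le ⟨y, rfl⟩
  have hBR : B ≤ R := by rw [← hmapD]; rintro _ ⟨x, -, rfl⟩; exact apply_mem hδ x
  haveI := finite_sub hBR
  obtain ⟨χ, hχ, hχe⟩ := exists_comp hχ₁ hθB fun y => by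
    rw [hχ₁e]
    exact apply_mem_normalizerIn hδ hAD.le hmapD _ (hDN (hηr.le ⟨y, rfl⟩)).2
  have hPle : P ≤ ρ.range := fun y hy => by
    refine ⟨⟨(eA.symm ⟨y, hy⟩ : A), hAD.le (eA.symm ⟨y, hy⟩).2⟩, ?_⟩
    rw [hρe, hθAe, eA.apply_symm_apply]
  refine hC ρ.range (lt_of_le_of_ne hPle fun he => hAD.ne ?_) ?_ (by rwa [card_range hρ]) χ hχ _ ?_
  · have h1 := congrArg (fun X : Subgroup Ω => Nat.card X) he
    simp only [card_range hρ, ← Nat.card_congr eA.toEquiv] at h1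
    exact Subgroup.eq_of_le_of_card_ge hAD.le h1.ge
  · rintro _ ⟨x, rfl⟩
    rw [hρe]
    exact apply_mem_normalizer hAR hθA hmapA _
  · intro x hx
    have hv : ρ ⟨(eA.symm x : A), hAD.le (eA.symm x).2⟩ = (x : Ω) := by
      rw [hρe, hθAe, eA.apply_symm_apply]
    have hxe : (⟨x, hx⟩ : ρ.range) =
        ⟨ρ ⟨(eA.symm x : A), hAD.le (eA.symm x).2⟩, _, rfl⟩ := Subtype.ext hv.symm
    have h2 : χ₁ ⟨x, hx⟩ = f (eA.symm x) := by
      rw [hχ₁e, ← hf (eA.symm x) (hAD.le (eA.symm x).2)]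
      refine congrArg δ (Subtype.ext ?_)
      exact (congrArg η hxe).trans (hηl _ _)
    rw [hχe]
    refine Eq.trans ?_ (hθBe (f (eA.symm x)) (le_normalizerIn hBR (f (eA.symm x)).2))
    exact congrArg θB (Subtype.ext h2)

theorem claimed : LClaimed h P 0 := by
  haveI := h.finR
  suffices key : ∀ d m : ℕ, Nat.card R + 1 - m ≤ d → LClaimed h P m from key _ 0 le_rfl
  intro d
  induction d with
  | zero =>
    intro m hm R' hPR hRN hmR ψ hψ a ha
    have := Subgroup.card_le_of_le (src_le hψ)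
    omega
  | succ d ih =>
    intro m hm R' hPR hRN hmR ψ hψ a ha
    have hPR₀ := c.le
    haveI := finite_sub hPR₀
    have hR := src_le hψ
    haveI := finite_sub hR
    haveI := finite_sub (normalizerIn_le (S := R) P)
    have hmap := map_eq_of_equiv hPR.le a ha
    set R'' := ψ.range with hR''
    have hR''N : R'' ≤ normalizerIn R P := by
      rintro _ ⟨x, rfl⟩
      exact apply_mem_normalizerIn hψ hPR.le hmap x (hRN x.2).2
    obtain ⟨η, hη, hηr, hηl, -⟩ := exists_inv hψ hR''.symm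
    have hPR'' : P ≤ R'' := fun y hy => ⟨⟨(a.symm ⟨y, hy⟩ : P), hPR.le (a.symm ⟨y, hy⟩).2⟩, by
      rw [ha, MulEquiv.apply_symm_apply]⟩
    -- an aligned conjugate `Q` of `R'`
    have hcR : n < Nat.card R' := by
      rw [← c.card_eq]; exact lt_of_not_ge fun he => hPR.ne (Subgroup.eq_of_le_of_card_ge hPR.le he)
    obtain ⟨Q, ⟨γ₀, hγ₀, hγ₀r⟩, hQa, hQr⟩ := c.big R' hR hcR
    haveI := finite_sub hQa.1
    obtain ⟨a₀, ha₀, A, hal, hmem⟩ := exists_aligned hQa
      ((Subgroup.map_le_range γ₀ (P.subgroupOf R')).trans hγ₀r.le)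
    obtain ⟨τ, hτ, hτr, hτa⟩ := exists_hom_of_aut hQa.1 ha₀
    obtain ⟨γ, hγ, hγe⟩ := exists_comp hγ₀ hτ fun x => hγ₀r.le ⟨x, rfl⟩
    have hγr : γ.range = Q := range_eq_of_mem hγ
      (fun x => by rw [hγe, hτa]; exact SetLike.coe_mem _) (isConj_card ⟨γ₀, hγ₀, hγ₀r⟩).le
    have hγP : ∀ x : R', (x : Ω) ∈ P ↔ γ x ∈ A := by
      intro x
      rw [hγe, hτa, ← hmem]
      exact ((map_eq_iff hPR.le hγ₀).1 rfl).1 x
    have hγQ : ∀ x : R', γ x ∈ Q := fun x => hγr.le ⟨x, rfl⟩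
    have hγA : (P.subgroupOf R').map γ = A :=
      (map_eq_iff hPR.le hγ).2 ⟨hγP, hal.1.trans hγr.ge⟩
    have hAP : h.dSys.IsConj A P := by
      obtain ⟨γP, hγPm, hγPe⟩ := exists_restrict hγ hPR.le
      refine isConj_symm ⟨γP, hγPm, ?_⟩
      ext y
      rw [← hγA]
      constructor
      · rintro ⟨x, rfl⟩; rw [hγPe]; exact ⟨_, x.2, rfl⟩
      · rintro ⟨x, hx, rfl⟩; exact ⟨⟨x, hx⟩, hγPe _⟩
    have hAR : A ≤ R := isConj_le_left hAP
    haveI := finite_sub hAR
    haveI := finite_sub (normalizerIn_le (S := R) A)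
    rcases hRN.eq_or_lt with hRN' | hRN'
    · -- `R'` is the whole normaliser
      have hψr : ψ.range = R' := range_eq_of_mem hψ (fun x => hRN'.ge (hR''N ⟨x, rfl⟩)) le_rfl
      set b := homEquiv hψ hψr with hb
      have hbF : b ∈ h.dSys.autGroup R' := homEquiv_mem_autGroup hψ hψr
      set k := MulAut.congr (homEquiv hγ hγr) b with hk
      have hkF : k ∈ h.dSys.autGroup Q := congr_mem_autGroup hγ hγr hbF
      have hkp : k ∈ preserve A Q := by
        intro y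
        obtain ⟨x, rfl⟩ := (homEquiv hγ hγr).surjective y
        rw [hk, congr_apply_map, homEquiv_coe, ← hγP, ← hγP]
        exact ((map_eq_iff hPR.le hψ).1 hmap).1 x
      -- the inverse of `γ` is defined on `N_R(A) = Q`
      have hQA : Q ≤ normalizerIn R A := by
        rw [← hγr]
        rintro _ ⟨x, rfl⟩
        exact apply_mem_normalizerIn hγ hPR.le hγA x (hRN x.2).2
      have hQeq : Q = normalizerIn R A := Subgroup.eq_of_le_of_card_ge hQA (by
        rw [isConj_card ⟨γ, hγ, hγr⟩, hRN']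
        exact c.fn.2 A (isConj_symm hAP))
      obtain ⟨γi, hγi, hγir, hγl, hγrr⟩ := exists_inv hγ hγr
      obtain ⟨θ, hθ, hθe⟩ := exists_restrict hγi hQeq.ge
      obtain ⟨γP, hγPm, hγPe⟩ := exists_restrict hγ hPR.le
      have hγPr : γP.range = A := by
        rw [← hγA]
        ext y
        constructor
        · rintro ⟨x, rfl⟩; exact ⟨_, x.2, (hγPe x).symm⟩
        · rintro ⟨x, hx, rfl⟩; exact ⟨⟨x, hx⟩, hγPe _⟩
      set eQ := (homEquiv hγPm hγPr).symm with heQdef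
      have heQ : FullEquiv h.dSys eQ := ⟨θ, hθ, fun x hx => by
        obtain ⟨z, rfl⟩ := (homEquiv hγPm hγPr).surjective x
        rw [heQdef, MulEquiv.symm_apply_apply, hθe]
        refine (congrArg γi (Subtype.ext ?_)).trans (hγl ⟨z, hPR.le z.2⟩ (hγQ _))
        exact hγPe z⟩
      have h1 := c.mem_of_aligned hQa hal heQ hkF hkp
      convert h1 using 1
      refine MulEquiv.ext fun x => ?_
      show a x = eQ (res hal.1 ⟨k, hkp⟩ (eQ.symm x))
      rw [heQdef, MulEquiv.symm_symm, MulEquiv.eq_symm_apply]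
      apply Subtype.ext
      rw [res_coe, homEquiv_coe, hγPe,
        show Subgroup.inclusion hal.1 (homEquiv hγPm hγPr x) = homEquiv hγ hγr ⟨x, hPR.le x.2⟩ from
          Subtype.ext (hγPe x)]
      show γ _ = ((k (homEquiv hγ hγr ⟨x, hPR.le x.2⟩) : Q) : Ω)
      rw [hk, congr_apply_map]
      exact congrArg γ (Subtype.ext (ha x (hPR.le x.2)).symm)
    have hR''lt : R'' < normalizerIn R P := lt_of_le_of_ne hR''N fun he => hRN'.ne
      (Subgroup.eq_of_le_of_card_ge hRN (by rw [← he, hR'', card_range hψ]))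
    obtain ⟨γ', hγ', hγ'e⟩ := exists_comp hη hγ fun y => hηr.le ⟨y, rfl⟩
    have hγ'r : γ'.range = Q := range_eq_of_mem hγ' (fun y => by rw [hγ'e]; exact hγQ _)
      (by rw [isConj_card ⟨γ, hγ, hγr⟩, card_range hψ])
    have hγ'P : ∀ y : R'', (y : Ω) ∈ P ↔ γ' y ∈ A := by
      intro y
      rw [hγ'e, ← hγP]
      obtain ⟨_, x, rfl⟩ := y
      show _ ↔ η _ ∈ P
      rw [hηl x ⟨x, rfl⟩]
      exact (((map_eq_iff hPR.le hψ).1 hmap).1 x).symm
    have hγ'ψ : ∀ x : R', γ' ⟨ψ x, x, rfl⟩ = γ x := fun x => by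
      rw [hγ'e]
      exact congrArg γ (Subtype.ext (hηl x _))
    obtain ⟨eQ, heQ⟩ := exists_fullEquiv hAR (c.full hAP)
    -- extensions of `γ` and `γ'`
    set D₁ := normalizerIn R R' ⊓ normalizerIn R P with hD₁def
    set D₂ := normalizerIn R R'' ⊓ normalizerIn R P with hD₂def
    obtain ⟨b₁, hb₁, ξ₁, hξ₁, hξ₁e⟩ : ∃ b ∈ h.dSys.autGroup Q ⊓ preserve A Q, ∃ ξ ∈ h.dSys.Hom D₁,
        ∀ (x : R') (hx : (x : Ω) ∈ D₁) (hy : γ x ∈ Q), ξ ⟨x, hx⟩ = (b ⟨γ x, hy⟩ : Q) :=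
      extend_to_aligned h.pR hQr hal hγ hγr hγP
    obtain ⟨b₂, hb₂, ξ₂, hξ₂, hξ₂e⟩ : ∃ b ∈ h.dSys.autGroup Q ⊓ preserve A Q, ∃ ξ ∈ h.dSys.Hom D₂,
        ∀ (x : R'') (hx : (x : Ω) ∈ D₂) (hy : γ' x ∈ Q), ξ ⟨x, hx⟩ = (b ⟨γ' x, hy⟩ : Q) :=
      extend_to_aligned h.pR hQr hal hγ' hγ'r hγ'P
    have hRD₁ : R' ≤ D₁ := le_inf (le_normalizerIn hR) hRN
    have hR''D₂ : R'' ≤ D₂ := le_inf (le_normalizerIn (range_le_base hψ)) hR''N
    haveI := finite_sub (inf_le_left.trans (normalizerIn_le R') : D₁ ≤ R)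
    haveI := finite_sub (inf_le_left.trans (normalizerIn_le R'') : D₂ ≤ R)
    have grow : ∀ X : Subgroup Ω, X < normalizerIn R P →
        Nat.card X < Nat.card ↥(normalizerIn R X ⊓ normalizerIn R P) := by
      intro X hX
      have hXR : X ≤ R := hX.le.trans (normalizerIn_le P)
      haveI := finite_sub (inf_le_left.trans (normalizerIn_le X) : normalizerIn R X ⊓ normalizerIn R P ≤ R)
      have h1 := FusionP3.Induction.lt_normalizerIn (isPGroup_of_le h.pR (normalizerIn_le (S := R) P)) hX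
      have hle : X ≤ normalizerIn R X ⊓ normalizerIn R P := le_inf (le_normalizerIn hXR) hX.le
      refine lt_of_not_ge fun he => h1.not_ge (le_trans ?_ (Subgroup.eq_of_le_of_card_ge hle he).ge)
      exact fun g hg => ⟨⟨normalizerIn_le P hg.1, hg.2⟩, hg.1⟩
    have hD₁ : Nat.card R' < Nat.card D₁ := grow R' hRN'
    have hD₂ : Nat.card R' < Nat.card D₂ := by
      rw [← card_range hψ]; exact grow R'' hR''lt
    have hC : LClaimed h P (Nat.card R' + 1) := ih _ (by omega)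
    have hξ₁r : ∀ x : R', ξ₁ ⟨x, hRD₁ x.2⟩ = (b₁ ⟨γ x, hγQ x⟩ : Q) := fun x => hξ₁e x _ _
    obtain ⟨φ₁, hφ₁, hφ₁e⟩ := exists_restrict hξ₁ (hPR.le.trans hRD₁)
    have hφ₁r : φ₁.range = A := by
      refine range_eq_of_mem hφ₁ (fun x => ?_) (isConj_card hAP).ge
      rw [hφ₁e, show (⟨(x : Ω), (hPR.le.trans hRD₁) x.2⟩ : D₁) =
        ⟨((⟨x, hPR.le x.2⟩ : R') : Ω), hRD₁ (hPR.le x.2)⟩ from rfl, hξ₁r]
      exact (hb₁.2 _).1 ((hγP ⟨x, hPR.le x.2⟩).1 x.2)
    set f₁ := homEquiv hφ₁ hφ₁r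
    have ha₁ := c.step hC (fullEquiv_refl hPR₀) heQ f₁ hξ₁ (hPR.trans_le hRD₁) inf_le_right hD₁
      (fun x hx => (hφ₁e x).symm)
    obtain ⟨bb, hbb, hbbp, hbb'⟩ : ∃ bb : MulAut Q, bb ∈ h.dSys.autGroup Q ∧ ∃ hbbp : bb ∈ preserve A Q,
        ∀ (x : P) (hx : ((a x : P) : Ω) ∈ D₂),
          ξ₂ ⟨(a x : P), hx⟩ = (res hal.1 ⟨bb, hbbp⟩ (f₁ x) : A) := by
      refine ⟨b₂ * b₁⁻¹, mul_mem hb₂.1 ((h.dSys.autGroup Q).inv_mem hb₁.1),
        mul_mem hb₂.2 ((preserve A Q).inv_mem hb₁.2), fun x hx => ?_⟩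
      have hx' : ((a x : P) : Ω) ∈ R'' := hPR'' (a x).2
      rw [hξ₂e ⟨(a x : P), hx'⟩ hx (hγ'r.le ⟨_, rfl⟩), res_coe, MulAut.mul_apply]
      refine congrArg (fun z => ((b₂ z : Q) : Ω)) (b₁.injective ?_)
      rw [MulAut.apply_inv_self]
      apply Subtype.ext
      show ((b₁ _ : Q) : Ω) = φ₁ x
      rw [hφ₁e, show (⟨(x : Ω), (hPR.le.trans hRD₁) x.2⟩ : D₁) =
        ⟨((⟨x, hPR.le x.2⟩ : R') : Ω), hRD₁ (hPR.le x.2)⟩ from rfl, hξ₁r]
      refine congrArg (fun z => ((b₁ z : Q) : Ω)) (Subtype.ext ?_)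
      exact (congrArg γ' (Subtype.ext (ha x (hPR.le x.2)).symm)).trans (hγ'ψ ⟨x, hPR.le x.2⟩)
    set β : MulAut A := res hal.1 ⟨bb, hbbp⟩ with hβ
    have ha₂ := c.step hC (fullEquiv_refl hPR₀) heQ ((a⁻¹ : MulAut P).trans (f₁.trans β)) hξ₂
      (lt_of_lt_of_le (lt_of_le_of_ne hPR'' fun he => by
        have h1 := congrArg (fun X : Subgroup Ω => Nat.card X) he
        simp only [hR'', card_range hψ, c.card_eq] at h1
        omega) hR''D₂) inf_le_right hD₂ (fun x hx => by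
        obtain ⟨z, rfl⟩ := a.surjective x
        rw [hbb' z hx]
        simp [hβ])
    have hβL := c.mem_of_aligned hQa hal heQ hbb hbbp
    have key : a = ((MulEquiv.refl P).symm.trans (((a⁻¹ : MulAut P).trans (f₁.trans β)).trans eQ) : MulAut P)⁻¹ *
        (eQ.symm.trans ((res hal.1 ⟨bb, hbbp⟩).trans eQ) : MulAut P) *
        ((MulEquiv.refl P).symm.trans (f₁.trans eQ)) := by
      rw [mul_assoc, eq_inv_mul_iff_mul_eq]
      refine MulEquiv.ext fun x => ?_
      show eQ (β (f₁ (a⁻¹ (a x)))) = eQ (res hal.1 ⟨bb, hbbp⟩ (eQ.symm (eQ (f₁ x))))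
      rw [MulAut.inv_apply_self, MulEquiv.symm_apply_apply, hβ]
    rw [key]
    exact mul_mem (mul_mem (inv_mem ha₂) hβL) ha₁

theorem conn {X : Subgroup Ω} {φ : X →* Ω} (hg : PGen F E p R φ) :
    ∀ (A B : Subgroup Ω) (eA : A ≃* P) (eB : B ≃* P), FullEquiv h.dSys eA → FullEquiv h.dSys eB →
      h.dSys.IsConj A P → (hAX : A ≤ X) → ∀ f : A ≃* B, (∀ x : A, φ ⟨x, hAX x.2⟩ = f x) →
        (eA.symm.trans (f.trans eB) : MulAut P) ∈ lSub F E p R P := by
  haveI := h.finR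
  have hlt : ∀ A : Subgroup Ω, h.dSys.IsConj A P → A < normalizerIn R A := fun A hA =>
    FusionP3.Induction.lt_normalizerIn h.pR (lt_of_le_of_ne (isConj_le_left hA) fun he => by
      have h1 := (isConj_card hA).symm.trans c.card_eq
      rw [he] at h1
      exact c.lt.ne h1.symm)
  induction hg with
  | @conj X φ g hgR hX he =>
    intro A B eA eB heA heB hA hAX f hf
    exact c.step c.claimed heA heB f (h.dSys.conj_mem (normalizerIn_le A) hgR) (hlt A hA) le_rfl (Nat.zero_le _)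
      fun x hx => ((conjHom_apply _ _ _).trans (he ⟨x, hAX x.2⟩).symm).trans (hf x)
  | @kgen X W φ a hW ha hle he =>
    intro A B eA eB heA heB hA hAX f hf
    have hAW : A ≤ W := hAX.trans hle
    haveI := finite_sub hW.1
    rcases hAW.eq_or_lt with rfl | hlt'
    · have hX : X = A := le_antisymm hle hAX
      subst hX
      have hBX : B = X := by
        ext y
        constructor
        · intro hy
          obtain ⟨x, hx⟩ := f.surjective ⟨y, hy⟩
          have h1 : φ x = y := (hf x).trans (congrArg Subtype.val hx)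
          rw [← h1, he]; exact SetLike.coe_mem _
        · intro hy
          have h1 := (hf (a⁻¹ ⟨y, hy⟩)).symm.trans (he _)
          rw [show (⟨((a⁻¹ ⟨y, hy⟩ : X) : Ω), hle (a⁻¹ ⟨y, hy⟩).2⟩ : X) = a⁻¹ ⟨y, hy⟩ from rfl,
            MulAut.apply_inv_self] at h1
          rw [← show ((f (a⁻¹ ⟨y, hy⟩) : B) : Ω) = y from h1]
          exact SetLike.coe_mem _
      subst hBX
      have hfa : f = a := MulEquiv.ext fun x => Subtype.ext ((hf x).symm.trans (he x))
      subst hfa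
      obtain ⟨θ, hθ, hθe⟩ := id heA
      obtain ⟨θ₁, hθ₁, hθ₁e⟩ := exists_restrict hθ (le_normalizerIn hW.1)
      have hr : θ₁.range = P := by
        ext y
        constructor
        · rintro ⟨x, rfl⟩; rw [hθ₁e, hθe]; exact SetLike.coe_mem _
        · intro hy
          exact ⟨eA.symm ⟨y, hy⟩, by rw [hθ₁e, hθe, MulEquiv.apply_symm_apply]⟩
      have heq : homEquiv hθ₁ hr = eA := MulEquiv.ext fun x => Subtype.ext ((hθ₁e x).trans (hθe x _))
      have h1 : MulAut.congr eA f ∈ lSub F E p R P :=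
        Subgroup.mem_sup_left (Subgroup.subset_closure (heq ▸ h.kgen_congr (h.dsub _ hθ₁) hr ha))
      have h2 := c.step c.claimed heA heB (MulEquiv.refl B) (subtype_mem h.dSys (normalizerIn_le B))
        (hlt B hA) le_rfl (Nat.zero_le _) fun _ _ => rfl
      have h3 : (eA.symm.trans (f.trans eB) : MulAut P) =
          (eA.symm.trans ((MulEquiv.refl B).trans eB) : MulAut P) * MulAut.congr eA f :=
        MulEquiv.ext fun x => by
          show eB (f (eA.symm x)) = eB (eA.symm (eA (f (eA.symm x))))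
          rw [MulEquiv.symm_apply_apply]
      rw [h3]
      exact mul_mem h2 h1
    have hψ : W.subtype.comp a.toMonoidHom ∈ h.dSys.Hom W := PGen.kgen _ a hW ha le_rfl fun _ => rfl
    have hlt'' := FusionP3.Induction.lt_normalizerIn (isPGroup_of_le h.pR hW.1) hlt'
    obtain ⟨ψ, hψ', hψe⟩ := exists_restrict hψ (normalizerIn_le (S := W) A)
    refine c.step c.claimed heA heB f hψ' hlt'' (fun g hg => ⟨hW.1 hg.1, hg.2⟩) (Nat.zero_le _) fun x hx => ?_
    rw [hψe, ← hf, he]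
    rfl
  | @comp X Q φ ψ χ hgφ hgψ hm he ihφ ihψ =>
    intro A C eA eC heA heC hA hAX f hf
    obtain ⟨φA, hφA, hφAe⟩ := exists_restrict (F := h.dSys) (φ := φ) hgφ hAX
    have hBP : h.dSys.IsConj φA.range P := isConj_trans (isConj_symm ⟨φA, hφA, rfl⟩) hA
    obtain ⟨eB, heB⟩ := exists_fullEquiv (range_le_base hφA) (c.full hBP)
    set f₁ := homEquiv hφA rfl
    have hBQ : φA.range ≤ Q := by rintro _ ⟨x, rfl⟩; rw [hφAe]; exact hm _
    have h1 := ihφ A φA.range eA eB heA heB hA hAX f₁ fun x => (hφAe x).symm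
    have h2 := ihψ φA.range C eB eC heB heC hBP hBQ (f₁.symm.trans f) fun y => by
      obtain ⟨x, rfl⟩ := f₁.surjective y
      rw [MulEquiv.trans_apply, MulEquiv.symm_apply_apply, ← hf, he]
      exact congrArg ψ (Subtype.ext ((homEquiv_coe hφA rfl x).trans (hφAe x)))
    have h3 : (eA.symm.trans (f.trans eC) : MulAut P) =
        (eB.symm.trans ((f₁.symm.trans f).trans eC) : MulAut P) * (eA.symm.trans (f₁.trans eB)) :=
      MulEquiv.ext fun x => by simp [MulAut.mul_apply]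
    rw [h3]
    exact mul_mem h2 h1

/-- A map onto `P` is a full map followed by an element of `lSub`. -/
theorem exists_full_of_hom {A : Subgroup Ω} {φ : A →* Ω} (hφ : φ ∈ h.dSys.Hom A) (hr : φ.range = P) :
    ∃ eA : A ≃* P, FullEquiv h.dSys eA ∧ ∃ a ∈ lSub F E p R P, ∀ x : A, φ x = ((a (eA x) : P) : Ω) := by
  haveI := h.finR
  have hA : h.dSys.IsConj A P := ⟨φ, hφ, hr⟩
  obtain ⟨eA, heA⟩ := exists_fullEquiv (src_le hφ) (c.full hA)
  refine ⟨eA, heA, _, c.conn hφ A P eA (MulEquiv.refl P) heA (fullEquiv_refl c.le) hA le_rfl (homEquiv hφ hr)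
    fun x => rfl, fun x => ?_⟩
  simp

end Cls

end Cfsg.Agent.Lib.FS.ES
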