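import Cfsg.Agent.Lib.FusionSystem.ES.Sys

/-!
Extension of automorphisms of order prime to `p` from the intersection with a strongly closed subgroup that
contains the hyperfocal subgroup, and the rigidity of such automorphisms.
-/

set_option autoImplicit false
set_option linter.style.haveILetI false
set_option linter.unusedSectionVars false

namespace Cfsg.Agent.Lib.FS.ES

open Cfsg Cfsg.FusionSystem Cfsg.Agent.Lib Cfsg.Agent.Lib.FS
open Cfsg.Agent.Lib.FS.NormalCentralizer (CentricT exists_pow_prime_to)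
open Cfsg.Agent.Lib.FS.NormalCentralizer.Odd (autE_congr)
open Cfsg.Agent.Lib.FS.CentralLift (Restr congr_apply_map)
open Cfsg.Agent.Lib.FS.Inter (exists_aut exists_restr restr_apply autE_le_autF moveSub fixSub)

variable {Ω : Type*} [Group Ω] {S T R₀ A : Subgroup Ω} [Finite S] {p : ℕ} [hp : Fact p.Prime]
  {F : FusionSystem S} {E : FusionSystem T} {G : FusionSystem R₀}

omit hp in
theorem restr_not_dvd {P Q : Subgroup Ω} {hle : P ≤ Q} {a : MulAut Q} {b : MulAut P} (hab : Restr hle a b)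
    (hord : ¬ p ∣ orderOf a) : ¬ p ∣ orderOf b := by
  refine fun hd => hord (hd.trans (orderOf_dvd_of_pow_eq_one ?_))
  exact Restr.unique (hab.pow _) (by rw [pow_orderOf_eq_one]; exact Restr.one)

theorem stronglyClosed_sub (hR₀ : R₀ ≤ S) (hsub : G.IsSubsystemOf F) (hA : F.StronglyClosed A)
    (hAR : A ≤ R₀) : G.StronglyClosed A :=
  ⟨hAR, fun P hP φ hφ x => hA.2 P hP φ (hsub P hφ) x⟩

theorem autSub (hsub : G.IsSubsystemOf F) {U : Subgroup Ω} (hU : U ≤ R₀) {a : MulAut U}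
    (ha : a ∈ G.autGroup U) : a ∈ F.autGroup U :=
  autE_le_autF hsub hU ha

theorem mem_stab (hA : F.StronglyClosed A) {U : Subgroup Ω} (hU : U ≤ S) {a : MulAut U}
    (ha : a ∈ F.autGroup U) (hm : ∀ x : U, (x : Ω)⁻¹ * ((a x : U) : Ω) ∈ A) : a ∈ moveSub U A :=
  Inter.mem_moveSub (autGroup_mem_iff_of_stronglyClosed hA hU ha) hm

/-- Two automorphisms that agree on the intersection with `A` and move elements within cosets of `A` differ by
an element of a `p`-group. -/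
theorem diff_mem (hA : F.StronglyClosed A) {U : Subgroup Ω} (hU : U ≤ S) {a b : MulAut U}
    (ha : a ∈ F.autGroup U) (hb : b ∈ F.autGroup U) (hma : ∀ x : U, (x : Ω)⁻¹ * ((a x : U) : Ω) ∈ A)
    (hmb : ∀ x : U, (x : Ω)⁻¹ * ((b x : U) : Ω) ∈ A) (hag : ∀ x : U, (x : Ω) ∈ A → a x = b x) :
    a⁻¹ * b ∈ moveSub U A ⊓ fixSub U A := by
  refine ⟨mul_mem ((moveSub U A).inv_mem (mem_stab hA hU ha hma)) (mem_stab hA hU hb hmb), fun x hx => ?_⟩
  rw [MulAut.mul_apply, ← hag x hx, MulAut.inv_apply_self]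

/-- Rigidity in a normal subsystem. -/
theorem mem_autE_of_agree (hS : IsPGroup p S) (hE : E.IsNormalIn F p) (hA : F.StronglyClosed A)
    {U : Subgroup Ω} (hU : U ≤ T) {a b : MulAut U} (ha : a ∈ E.autGroup U) (hb : b ∈ F.autGroup U)
    (hord : ¬ p ∣ orderOf b) (hma : ∀ x : U, (x : Ω)⁻¹ * ((a x : U) : Ω) ∈ A)
    (hmb : ∀ x : U, (x : Ω)⁻¹ * ((b x : U) : Ω) ∈ A) (hag : ∀ x : U, (x : Ω) ∈ A → a x = b x) :
    b ∈ E.autGroup U := by
  have hUS : U ≤ S := hU.trans hE.1.2.2.2.1.1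
  have haF : a ∈ F.autGroup U := autE_le_autF hE.1.2.2.1 hU ha
  set N := (E.autGroup U).subgroupOf (F.autGroup U) with hN
  haveI : N.Normal := ⟨fun n hn g => by
    obtain ⟨φ, hφ, hr, he⟩ := exists_hom_of_aut hUS g.2
    have h1 := autE_congr hE hU hφ hr (Subgroup.mem_subgroupOf.1 hn)
    have h2 : homEquiv hφ hr = (g : MulAut U) := MulEquiv.ext fun x => Subtype.ext (by rw [homEquiv_coe, he])
    rw [h2] at h1
    refine Subgroup.mem_subgroupOf.2 ?_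
    exact h1⟩
  obtain ⟨j, hj⟩ := (Inter.isPGroup_fix_move (R := A) hS hUS) ⟨_, diff_mem hA hUS haF hb hma hmb hag⟩
  have hk : (a⁻¹ * b) ^ p ^ j = 1 := congrArg Subtype.val hj
  set q := QuotientGroup.mk' N with hq
  have haq : q ⟨a, haF⟩ = 1 := (QuotientGroup.eq_one_iff _).2 ha
  set k : F.autGroup U := ⟨a, haF⟩⁻¹ * ⟨b, hb⟩ with hkdef
  have hbk : q ⟨b, hb⟩ = q k := by rw [hkdef, map_mul, map_inv, haq, inv_one, one_mul]
  have hk1 : k ^ p ^ j = 1 := Subtype.ext hk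
  have h1 : q ⟨b, hb⟩ = 1 := by
    refine orderOf_eq_one_iff.1 (Nat.eq_one_of_dvd_coprimes
      (Nat.Coprime.pow_left j ((hp.out.coprime_iff_not_dvd).2 hord)) ?_ ?_)
    · rw [hbk]
      exact orderOf_dvd_of_pow_eq_one (by rw [← map_pow, hk1, map_one])
    · have h2 := orderOf_map_dvd q (⟨b, hb⟩ : F.autGroup U)
      rwa [Subgroup.orderOf_mk] at h2
  exact Subgroup.mem_subgroupOf.1 ((QuotientGroup.eq_one_iff _).1 h1)

/-- In a radical subgroup such differences are inner. -/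
theorem inn_of_fix_move (hS : IsPGroup p S) (hR₀ : R₀ ≤ S) (hsub : G.IsSubsystemOf F) (hA : F.StronglyClosed A)
    {W : Subgroup Ω} (hW : G.IsRadical p W) {k : MulAut W} (hk : k ∈ G.autGroup W)
    (hkm : k ∈ moveSub W A ⊓ fixSub W A) : k ∈ Inn W := by
  have hWS : W ≤ S := hW.1.trans hR₀
  set J := (moveSub W A ⊓ fixSub W A).subgroupOf (G.autGroup W) with hJ
  have hinv : ∀ g ∈ G.autGroup W, ∀ x : W, (x : Ω) ∈ A ↔ ((g x : W) : Ω) ∈ A := fun g hg x =>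
    autGroup_mem_iff_of_stronglyClosed hA hWS (autSub hsub hW.1 hg) x
  haveI : J.Normal := ⟨fun l hl g => by
    refine Subgroup.mem_subgroupOf.2 ⟨layerStab_conj_mem (fun _ => hinv g g.2)
      (fun _ x => ⟨fun _ => ((g : MulAut W) x).2, fun _ => x.2⟩) (Subgroup.mem_subgroupOf.1 hl).1,
      Inter.fixSub_conj (Subgroup.mem_subgroupOf.1 hl).2
        fun x hx => (hinv _ ((G.autGroup W).inv_mem g.2) x).1 hx⟩⟩
  have hJp : IsPGroup p J := (Inter.isPGroup_fix_move (R := A) hS hWS).of_injective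
    ((((G.autGroup W).subtype.comp J.subtype).codRestrict _) fun l => Subgroup.mem_subgroupOf.1 l.2)
    fun u v e => Subtype.ext (Subtype.ext (congrArg Subtype.val e :))
  rw [← hW.2]
  exact ⟨⟨k, hk⟩, Cores.le_pCore hJp (Subgroup.mem_subgroupOf.2 hkm), rfl⟩

/-- The extension, for a fully normalised intersection. -/
theorem exists_aut_extend_fn (hS : IsPGroup p S) (hG : G.IsSaturated p) (hR₀ : R₀ ≤ S)
    (hA : F.StronglyClosed A) (hhyp : G.hyperfocalSubgroup p ≤ A) {U : Subgroup Ω}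
    (hU : U ≤ R₀) (hc : CentricT F A (U ⊓ A)) {b : MulAut U} (hord : ¬ p ∣ orderOf b)
    (hm : ∀ x : U, (x : Ω)⁻¹ * ((b x : U) : Ω) ∈ A) {d : MulAut ↥(U ⊓ A)} (hd : d ∈ G.autGroup (U ⊓ A))
    (hbd : Restr inf_le_left b d) (hfn : G.IsFullyNormalized (U ⊓ A)) :
    ∃ e ∈ G.autGroup U, ¬ p ∣ orderOf e ∧ (∀ x : U, (x : Ω)⁻¹ * ((e x : U) : Ω) ∈ A) ∧
      Restr inf_le_left e d := by
  have hRp : IsPGroup p R₀ := isPGroup_of_le hS hR₀
  haveI := finite_sub hR₀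
  have hXR : (U ⊓ A) ≤ R₀ := inf_le_left.trans hU
  haveI := finite_sub hXR
  have hUN : U ≤ normalizerIn R₀ (U ⊓ A) := fun u hu => ⟨hU hu, mem_normalizer_of_conj_mem fun y hy =>
    ⟨U.mul_mem (U.mul_mem hu hy.1) (U.inv_mem hu),
      conj_mem_of_normalizer (stronglyClosed_le_normalizer hA (hR₀ (hU hu))) hy.2⟩⟩
  set C := centralizerIn R₀ (U ⊓ A) with hC
  haveI := finite_sub (centralizerIn_le (S := R₀) (U ⊓ A))
  have hUC : U ≤ Subgroup.normalizer (C : Set Ω) := fun u hu => by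
    refine mem_normalizer_of_conj_mem fun y hy => mem_centralizerIn'.2
      ⟨R₀.mul_mem (R₀.mul_mem (hU hu) (centralizerIn_le _ hy)) (R₀.inv_mem (hU hu)), fun x hx => ?_⟩
    have hx' : u⁻¹ * x * u ∈ (U ⊓ A) := conj_inv_mem_of_normalizer (hUN hu).2 hx
    have h1 := (mem_centralizerIn'.1 hy).2 _ hx'
    calc u * y * u⁻¹ * x * (u * y * u⁻¹)⁻¹ = u * (y * (u⁻¹ * x * u) * y⁻¹) * u⁻¹ := by group
      _ = x := by rw [h1]; group
  have hdec : ∀ v ∈ U ⊔ C, ∃ u ∈ U, ∃ c ∈ C, u * c = v := fun v hv =>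
    Set.mem_mul.1 ((Subgroup.coe_mul_of_left_le_normalizer_right U C hUC).le hv)
  have hVN : U ⊔ C ≤ normalizerIn R₀ (U ⊓ A) := sup_le hUN (centralizerIn_le_normalizerIn _)
  have hVR : U ⊔ C ≤ R₀ := hVN.trans (normalizerIn_le _)
  haveI := finite_sub hVR
  -- the action of `v = u * c` on `(U ⊓ A)`, transported through `d`
  have hact : ∀ (u : U) (c : Ω), c ∈ C → ∀ (x : ↥(U ⊓ A)) (hx : (u : Ω) * c * x * ((u : Ω) * c)⁻¹ ∈ (U ⊓ A)),
      ((d ⟨(u : Ω) * c * x * ((u : Ω) * c)⁻¹, hx⟩ : ↥(U ⊓ A)) : Ω) =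
        ((b u : U) : Ω) * ((d x : ↥(U ⊓ A)) : Ω) * ((b u : U) : Ω)⁻¹ := by
    intro u c hc' x hx
    have h1 := (mem_centralizerIn'.1 hc').2 x x.2
    have heq : (u : Ω) * c * x * ((u : Ω) * c)⁻¹ = u * x * (u : Ω)⁻¹ := by
      calc (u : Ω) * c * x * ((u : Ω) * c)⁻¹ = u * (c * x * c⁻¹) * (u : Ω)⁻¹ := by group
        _ = _ := by rw [h1]
    have hx' : ((u : Ω) * x * (u : Ω)⁻¹) ∈ (U ⊓ A) := heq ▸ hx
    rw [show (⟨_, hx⟩ : ↥(U ⊓ A)) = ⟨_, hx'⟩ from Subtype.ext heq, ← hbd, ← hbd,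
      show Subgroup.inclusion (inf_le_left : (U ⊓ A) ≤ U) ⟨_, hx'⟩ =
        u * Subgroup.inclusion (inf_le_left : (U ⊓ A) ≤ U) x * u⁻¹ from Subtype.ext rfl, map_mul, map_mul, map_inv]
    rfl
  obtain ⟨ψ, hψ, hψe⟩ := FusionP3.Induction.exists_extend_aut (receptive_of_fullyNormalized hRp hG hfn) hVN hd
    fun g hg => by
      obtain ⟨u, hu, c, hc', rfl⟩ := hdec g hg
      exact ⟨_, hU (b ⟨u, hu⟩).2, fun x hx => hact ⟨u, hu⟩ c hc' x hx⟩
  -- the image of `v = u * c` agrees with `b u` modulo the centraliser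
  have hcls : ∀ (u : U) (c : Ω) (hc' : c ∈ C) (hv : (u : Ω) * c ∈ U ⊔ C),
      ((b u : U) : Ω)⁻¹ * ψ ⟨(u : Ω) * c, hv⟩ ∈ C := by
    intro u c hc' hv
    refine mem_centralizerIn'.2 ⟨R₀.mul_mem (R₀.inv_mem (hU (b u).2)) (apply_mem hψ _), fun y hy => ?_⟩
    obtain ⟨x, hx⟩ := d.surjective ⟨y, hy⟩
    have hxV : (x : Ω) ∈ U ⊔ C := Subgroup.mem_sup_left x.2.1
    have hvx : (u : Ω) * c * x * ((u : Ω) * c)⁻¹ ∈ (U ⊓ A) := conj_mem_of_normalizer (hVN hv).2 x.2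
    have h1 : ψ ⟨(u : Ω) * c, hv⟩ * y * (ψ ⟨(u : Ω) * c, hv⟩)⁻¹ =
        ((b u : U) : Ω) * y * ((b u : U) : Ω)⁻¹ := by
      have hy' : y = ψ ⟨x, hxV⟩ := by rw [hψe _ x.2]; exact (congrArg Subtype.val hx).symm
      rw [hy', ← map_inv, ← map_mul, ← map_mul, hψe _ x.2]
      exact (hψe _ hvx _).trans (hact u c hc' x hvx)
    calc ((b u : U) : Ω)⁻¹ * ψ ⟨(u : Ω) * c, hv⟩ * y * (((b u : U) : Ω)⁻¹ * ψ ⟨(u : Ω) * c, hv⟩)⁻¹
        = ((b u : U) : Ω)⁻¹ * (ψ ⟨(u : Ω) * c, hv⟩ * y * (ψ ⟨(u : Ω) * c, hv⟩)⁻¹) * ((b u : U) : Ω) := by group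
      _ = y := by rw [h1]; group
  obtain ⟨a, ha, hae⟩ := exists_aut hψ fun v => by
    obtain ⟨u, hu, c, hc', hv⟩ := hdec v v.2
    have h1 := hcls ⟨u, hu⟩ c hc' (hv ▸ v.2)
    have h2 : (⟨u * c, hv ▸ v.2⟩ : ↥(U ⊔ C)) = v := Subtype.ext hv
    rw [h2] at h1
    have h3 := (U ⊔ C).mul_mem (Subgroup.mem_sup_left (b ⟨u, hu⟩).2) (Subgroup.mem_sup_right h1)
    rwa [mul_inv_cancel_left] at h3
  have hXV : (U ⊓ A) ≤ U ⊔ C := inf_le_left.trans le_sup_left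
  have had : Restr hXV a d := fun x => (hae _).trans (hψe _ x.2 _)
  -- a power of `p'`-order
  haveI := FusionP3.GT.finite_mulAut ↥(U ⊔ C)
  obtain ⟨n, hn, hna⟩ := exists_pow_prime_to (p := p) (x := a) (restr_not_dvd hbd hord)
  have hanG : a ^ n ∈ G.autGroup (U ⊔ C) := pow_mem ha n
  have hanA : ∀ v : ↥(U ⊔ C), (v : Ω)⁻¹ * (((a ^ n) v : ↥(U ⊔ C)) : Ω) ∈ A := fun v =>
    hhyp (FusionP3.Tate.hyperfocal_gen_mem hVR (α := ⟨a ^ n, hanG⟩)
      (Transfer.PResidual.mem_pResidual (by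
        rw [Subgroup.orderOf_mk]; exact ((hp.out.coprime_iff_not_dvd).2 hna).symm)) v)
  have hand : Restr hXV (a ^ n) d := by
    have := had.pow n
    rwa [hn] at this
  have hUinv : ∀ x : U, (((a ^ n) (Subgroup.inclusion le_sup_left x) : ↥(U ⊔ C)) : Ω) ∈ U := by
    intro x
    set w := (a ^ n) (Subgroup.inclusion le_sup_left x) with hw
    have hzA : ((b x : U) : Ω)⁻¹ * (w : Ω) ∈ A := by
      have h1 := A.mul_mem (A.inv_mem (hm x)) (hanA (Subgroup.inclusion le_sup_left x))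
      rwa [Subgroup.coe_inclusion, ← hw, mul_inv_rev, inv_inv, mul_assoc, mul_inv_cancel_left] at h1
    have hzX : ((b x : U) : Ω)⁻¹ * (w : Ω) ∈ (U ⊓ A) := by
      refine hc.2 (U ⊓ A) (isConj_refl F (hXR.trans hR₀)) (mem_centralizerIn'.2 ⟨hzA, fun y hy => ?_⟩)
      obtain ⟨x₁, hx₁⟩ := d.surjective ⟨y, hy⟩
      have hy' : y = (((a ^ n) (Subgroup.inclusion hXV x₁) : ↥(U ⊔ C)) : Ω) :=
        ((hand x₁).trans (congrArg Subtype.val hx₁)).symm
      have hxx : (x : Ω) * x₁ * (x : Ω)⁻¹ ∈ (U ⊓ A) := conj_mem_of_normalizer (hUN x.2).2 x₁.2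
      have h1 : (w : Ω) * y * (w : Ω)⁻¹ = ((b x : U) : Ω) * y * ((b x : U) : Ω)⁻¹ := by
        rw [hy', hw, ← Subgroup.coe_inv, ← Subgroup.coe_mul, ← Subgroup.coe_mul, ← map_inv, ← map_mul,
          ← map_mul, show Subgroup.inclusion le_sup_left x * Subgroup.inclusion hXV x₁ *
            (Subgroup.inclusion le_sup_left x)⁻¹ = Subgroup.inclusion hXV ⟨_, hxx⟩ from Subtype.ext rfl, hand,
          hand]
        have hx1 : (x : Ω) * (1 : Ω) * x₁ * ((x : Ω) * 1)⁻¹ ∈ (U ⊓ A) := by rwa [mul_one]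
        have := hact x 1 C.one_mem x₁ hx1
        exact (congrArg (fun t => ((d t : ↥(U ⊓ A)) : Ω)) (Subtype.ext (by simp) : (⟨_, hxx⟩ : ↥(U ⊓ A)) = ⟨_, hx1⟩)).trans this
      calc ((b x : U) : Ω)⁻¹ * (w : Ω) * y * (((b x : U) : Ω)⁻¹ * (w : Ω))⁻¹
          = ((b x : U) : Ω)⁻¹ * ((w : Ω) * y * (w : Ω)⁻¹) * ((b x : U) : Ω) := by group
        _ = y := by rw [h1]; group
    have h2 := U.mul_mem (b x).2 hzX.1
    rwa [mul_inv_cancel_left] at h2
  obtain ⟨e, he, her⟩ := exists_restr (F := G) le_sup_left hVR hanG hUinv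
  refine ⟨e, he, restr_not_dvd her hna, fun x => ?_, fun x => ?_⟩
  · rw [← her x]; exact hanA (Subgroup.inclusion le_sup_left x)
  · exact ((her _).symm).trans (hand x)

/-- An automorphism of order prime to `p` given on the intersection with `A` extends. -/
theorem exists_aut_extend (hS : IsPGroup p S) (hG : G.IsSaturated p) (hR₀ : R₀ ≤ S)
    (hsub : G.IsSubsystemOf F) (hA : F.StronglyClosed A) (hhyp : G.hyperfocalSubgroup p ≤ A) {U : Subgroup Ω}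
    (hU : U ≤ R₀) (hc : CentricT F A (U ⊓ A)) {b : MulAut U}
    (hord : ¬ p ∣ orderOf b) (hm : ∀ x : U, (x : Ω)⁻¹ * ((b x : U) : Ω) ∈ A) {d : MulAut ↥(U ⊓ A)}
    (hd : d ∈ G.autGroup (U ⊓ A)) (hbd : Restr inf_le_left b d) :
    ∃ e ∈ G.autGroup U, ¬ p ∣ orderOf e ∧ (∀ x : U, (x : Ω)⁻¹ * ((e x : U) : Ω) ∈ A) ∧
      Restr inf_le_left e d := by
  have hRp : IsPGroup p R₀ := isPGroup_of_le hS hR₀
  haveI := finite_sub hR₀
  have hXR : U ⊓ A ≤ R₀ := inf_le_left.trans hU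
  haveI := finite_sub hXR
  obtain ⟨X', hXX', hX'n⟩ := exists_isFullyNormalized G hXR
  obtain ⟨μ, hμ, -, hμX⟩ := exists_normalizer_map hRp hG hX'n hXX'
  have hUN : U ≤ normalizerIn R₀ (U ⊓ A) := fun u hu => ⟨hU hu, mem_normalizer_of_conj_mem fun y hy =>
    ⟨U.mul_mem (U.mul_mem hu hy.1) (U.inv_mem hu),
      conj_mem_of_normalizer (stronglyClosed_le_normalizer hA (hR₀ (hU hu))) hy.2⟩⟩
  obtain ⟨φ, hφ, hφe⟩ := exists_restrict hμ hUN
  obtain ⟨η, hη, hηr, hl, hr⟩ := exists_inv hφ rfl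
  have hφF : φ ∈ F.Hom U := hsub U hφ
  obtain ⟨ψ, hψ, hψe⟩ := exists_restrict hφ (inf_le_left : U ⊓ A ≤ U)
  have hψr : ψ.range = φ.range ⊓ A := by
    refine le_antisymm ?_ ?_
    · rintro _ ⟨x, rfl⟩
      exact ⟨⟨_, (hψe x).symm⟩, stronglyClosed_apply_mem hA (hsub _ hψ) x.2.2⟩
    · rintro y ⟨⟨x, rfl⟩, hyA⟩
      have hx := stronglyClosed_apply_mem hA (hsub _ hη) (x := ⟨φ x, x, rfl⟩) hyA
      replace hx : (x : Ω) ∈ A := (hl x ⟨x, rfl⟩).subst (motive := fun t => t ∈ A) hx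
      exact ⟨⟨x, x.2, hx⟩, hψe _⟩
  have hψ' : ψ.range = X' := by
    refine le_antisymm ?_ fun y hy => ?_
    · rintro _ ⟨x, rfl⟩
      rw [hψe, hφe]
      exact hμX.le ⟨⟨x, hUN x.2.1⟩, x.2, rfl⟩
    · obtain ⟨x, hx, rfl⟩ := hμX.ge hy
      exact ⟨⟨x, hx⟩, by rw [hψe, hφe]⟩
  set ee := homEquiv hφ (rfl : φ.range = φ.range) with hee
  set b' := MulAut.congr ee b with hb'
  set d' := MulAut.congr (homEquiv hψ hψr) d with hd'
  have hm' : ∀ y : φ.range, (y : Ω)⁻¹ * ((b' y : φ.range) : Ω) ∈ A := by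
    intro y
    obtain ⟨x, rfl⟩ := ee.surjective y
    rw [hb', hee, congr_apply_map, homEquiv_coe, ← map_inv,
      show φ x⁻¹ * φ (b x) = φ (x⁻¹ * b x) from (map_mul φ _ _).symm]
    exact stronglyClosed_apply_mem hA hφF (hm x)
  have hbd' : Restr inf_le_left b' d' := by
    intro y
    obtain ⟨x, rfl⟩ := (homEquiv hψ hψr).surjective y
    rw [hd', congr_apply_map, hψe,
      show Subgroup.inclusion (inf_le_left : φ.range ⊓ A ≤ φ.range) (homEquiv hψ hψr x) =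
        ee ⟨x, x.2.1⟩ from Subtype.ext (hψe x), hb', hee, congr_apply_map]
    exact congrArg φ (Subtype.ext (hbd x))
  obtain ⟨e', he', heord, hem, hed⟩ := exists_aut_extend_fn hS hG hR₀ hA hhyp (U := φ.range) (b := b')
    (range_le_base hφ) (Inter.centricT_congr hA hc ⟨ψ, hsub _ hψ, hψr⟩)
    (by rwa [hb', MulEquiv.orderOf_eq]) hm' (congr_mem_autGroup hψ hψr hd) hbd' ((hψ'.symm.trans hψr) ▸ hX'n)
  obtain ⟨χ, hχ, hχe⟩ := exists_comp hφ ((mem_autGroup (range_le_base hφ)).1 he') fun x => ⟨x, rfl⟩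
  obtain ⟨e, heG, hee'⟩ := exists_aut (F := G) (φ := (MulAut.congr ee.symm e').toMonoidHom |> U.subtype.comp)
    (mem_comp hχ hη (fun x => by rw [hχe]; exact SetLike.coe_mem _) fun x => by
      have := hl (ee.symm (e' (ee x))) ⟨_, rfl⟩
      refine this.symm.trans (congrArg η (Subtype.ext ?_))
      refine Eq.trans ?_ (hχe x).symm
      show ((ee (ee.symm (e' (ee x))) : φ.range) : Ω) = _
      rw [MulEquiv.apply_symm_apply]
      rfl) fun x => SetLike.coe_mem _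
  obtain rfl : e = MulAut.congr ee.symm e' := MulEquiv.ext fun x => Subtype.ext (hee' x)
  have hkey : ∀ x : U, φ (MulAut.congr ee.symm e' x) = ((e' (ee x) : φ.range) : Ω) := fun x => by
    show ((ee (ee.symm (e' (ee x))) : φ.range) : Ω) = _
    rw [MulEquiv.apply_symm_apply]
  refine ⟨_, heG, by rwa [MulEquiv.orderOf_eq], fun x => ?_, fun x => ?_⟩
  · have h1 : φ (x⁻¹ * MulAut.congr ee.symm e' x) ∈ A := by
      rw [map_mul, map_inv, hkey]
      exact hem (ee x)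
    have h2 := stronglyClosed_apply_mem hA (hsub _ hη) (x := ⟨_, _, rfl⟩) h1
    exact (hl (x⁻¹ * MulAut.congr ee.symm e' x) ⟨_, rfl⟩).subst (motive := fun t => t ∈ A) h2
  · refine congrArg Subtype.val (F.injective_of_mem hφF (a₁ := MulAut.congr ee.symm e' _)
      (a₂ := ⟨d x, (d x).2.1⟩) ?_)
    rw [hkey, show ee (Subgroup.inclusion inf_le_left x) =
      Subgroup.inclusion (inf_le_left : φ.range ⊓ A ≤ φ.range) (homEquiv hψ hψr x) from
        Subtype.ext (hψe x).symm, hed, congr_apply_map, hψe]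

end Cfsg.Agent.Lib.FS.ES
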