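import Cfsg.Agent.Lib.FusionSystem.ES.Sys
import Cfsg.Agent.Lib.FusionSystem.Inter.Moves
import Cfsg.Agent.Lib.FusionSystem.Hyperfocal
import Cfsg.Agent.Lib.Transfer.FusionLocal

/-!
The model of the normaliser system of `U C_S(U)` for `U ≤ T` fully normalised and centric relative to `T`, and
its normal subgroup carrying the generating automorphisms.
-/

set_option autoImplicit false
set_option linter.style.haveILetI false
set_option linter.unusedSectionVars false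

namespace Cfsg.Agent.Lib.FS.ES

open Cfsg Cfsg.FusionSystem Cfsg.Agent.Lib Cfsg.Agent.Lib.FS
open Cfsg.Agent.Lib.FS.NormalCentralizer (CentricT)
open Cfsg.Agent.Lib.FS.CentralLift (Restr congr_apply_map)
open Cfsg.Agent.Lib.FS.Inter (exists_aut exists_restr autE_le_autF autE_normal mem_of_hull moveSub fixSub)

universe u

/-- `g` induces `a` on `X`, read through `ι`. -/
def Ind {Ω : Type*} [Group Ω] {N X : Subgroup Ω} {G : Type*} [Group G] (ι : N →* G) (hX : X ≤ N) (g : G)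
    (a : MulAut X) : Prop :=
  ∀ x : X, ι (Subgroup.inclusion hX (a x)) = g * ι (Subgroup.inclusion hX x) * g⁻¹

namespace Ind

variable {Ω : Type*} [Group Ω] {N X Y : Subgroup Ω} {G : Type*} [Group G] {ι : N →* G} {hX : X ≤ N}
  {g g' : G} {a a' : MulAut X}

theorem one : Ind ι hX 1 1 := fun x => by simp

theorem mul (h : Ind ι hX g a) (h' : Ind ι hX g' a') : Ind ι hX (g * g') (a * a') := fun x => by
  rw [MulAut.mul_apply, h, h', mul_inv_rev]
  simp only [mul_assoc]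

theorem inv (h : Ind ι hX g a) : Ind ι hX g⁻¹ a⁻¹ := fun x => by
  have h1 := h (a⁻¹ x)
  rw [MulAut.apply_inv_self] at h1
  rw [h1]; group

theorem pow (h : Ind ι hX g a) (n : ℕ) : Ind ι hX (g ^ n) (a ^ n) := by
  induction n with
  | zero => simpa using Ind.one (ι := ι) (hX := hX)
  | succ n ih => rw [pow_succ, pow_succ]; exact ih.mul h

theorem unique (hι : Function.Injective ι) (h : Ind ι hX g a) (h' : Ind ι hX g a') : a = a' :=
  MulEquiv.ext fun x => Subgroup.inclusion_injective hX (hι ((h x).trans (h' x).symm))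

theorem restr (h : Ind ι hX g a) {hYX : Y ≤ X} {b : MulAut Y} (hr : Restr hYX a b) :
    Ind ι (hYX.trans hX) g b := fun y => by
  have h1 := h (Subgroup.inclusion hYX y)
  rw [show Subgroup.inclusion hX (a (Subgroup.inclusion hYX y)) = Subgroup.inclusion (hYX.trans hX) (b y) from
    Subtype.ext (hr y)] at h1
  exact h1

theorem restr_of (hι : Function.Injective ι) (h : Ind ι hX g a) {hYX : Y ≤ X} {b : MulAut Y}
    (h' : Ind ι (hYX.trans hX) g b) : Restr hYX a b := fun y => by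
  have h1 := h (Subgroup.inclusion hYX y)
  exact congrArg (Subtype.val) (hι (h1.trans (h' y).symm))

theorem order_dvd (hι : Function.Injective ι) (h : Ind ι hX g a) : orderOf a ∣ orderOf g := by
  refine orderOf_dvd_of_pow_eq_one ((h.pow (orderOf g)).unique hι ?_)
  rw [pow_orderOf_eq_one]
  exact Ind.one

theorem conj {n : Ω} (hn : n ∈ N) {a : MulAut X} (ha : ∀ x : X, ((a x : X) : Ω) = n * x * n⁻¹) :
    Ind ι hX (ι ⟨n, hn⟩) a := fun x => by
  rw [← map_inv, ← map_mul, ← map_mul]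
  exact congrArg ι (Subtype.ext (ha x))

end Ind

/-- A model at a fully normalised `U ≤ T` centric relative to `T`. -/
structure Frame {Ω : Type u} [Group Ω] {S : Subgroup Ω} [Finite S] (F : FusionSystem S) (T U : Subgroup Ω)
    (p : ℕ) [Fact p.Prime] {G : Type u} [Group G] (ι : normalizerIn S (U ⊔ centralizerIn S U) →* G) : Prop where
  cT : CentricT F T U
  fn : F.IsFullyNormalized U
  loc : Transfer.FusionLocal.Local F p (U ⊔ centralizerIn S U) ι

variable {Ω : Type u} [Group Ω] {S T R U : Subgroup Ω} [Finite S] {p : ℕ} [hp : Fact p.Prime]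
  {F : FusionSystem S} {E : FusionSystem T}

theorem centralizer_le_of_centricT (h : CentricT F T U) (hU : U ≤ S) : centralizerIn T U ≤ U :=
  h.2 U (isConj_refl F hU)

theorem exists_frame (h : Setting F E R p) (hU : CentricT F T U) (hUn : F.IsFullyNormalized U) :
    ∃ (G : Type u) (_ : Group G) (ι : normalizerIn S (U ⊔ centralizerIn S U) →* G), Frame F T U p ι := by
  have hCT := centralizer_le_of_centricT hU hUn.1
  have hVn := Inter.hull_fn h.hsc hU.1 hCT hUn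
  have hVc : F.IsCentric (U ⊔ centralizerIn S U) :=
    FusionP3.Induction.isCentric_of_centralizerIn_le (fullyNormalized_props h.hS h.hF hVn).1
      ((centralizerIn_anti le_sup_left).trans le_sup_right)
  obtain ⟨G, hG, ι, hl⟩ := Transfer.FusionLocal.exists_local h.hS h.hF hVn hVc
  exact ⟨G, hG, ι, hU, hUn, hl⟩

namespace Frame

variable {G : Type u} [Group G] {ι : normalizerIn S (U ⊔ centralizerIn S U) →* G}

section

variable (f : Frame F T U p ι)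
include f

theorem inj : Function.Injective ι := f.loc.injective

theorem UT : U ≤ T := f.cT.1

theorem US : U ≤ S := f.fn.1

theorem CT : centralizerIn T U ≤ U := centralizer_le_of_centricT f.cT f.US

theorem VS : U ⊔ centralizerIn S U ≤ S := Inter.hull_le f.US

theorem VN : U ⊔ centralizerIn S U ≤ normalizerIn S (U ⊔ centralizerIn S U) := f.loc.le

theorem UN : U ≤ normalizerIn S (U ⊔ centralizerIn S U) := le_sup_left.trans f.VN

theorem normalizer_eq (h : Setting F E R p) :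
    normalizerIn S (U ⊔ centralizerIn S U) = normalizerIn S U := by
  refine le_antisymm (fun g hg => ⟨hg.1, ?_⟩) fun g hg => ⟨hg.1, Inter.normalizer_le_hull f.US hg⟩
  haveI := finite_sub f.US
  refine mem_normalizer_of_conj_mem fun x hx => mem_of_hull (S := S) f.UT f.CT ?_ (h.conj_mem_T hg.1 (f.UT hx))
  exact conj_mem_of_normalizer hg.2 (Subgroup.mem_sup_left hx)

theorem normalizer_le (h : Setting F E R p) : normalizerIn S U ≤ normalizerIn S (U ⊔ centralizerIn S U) :=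
  (f.normalizer_eq h).ge

theorem NT_le (h : Setting F E R p) : normalizerIn T U ≤ normalizerIn S (U ⊔ centralizerIn S U) :=
  fun _ hg => f.normalizer_le h ⟨h.hTS hg.1, hg.2⟩

theorem V_inf {v : Ω} (hv : v ∈ U ⊔ centralizerIn S U) (hvT : v ∈ T) : v ∈ U :=
  mem_of_hull f.UT f.CT hv hvT

/-- An element carrying the image of `X` into itself induces an automorphism of `X` in `F`. -/
theorem exists_ind {X : Subgroup Ω} (hX : X ≤ normalizerIn S (U ⊔ centralizerIn S U)) {g : G}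
    (hg : ∀ x : X, ∃ y : X, ι (Subgroup.inclusion hX y) = g * ι (Subgroup.inclusion hX x) * g⁻¹) :
    ∃ a ∈ F.autGroup X, Ind ι hX g a := by
  haveI := f.loc.finite
  have hg' : g ∈ Subgroup.normalizer
      (((X.subgroupOf (normalizerIn S (U ⊔ centralizerIn S U))).map ι : Subgroup G) : Set G) := by
    refine mem_normalizer_of_conj_mem ?_
    rintro _ ⟨x, hx, rfl⟩
    obtain ⟨y, hy⟩ := hg ⟨x, hx⟩
    exact ⟨Subgroup.inclusion hX y, Subgroup.mem_subgroupOf.2 y.2, hy⟩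
  obtain ⟨φ, hφ, hr, he⟩ := f.loc.hom X hX g hg'
  exact ⟨_, homEquiv_mem_autGroup hφ.1 hr, fun x => he x (hX x.2) (hφ.2.2.1 x)⟩

theorem exists_indV (g : G) : ∃ d ∈ F.autGroup (U ⊔ centralizerIn S U), Ind ι f.VN g d := by
  refine f.exists_ind f.VN fun x => ?_
  obtain ⟨y, hy, hye⟩ := f.loc.normal.conj_mem _
    ⟨Subgroup.inclusion f.VN x, Subgroup.mem_subgroupOf.2 x.2, rfl⟩ g
  exact ⟨⟨y, hy⟩, hye⟩

theorem aut_U (h : Setting F E R p) {d : MulAut ↥(U ⊔ centralizerIn S U)}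
    (hd : d ∈ F.autGroup (U ⊔ centralizerIn S U)) :
    ∃ b ∈ F.autGroup U, Restr (le_sup_left : U ≤ U ⊔ centralizerIn S U) d b :=
  exists_restr _ f.VS hd fun x => f.V_inf (d _).2
    ((autGroup_mem_iff_of_stronglyClosed h.hsc f.VS hd _).1 (f.UT x.2))

theorem exists_indU (h : Setting F E R p) (g : G) : ∃ b ∈ F.autGroup U, Ind ι f.UN g b := by
  obtain ⟨d, hd, hgd⟩ := f.exists_indV g
  obtain ⟨b, hb, hdb⟩ := f.aut_U h hd
  exact ⟨b, hb, hgd.restr hdb⟩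

end

/-- The elements inducing on `U` maps of `E` and moving `U C_S(U)` within cosets of `T`. -/
def hP (f : Frame F T U p ι) (E : FusionSystem T) : Subgroup G where
  carrier := {g | (∃ d ∈ F.autGroup (U ⊔ centralizerIn S U), Ind ι f.VN g d ∧
      ∀ v : ↥(U ⊔ centralizerIn S U), (v : Ω)⁻¹ * ((d v : ↥(U ⊔ centralizerIn S U)) : Ω) ∈ T) ∧
    ∃ b ∈ E.autGroup U, Ind ι f.UN g b}
  one_mem' := ⟨⟨1, one_mem _, Ind.one, fun v => by simp⟩, 1, one_mem _, Ind.one⟩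
  mul_mem' := by
    rintro g k ⟨⟨d, hd, hgd, hdm⟩, b, hb, hgb⟩ ⟨⟨c, hc, hkc, hcm⟩, b', hb', hkb⟩
    refine ⟨⟨d * c, mul_mem hd hc, hgd.mul hkc, fun v => ?_⟩, b * b', mul_mem hb hb', hgb.mul hkb⟩
    have h1 := T.mul_mem (hcm v) (hdm (c v))
    rwa [mul_assoc, mul_inv_cancel_left] at h1
  inv_mem' := by
    rintro g ⟨⟨d, hd, hgd, hdm⟩, b, hb, hgb⟩
    refine ⟨⟨d⁻¹, inv_mem hd, hgd.inv, fun v => ?_⟩, b⁻¹, inv_mem hb, hgb.inv⟩
    have h1 := T.inv_mem (hdm (d⁻¹ v))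
    rwa [MulAut.apply_inv_self, mul_inv_rev, inv_inv] at h1

/-- The normal subgroup carrying the generating automorphisms. -/
def hSub (f : Frame F T U p ι) (E : FusionSystem T) : Subgroup G :=
  (pResidual p (f.hP E)).map (f.hP E).subtype ⊔
    ((normalizerIn T U).subgroupOf (normalizerIn S (U ⊔ centralizerIn S U))).map ι

variable (f : Frame F T U p ι) (h : Setting F E R p)
include f h

theorem hP_normal : (f.hP E).Normal := by
  refine ⟨fun m hm g => ?_⟩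
  obtain ⟨⟨d, hd, hmd, hdm⟩, b, hb, hmb⟩ := hm
  obtain ⟨c, hc, hgc⟩ := f.exists_indV g
  obtain ⟨e, he, hge⟩ := f.exists_indU h g
  refine ⟨⟨c * d * c⁻¹, mul_mem (mul_mem hc hd) (inv_mem hc), (hgc.mul hmd).mul hgc.inv, fun v => ?_⟩,
    e * b * e⁻¹, autE_normal h.hE f.UT hb he, (hge.mul hmb).mul hge.inv⟩
  obtain ⟨w, rfl⟩ := c.surjective v
  rw [MulAut.mul_apply, MulAut.mul_apply, MulAut.inv_apply_self, ← Subgroup.coe_inv, ← Subgroup.coe_mul,
    ← map_inv, ← map_mul]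
  exact (autGroup_mem_iff_of_stronglyClosed h.hsc f.VS hc (w⁻¹ * d w)).1 (hdm w)

theorem NT_mem_hP {t : Ω} (ht : t ∈ normalizerIn T U) : ι ⟨t, f.NT_le h ht⟩ ∈ f.hP E := by
  have htS : t ∈ S := h.hTS ht.1
  have htV : t ∈ Subgroup.normalizer ((U ⊔ centralizerIn S U : Subgroup Ω) : Set Ω) := (f.NT_le h ht).2
  refine ⟨⟨(U ⊔ centralizerIn S U).normalizerMonoidHom ⟨t, htV⟩,
    autInducedBy_le_autGroup F f.VS (mem_autInducedBy.2 ⟨t, htS, fun _ => rfl⟩),
    Ind.conj _ fun _ => rfl, fun v => ?_⟩, U.normalizerMonoidHom ⟨t, ht.2⟩,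
    autInducedBy_le_autGroup E f.UT (mem_autInducedBy.2 ⟨t, ht.1, fun _ => rfl⟩), Ind.conj _ fun _ => rfl⟩
  rw [normalizerMonoidHom_coe, ← mul_assoc, ← mul_assoc]
  exact T.mul_mem (h.conj_inv_mem_T (f.VS v.2) ht.1) (T.inv_mem ht.1)

theorem hSub_le : f.hSub E ≤ f.hP E := by
  refine sup_le (Subgroup.map_subtype_le _) ?_
  rintro _ ⟨t, ht, rfl⟩
  exact f.NT_mem_hP h (Subgroup.mem_subgroupOf.1 ht)

/-- The elements of the base in `hP` lie in `N_T(U) (U C_S(U))`. -/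
theorem exists_split_base {w : normalizerIn S (U ⊔ centralizerIn S U)} (hw : ι w ∈ f.hP E) :
    ∃ t ∈ normalizerIn T U, ∃ v ∈ U ⊔ centralizerIn S U, (w : Ω) = t * v := by
  obtain ⟨-, b, hb, hwb⟩ := hw
  have hwU : (w : Ω) ∈ normalizerIn S U := (f.normalizer_eq h).le w.2
  have hbe : b = U.normalizerMonoidHom ⟨w, hwU.2⟩ := hwb.unique f.inj (Ind.conj w.2 fun _ => rfl)
  obtain ⟨t, ht, hte⟩ := mem_autInducedBy.1 (Inter.autE_inter_autS h.hS h.hE f.UT f.fn hb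
    (mem_autInducedBy.2 ⟨w, hwU.1, fun x => by rw [hbe]; rfl⟩))
  refine ⟨t, ⟨ht, mem_normalizer_of_aut hte⟩, t⁻¹ * w, Subgroup.mem_sup_right
    (mem_centralizerIn'.2 ⟨S.mul_mem (S.inv_mem (h.hTS ht)) hwU.1, fun x hx => ?_⟩),
    (mul_inv_cancel_left _ _).symm⟩
  have h1 := hte ⟨x, hx⟩
  rw [hbe, normalizerMonoidHom_coe] at h1
  calc t⁻¹ * w * x * (t⁻¹ * w)⁻¹ = t⁻¹ * ((w : Ω) * x * (w : Ω)⁻¹) * t := by group
    _ = x := by rw [h1]; group

theorem residual_inf {w : normalizerIn S (U ⊔ centralizerIn S U)}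
    (hw : ι w ∈ (pResidual p (f.hP E)).map (f.hP E).subtype) : (w : Ω) ∈ T := by
  haveI := f.loc.finite
  set HP := f.hP E with hHP
  haveI : HP.Normal := f.hP_normal h
  obtain ⟨Sy, hSy⟩ := f.loc.sylow
  obtain ⟨Q, hQ⟩ := exists_sylow_inf_normal_hyp Sy HP
  set K : Subgroup HP :=
    (((normalizerIn T U).subgroupOf (normalizerIn S (U ⊔ centralizerIn S U))).map ι).subgroupOf HP with hK
  suffices hle : (Q : Subgroup HP) ⊓ pResidual p HP ≤ K by
    obtain ⟨m, hm, hmw⟩ := hw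
    have h1 := hle ⟨by rw [SetLike.mem_coe, hQ]; exact ⟨hSy.ge ⟨w, hmw.symm⟩, m.2⟩, hm⟩
    obtain ⟨t, ht, hte⟩ := h1
    rw [← show t = w from f.inj (hte.trans hmw)]
    exact (Subgroup.mem_subgroupOf.1 ht).1
  rw [← hyperfocal_group Q]
  refine hyperfocal_group_le _ fun P hP n hn hco x hx => ?_
  have hPr : ∀ y ∈ P, (y : G) ∈ ι.range := fun y hy => hSy.le (hQ.le (hP hy)).1
  set Vi := ((U ⊔ centralizerIn S U).subgroupOf (normalizerIn S (U ⊔ centralizerIn S U))).map ι with hVi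
  haveI : Vi.Normal := f.loc.normal
  set X := (((P.map HP.subtype) ⊔ Vi).comap ι).map (normalizerIn S (U ⊔ centralizerIn S U)).subtype with hX
  have hXN : X ≤ (normalizerIn S (U ⊔ centralizerIn S U)) := Subgroup.map_subtype_le _
  have hVX : U ⊔ centralizerIn S U ≤ X := fun v hv =>
    ⟨⟨v, f.VN hv⟩, Subgroup.mem_sup_right ⟨_, Subgroup.mem_subgroupOf.2 hv, rfl⟩, rfl⟩
  have hr : P.map HP.subtype ⊔ Vi ≤ ι.range := by
    refine sup_le ?_ (Subgroup.map_le_range _ _)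
    rintro _ ⟨y, hy, rfl⟩
    exact hPr y hy
  have hnX : ∀ y : X, ∃ z : X, ι (Subgroup.inclusion hXN z) = (n : G) * ι (Subgroup.inclusion hXN y) * (n : G)⁻¹ := by
    rintro ⟨_, y, hy, rfl⟩
    have h1 : (n : G) * ι y * (n : G)⁻¹ ∈ P.map HP.subtype ⊔ Vi := by
      refine (sup_le ?_ ?_ : P.map HP.subtype ⊔ Vi ≤ (P.map HP.subtype ⊔ Vi).comap (MulAut.conj (n : G)).toMonoidHom) hy
      · rintro _ ⟨q, hq, rfl⟩
        exact Subgroup.mem_sup_left ⟨n * q * n⁻¹, conj_mem_of_normalizer hn hq, rfl⟩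
      · exact fun v hv => Subgroup.mem_sup_right (Subgroup.Normal.conj_mem inferInstance v hv (n : G))
    obtain ⟨z, hz⟩ := hr h1
    exact ⟨⟨z, z, show ι z ∈ _ from hz ▸ h1, rfl⟩, hz⟩
  obtain ⟨a, ha, hna⟩ := f.exists_ind hXN hnX
  obtain ⟨w₀, hw₀⟩ := hPr x hx
  have hw₀X : (w₀ : Ω) ∈ X := ⟨w₀, Subgroup.mem_sup_left (hw₀ ▸ ⟨x, hx, rfl⟩), rfl⟩
  obtain ⟨t, ht, v, hv, htv⟩ := f.exists_split_base h (w := w₀) (hw₀ ▸ x.2)
  have htX : t ∈ X := by
    rw [show t = (w₀ : Ω) * v⁻¹ by rw [htv]; group]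
    exact X.mul_mem hw₀X (X.inv_mem (hVX hv))
  have hXS : X ≤ S := hXN.trans (normalizerIn_le _)
  have hat : ((a ⟨t, htX⟩ : X) : Ω) ∈ T := (autGroup_mem_iff_of_stronglyClosed h.hsc hXS ha _).1 ht.1
  obtain ⟨⟨d, -, hnd, hdm⟩, -⟩ := (n.2 : (n : G) ∈ HP)
  have hav : ((a ⟨v, hVX hv⟩ : X) : Ω) = ((d ⟨v, hv⟩ : ↥(U ⊔ centralizerIn S U)) : Ω) :=
    congrArg Subtype.val (f.inj ((hna ⟨v, hVX hv⟩).trans (hnd ⟨v, hv⟩).symm) :
      Subgroup.inclusion hXN (a ⟨v, hVX hv⟩) = Subgroup.inclusion f.VN (d ⟨v, hv⟩))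
  have hmv : (v : Ω)⁻¹ * ((d ⟨v, hv⟩ : ↥(U ⊔ centralizerIn S U)) : Ω) ∈ T := hdm ⟨v, hv⟩
  set w₁ : X := ⟨w₀, hw₀X⟩ with hw₁
  have haw : ((a w₁ : X) : Ω) = ((a ⟨t, htX⟩ : X) : Ω) * ((d ⟨v, hv⟩ : ↥(U ⊔ centralizerIn S U)) : Ω) := by
    rw [← hav, ← Subgroup.coe_mul, ← map_mul]
    exact congrArg (fun z => ((a z : X) : Ω)) (Subtype.ext htv)
  have hT : (w₀ : Ω)⁻¹ * ((a w₁ : X) : Ω) ∈ T := by
    rw [haw, htv, show (t * v)⁻¹ * (((a ⟨t, htX⟩ : X) : Ω) * ((d ⟨v, hv⟩ : ↥(U ⊔ centralizerIn S U)) : Ω)) =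
      v⁻¹ * (t⁻¹ * ((a ⟨t, htX⟩ : X) : Ω)) * v * (v⁻¹ * ((d ⟨v, hv⟩ : ↥(U ⊔ centralizerIn S U)) : Ω)) by group]
    exact T.mul_mem (h.conj_inv_mem_T (f.VS hv) (T.mul_mem (T.inv_mem ht.1) hat)) hmv
  set z := w₀⁻¹ * Subgroup.inclusion hXN (a w₁) with hz
  refine ⟨z, Subgroup.mem_subgroupOf.2 ⟨hT, ?_⟩, ?_⟩
  · exact ((f.normalizer_eq h).le z.2).2
  · rw [map_mul, map_inv, hna w₁, show Subgroup.inclusion hXN w₁ = w₀ from rfl, hw₀]
    rfl

theorem hSub_normal : (f.hSub E).Normal := by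
  haveI := f.loc.finite
  set HP := f.hP E with hHP
  haveI : HP.Normal := f.hP_normal h
  set O := (pResidual p HP).map HP.subtype with hO
  haveI : O.Normal := inferInstance
  set NT := ((normalizerIn T U).subgroupOf (normalizerIn S (U ⊔ centralizerIn S U))).map ι with hNT
  obtain ⟨Sy, hSy⟩ := f.loc.sylow
  obtain ⟨Q, hQ⟩ := exists_sylow_inf_normal_hyp Sy HP
  -- the elements of the Sylow subgroup of `hP` and its normaliser normalise `NT`
  have hnT : ∀ g : G, (∀ y : G, y ∈ HP → y ∈ ι.range → g * y * g⁻¹ ∈ ι.range) →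
      ∀ y ∈ NT, g * y * g⁻¹ ∈ NT := by
    intro g hg
    set X := ((HP ⊓ ι.range).comap ι).map (normalizerIn S (U ⊔ centralizerIn S U)).subtype with hX
    have hXN : X ≤ (normalizerIn S (U ⊔ centralizerIn S U)) := Subgroup.map_subtype_le _
    have hX' : ∀ x : X, ∃ y : X, ι (Subgroup.inclusion hXN y) = g * ι (Subgroup.inclusion hXN x) * g⁻¹ := by
      rintro ⟨_, x, hx, rfl⟩
      obtain ⟨z, hz⟩ := hg _ hx.1 hx.2
      refine ⟨⟨z, z, ⟨?_, ⟨z, rfl⟩⟩, rfl⟩, hz⟩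
      show ι z ∈ HP
      rw [hz]
      exact Subgroup.Normal.conj_mem inferInstance _ hx.1 g
    obtain ⟨a, ha, hga⟩ := f.exists_ind hXN hX'
    rintro _ ⟨t, ht, rfl⟩
    have htX : (t : Ω) ∈ X :=
      ⟨t, ⟨f.NT_mem_hP h (Subgroup.mem_subgroupOf.1 ht), ⟨t, rfl⟩⟩, rfl⟩
    have haT : ((a ⟨t, htX⟩ : X) : Ω) ∈ T :=
      (autGroup_mem_iff_of_stronglyClosed h.hsc (hXN.trans (normalizerIn_le _)) ha _).1
        (Subgroup.mem_subgroupOf.1 ht).1
    exact ⟨Subgroup.inclusion hXN (a ⟨t, htX⟩), Subgroup.mem_subgroupOf.2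
      ⟨haT, ((f.normalizer_eq h).le (Subgroup.inclusion hXN (a ⟨t, htX⟩)).2).2⟩, hga ⟨t, htX⟩⟩
  refine ⟨fun m hm g => ?_⟩
  refine (sup_le (fun y hy => Subgroup.mem_sup_left (Subgroup.Normal.conj_mem inferInstance y hy g)) ?_ :
    O ⊔ NT ≤ (O ⊔ NT).comap (MulAut.conj g).toMonoidHom) hm
  intro y hy
  show g * y * g⁻¹ ∈ O ⊔ NT
  -- Frattini
  have hG : g ∈ ((HP ⊔ Subgroup.normalizer ((Q : Subgroup HP).map HP.subtype : Set G) : Subgroup G) : Set G) := by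
    rw [sup_comm, Sylow.normalizer_sup_eq_top Q]
    exact Subgroup.mem_top g
  rw [Subgroup.normal_mul] at hG
  obtain ⟨k, hk, n, hn, rfl⟩ := hG
  have hQm : ∀ q : G, q ∈ HP → (q ∈ (Q : Subgroup HP).map HP.subtype ↔ q ∈ ι.range) := fun q hq => by
    constructor
    · rintro ⟨q', hq', rfl⟩
      exact hSy.le (hQ.le hq').1
    · intro h1
      exact ⟨⟨q, hq⟩, hQ.ge ⟨hSy.ge h1, hq⟩, rfl⟩
  have hn' : ∀ y : G, y ∈ HP → y ∈ ι.range → n * y * n⁻¹ ∈ ι.range := fun y hy hyr => by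
    have h1 := conj_mem_of_normalizer hn ((hQm y hy).2 hyr)
    exact (hQm _ (Subgroup.Normal.conj_mem inferInstance y hy n)).1 h1
  obtain ⟨o, ho, q, hq, hkq⟩ := Transfer.PResidual.exists_mul_sylow Q (⟨k, hk⟩ : HP)
  have hkG : k = (o : G) * (q : G) := (congrArg Subtype.val hkq).symm
  have hq' : ∀ y : G, y ∈ HP → y ∈ ι.range → (q : G) * y * (q : G)⁻¹ ∈ ι.range := fun y _ hyr => by
    have h1 : (q : G) ∈ ι.range := hSy.le (hQ.le hq).1
    exact mul_mem (mul_mem h1 hyr) (inv_mem h1)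
  have h2 := hnT _ hq' _ (hnT n hn' y hy)
  rw [hkG, show (o : G) * q * n * y * ((o : G) * q * n)⁻¹ =
    (o : G) * ((q : G) * (n * y * n⁻¹) * (q : G)⁻¹ * (o : G)⁻¹ * ((q : G) * (n * y * n⁻¹) * (q : G)⁻¹)⁻¹) *
      ((q : G) * (n * y * n⁻¹) * (q : G)⁻¹) by group]
  have hoO : (o : G) ∈ O := ⟨o, ho, rfl⟩
  exact Subgroup.mul_mem_sup (O.mul_mem hoO (Subgroup.Normal.conj_mem inferInstance _ (O.inv_mem hoO) _)) h2

/-- The base meets `hSub` in `N_T(U)`. -/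
theorem hSub_inf {w : normalizerIn S (U ⊔ centralizerIn S U)} (hw : ι w ∈ f.hSub E) :
    (w : Ω) ∈ normalizerIn T U := by
  haveI : (f.hP E).Normal := f.hP_normal h
  refine ⟨?_, ((f.normalizer_eq h).le w.2).2⟩
  have hw' := hw
  rw [hSub, ← SetLike.mem_coe, Subgroup.normal_mul] at hw'
  obtain ⟨o, ho, _, ⟨t, ht, rfl⟩, hot⟩ := hw'
  have h1 : ι (w * t⁻¹) ∈ (pResidual p (f.hP E)).map (f.hP E).subtype := by
    rw [map_mul, map_inv, ← hot]
    simpa [mul_assoc] using ho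
  have h2 := T.mul_mem (f.residual_inf h h1) (Subgroup.mem_subgroupOf.1 ht).1
  rwa [Subgroup.coe_mul, Subgroup.coe_inv, inv_mul_cancel_right] at h2

/-- Conjugation by elements of `hSub` moves elements of the base within cosets of `T`. -/
theorem hSub_move {g : G} (hg : g ∈ f.hSub E) {w w' : normalizerIn S (U ⊔ centralizerIn S U)}
    (he : ι w' = g * ι w * g⁻¹) : (w : Ω)⁻¹ * w' ∈ T := by
  haveI := f.hSub_normal h
  refine (f.hSub_inf h (w := w⁻¹ * w') ?_).1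
  rw [map_mul, map_inv, he, show (ι w)⁻¹ * (g * ι w * g⁻¹) = (ι w)⁻¹ * g * ι w * g⁻¹ by group]
  exact mul_mem (by simpa using Subgroup.Normal.conj_mem inferInstance g hg (ι w)⁻¹) (inv_mem hg)

/-- An element of `hP` centralising `U` lies in the base. -/
theorem hP_centralizes {g : G} (hg : g ∈ f.hP E) (hU : Ind ι f.UN g 1) :
    ∃ w : normalizerIn S (U ⊔ centralizerIn S U), ι w = g := by
  obtain ⟨⟨d, hd, hgd, hdm⟩, -⟩ := hg
  haveI := finite_sub f.VS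
  have hinv : ∀ a ∈ F.autGroup (U ⊔ centralizerIn S U), ∀ x : ↥(U ⊔ centralizerIn S U), (x : Ω) ∈ U ↔ ((a x : ↥(U ⊔ centralizerIn S U)) : Ω) ∈ U := fun a ha x => by
    have h1 := autGroup_mem_iff_of_stronglyClosed h.hsc f.VS ha x
    exact ⟨fun hx => f.V_inf (a x).2 (h1.1 (f.UT hx)), fun hx => f.V_inf x.2 (h1.2 (f.UT hx))⟩
  have hle : moveSub (U ⊔ centralizerIn S U) U ⊓ fixSub (U ⊔ centralizerIn S U) U ⊓ F.autGroup (U ⊔ centralizerIn S U) ≤ autInducedBy S (U ⊔ centralizerIn S U) := by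
    refine Inter.le_autS_of_normal (fullyAutomized_of_fullyNormalized h.hS h.hF
      (Inter.hull_fn h.hsc f.UT f.CT f.fn)) inf_le_right ?_ ((Inter.isPGroup_fix_move h.hS f.VS).to_le inf_le_left)
    intro a ha k hk
    exact ⟨⟨layerStab_conj_mem (fun _ => hinv a ha) (fun _ x => ⟨fun _ => (a x).2, fun _ => x.2⟩) hk.1.1,
      Inter.fixSub_conj hk.1.2 fun x hx => (hinv _ ((F.autGroup (U ⊔ centralizerIn S U)).inv_mem ha) x).1 hx⟩, mul_mem (mul_mem ha hk.2) ((F.autGroup (U ⊔ centralizerIn S U)).inv_mem ha)⟩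
  have hdU : Restr (le_sup_left : U ≤ (U ⊔ centralizerIn S U)) d 1 := hgd.restr_of f.inj hU
  have hdmem : d ∈ moveSub (U ⊔ centralizerIn S U) U ⊓ fixSub (U ⊔ centralizerIn S U) U ⊓ F.autGroup (U ⊔ centralizerIn S U) := by
    refine ⟨⟨Inter.mem_moveSub (hinv d hd) fun x => f.V_inf ((U ⊔ centralizerIn S U).mul_mem ((U ⊔ centralizerIn S U).inv_mem x.2) (d x).2) (hdm x),
      fun x hx => ?_⟩, hd⟩
    exact Subtype.ext (Inter.restr_apply hdU hx)
  obtain ⟨s, hs, hse⟩ := mem_autInducedBy.1 (hle hdmem)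
  have hsN : s ∈ normalizerIn S (U ⊔ centralizerIn S U) := ⟨hs, mem_normalizer_of_aut hse⟩
  have hk := (Ind.conj (ι := ι) (hX := f.VN) hsN hse).inv.mul hgd
  rw [inv_mul_cancel] at hk
  obtain ⟨y, hy, hye⟩ := f.loc.centralizer ((ι ⟨s, hsN⟩)⁻¹ * g) fun x hx => by
    have h1 := hk ⟨x, hx⟩
    rw [MulAut.one_apply, show Subgroup.inclusion f.VN ⟨(x : Ω), hx⟩ = x from rfl] at h1
    exact eq_mul_inv_iff_mul_eq.1 h1 |>.symm
  have hgw : ι (⟨s, hsN⟩ * y) = g := by rw [map_mul, hye, mul_inv_cancel_left]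
  exact ⟨_, hgw⟩

/-- The centraliser of `U` in `hSub` is the centre of `U`. -/
theorem hSub_centralizes {g : G} (hg : g ∈ f.hSub E) (hU : Ind ι f.UN g 1) :
    ∃ (z : Ω) (hz : z ∈ U), ι ⟨z, f.UN hz⟩ = g := by
  obtain ⟨w, hgw⟩ := f.hP_centralizes h (f.hSub_le h hg) hU
  have hwT := (f.hSub_inf h (hgw.symm ▸ hg)).1
  refine ⟨_, f.CT (mem_centralizerIn'.2 ⟨hwT, fun x hx => ?_⟩), hgw⟩
  have h1 := hU ⟨x, hx⟩
  rw [MulAut.one_apply, ← hgw, ← map_inv, ← map_mul, ← map_mul] at h1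
  exact (congrArg Subtype.val (f.inj h1)).symm

theorem coprime_mem_hSub {g : G} (hg : g ∈ f.hP E) (hco : (orderOf g).Coprime p) : g ∈ f.hSub E :=
  Subgroup.mem_sup_left (Transfer.PResidual.mem_map_subtype hg hco)

end Frame

end Cfsg.Agent.Lib.FS.ES
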