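import Cfsg.Agent.Lib.FusionSystem.ES.Frame
import Cfsg.Agent.Lib.Coprime.Conjugacy

/-!
The generating automorphisms are induced by the normal subgroup of the model, and conversely.
-/

set_option autoImplicit false
set_option linter.style.haveILetI false
set_option linter.unusedSectionVars false

namespace Cfsg.Agent.Lib.FS.ES

open Cfsg Cfsg.FusionSystem Cfsg.Agent.Lib Cfsg.Agent.Lib.FS
open Cfsg.Agent.Lib.FS.NormalCentralizer (CentricT exists_pow_prime_to mapsTo_sup)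
open Cfsg.Agent.Lib.FS.CentralLift (Restr congr_apply_map)
open Cfsg.Agent.Lib.FS.Inter (exists_aut exists_restr moveSub fixSub restr_apply autE_normal autE_le_autF)
open scoped Pointwise

universe u

variable {Ω : Type u} [Group Ω] {S T R U : Subgroup Ω} [Finite S] {p : ℕ} [hp : Fact p.Prime]
  {F : FusionSystem S} {E : FusionSystem T}
variable {G : Type u} [Group G] {ι : normalizerIn S (U ⊔ centralizerIn S U) →* G}

namespace Frame

variable (f : Frame F T U p ι) (h : Setting F E R p)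
include f h

/-- An element of `hSub` of order prime to `p` normalising a subgroup of `N_T(U)` induces a member of `E`. -/
theorem induce_autE {X : Subgroup Ω} (hUX : U ≤ X) (hXN : X ≤ normalizerIn T U) {g : G} (hg : g ∈ f.hSub E)
    (hco : (orderOf g).Coprime p) {a : MulAut X} (ha : a ∈ F.autGroup X)
    (hga : Ind ι (hXN.trans (f.NT_le h)) g a) : a ∈ E.autGroup X := by
  haveI := f.loc.finite
  have hXT : X ≤ T := hXN.trans (normalizerIn_le U)
  have hXS : X ≤ S := hXT.trans h.hTS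
  haveI := finite_sub hXS
  haveI := FusionP3.GT.finite_mulAut ↥X
  obtain ⟨-, b, hb, hgb⟩ := f.hSub_le h hg
  have hab : Restr hUX a b := hga.restr_of f.inj (hgb : Ind ι (hUX.trans (hXN.trans (f.NT_le h))) g b)
  have hord : ¬ p ∣ orderOf b :=
    (hp.out.coprime_iff_not_dvd).1 (hco.coprime_dvd_left (hgb.order_dvd f.inj)).symm
  have hordA : ¬ p ∣ orderOf a :=
    (hp.out.coprime_iff_not_dvd).1 (hco.coprime_dvd_left (hga.order_dvd f.inj)).symm
  obtain ⟨e, he, hre, -⟩ := Inter.exists_ext_normal h.hS h.hE h.hsc le_rfl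
    (fullyNormalized_props h.hS h.hF f.fn).1 f.CT hUX hXN hb hord (fun c hc => by
      obtain ⟨y, hy, hye⟩ := mem_autInducedBy.1 hc
      refine mem_autInducedBy.2 ⟨a ⟨y, hy⟩, (a ⟨y, hy⟩).2, fun x => ?_⟩
      exact conj_aut_eq hUX (ψ := X.subtype.comp a.toMonoidHom) (g := ⟨y, hy⟩) hab hye x)
  have heF := autE_le_autF h.hsub hXT he
  set d := a * e⁻¹ with hd
  have hdF : d ∈ F.autGroup X := mul_mem ha (inv_mem heF)
  have hdU : Restr hUX d 1 := by
    have := hab.mul hre.inv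
    rwa [mul_inv_cancel] at this
  have hdfix : d ∈ fixSub X U := fun x hx => Subtype.ext (restr_apply hdU hx)
  have hdmove : d ∈ moveSub X U := by
    refine Inter.mem_moveSub (fun x => ⟨fun hx => by rw [hdfix x hx]; exact hx, fun hx => ?_⟩) fun x => ?_
    · have h1 := hdfix _ hx
      rw [← d.injective h1]
      exact hx
    · refine f.CT (mem_centralizerIn'.2 ⟨T.mul_mem (T.inv_mem (hXT x.2)) (hXT (d x).2), fun y hy => ?_⟩)
      have hxy : (x : Ω) * y * (x : Ω)⁻¹ ∈ U := conj_mem_of_normalizer (hXN x.2).2 hy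
      have h1 : ((d x : X) : Ω) * y * ((d x : X) : Ω)⁻¹ = (x : Ω) * y * (x : Ω)⁻¹ := by
        have e1 := congrArg (fun z : X => (z : Ω)) (map_mul d (x * ⟨y, hUX hy⟩) x⁻¹)
        have e2 : d (x * ⟨y, hUX hy⟩ * x⁻¹) = x * ⟨y, hUX hy⟩ * x⁻¹ := hdfix _ hxy
        rw [e2, map_mul, hdfix ⟨y, hUX hy⟩ hy, map_inv] at e1
        simpa using e1.symm
      rw [show (x : Ω)⁻¹ * ((d x : X) : Ω) * y * ((x : Ω)⁻¹ * ((d x : X) : Ω))⁻¹ =
        (x : Ω)⁻¹ * (((d x : X) : Ω) * y * ((d x : X) : Ω)⁻¹) * x by group, h1]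
      group
  obtain ⟨k, hk⟩ := Inter.isPGroup_fix_move (R := U) h.hS hXS ⟨d, hdmove, hdfix⟩
  refine Inter.mem_of_coprime_mul (p := p) (H := F.autGroup X) (fun g hg n hn => autE_normal h.hE hXT hn hg)
    ha hdF ?_ hordA (congrArg Subtype.val hk)
  rw [hd, mul_inv_rev, inv_inv, ← mul_assoc]
  exact autE_normal h.hE hXT he ha

/-- A lift of the restriction to `U` of a generating automorphism, normalising its source. -/
theorem exists_lift_kgen {P : Subgroup Ω} (hPN : P ≤ normalizerIn S (U ⊔ centralizerIn S U)) (hPU : P ⊓ T = U)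
    (hUP : U ≤ P) {a : MulAut P} (ha : IsKGen F E p P a) :
    ∃ g ∈ f.hSub E, ∃ a' b, IsKGen F E p P a' ∧ Ind ι hPN g a' ∧ Restr hUP a b ∧ Restr hUP a' b := by
  haveI := f.loc.finite
  obtain ⟨haF, hord, hmv, b₀, hb₀, hab₀⟩ := ha
  have key : ∀ W : Subgroup Ω, W = U → ∀ hW : W ≤ P, ∀ b₀ ∈ E.autGroup W, Restr hW a b₀ →
      ∃ b ∈ E.autGroup U, Restr hUP a b := by
    rintro W rfl hW b₀ hb₀ hab₀
    exact ⟨b₀, hb₀, hab₀⟩
  obtain ⟨b, hb, hab⟩ := key _ hPU _ b₀ hb₀ hab₀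
  have hbord : ¬ p ∣ orderOf b := fun hd => hord (hd.trans (orderOf_dvd_of_pow_eq_one
    (Restr.unique (hab.pow _) (by rw [pow_orderOf_eq_one]; exact Restr.one))))
  obtain ⟨D, hD, hD1, hD2⟩ := Inter.autE_mv h.hS h.hE U f.UT (fullyNormalized_props h.hS h.hF f.fn).1 b hb
  haveI := finite_sub f.VS
  obtain ⟨d, hd, hde⟩ := exists_aut hD (mapsTo_sup
    (fun x => by rw [hD1]; exact Subgroup.mem_sup_left (b x).2)
    (fun c => Subgroup.mem_sup_right
      (Inter.apply_centralizer_mem hD (fun y hy => ⟨b⁻¹ ⟨y, hy⟩, by rw [hD1, MulAut.apply_inv_self]⟩) c)))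
  have hdb : Restr (le_sup_left : U ≤ U ⊔ centralizerIn S U) d b := fun x => (hde _).trans (hD1 x)
  have hdm : ∀ v : ↥(U ⊔ centralizerIn S U), (v : Ω)⁻¹ * ((d v : ↥(U ⊔ centralizerIn S U)) : Ω) ∈ T := by
    intro v
    obtain ⟨u, hu, c, hc, he⟩ := NormalCentralizer.Odd.exists_mul v.2
    have hv : v = Subgroup.inclusion le_sup_left ⟨u, hu⟩ * Subgroup.inclusion le_sup_right ⟨c, hc⟩ :=
      Subtype.ext he.symm
    rw [hde, hv, map_mul, hD1, Subgroup.coe_mul]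
    show (u * c)⁻¹ * (((b ⟨u, hu⟩ : U) : Ω) * D (Subgroup.inclusion le_sup_right ⟨c, hc⟩)) ∈ T
    rw [show (u * c)⁻¹ * (((b ⟨u, hu⟩ : U) : Ω) * D (Subgroup.inclusion le_sup_right ⟨c, hc⟩)) =
      c⁻¹ * (u⁻¹ * ((b ⟨u, hu⟩ : U) : Ω)) * c * (c⁻¹ * D (Subgroup.inclusion le_sup_right ⟨c, hc⟩)) by group]
    exact T.mul_mem (h.conj_inv_mem_T hc.1 (T.mul_mem (T.inv_mem (f.UT hu)) (f.UT (b _).2))) (hD2 ⟨c, hc⟩)
  obtain ⟨g₀, hg₀⟩ := f.loc.lift d hd
  have hg₀d : Ind ι f.VN g₀ d := fun x => hg₀ x (f.VN x.2) (f.VN (d x).2)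
  obtain ⟨n, hn, hnord⟩ := exists_pow_prime_to (x := g₀) hbord
  have hgb : Ind ι f.UN (g₀ ^ n) b := hn ▸ (hg₀d.restr hdb).pow n
  have hgP : g₀ ^ n ∈ f.hP E := (f.hP E).pow_mem ⟨⟨d, hd, hg₀d, hdm⟩, b, hb, hg₀d.restr hdb⟩ n
  have hco : (orderOf (g₀ ^ n)).Coprime p := ((hp.out.coprime_iff_not_dvd).2 hnord).symm
  set g := g₀ ^ n with hg
  have hgH : g ∈ f.hSub E := f.coprime_mem_hSub h hgP hco
  haveI := f.hP_normal h
  have hUN' : ∀ y ∈ P, y ∈ Subgroup.normalizer (U : Set Ω) := fun y hy => ((f.normalizer_eq h).le (hPN hy)).2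
  -- `g` normalises `P`
  have hstep : ∀ x : P, ∃ y : P, ι (Subgroup.inclusion hPN y) = g * ι (Subgroup.inclusion hPN x) * g⁻¹ := by
    intro x
    set w := Subgroup.inclusion hPN x with hw
    set w₁ := Subgroup.inclusion hPN (a x) with hw₁
    set k := g * ι w * g⁻¹ * (ι w₁)⁻¹ with hk
    have hkP : k ∈ f.hP E := by
      have ht : ((w * w₁⁻¹ : normalizerIn S (U ⊔ centralizerIn S U)) : Ω) ∈ normalizerIn T U := by
        refine ⟨?_, mul_mem (hUN' _ x.2) (Subgroup.inv_mem _ (hUN' _ (a x).2))⟩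
        have h1 := T.inv_mem (h.conj_mem_T (hPN x.2).1 (hmv x))
        rw [show ((x : Ω) * ((x : Ω)⁻¹ * ((a x : P) : Ω)) * (x : Ω)⁻¹)⁻¹ = (x : Ω) * ((a x : P) : Ω)⁻¹ by group] at h1
        exact h1
      have h2 := f.NT_mem_hP h ht
      rw [show (⟨((w * w₁⁻¹ : normalizerIn S (U ⊔ centralizerIn S U)) : Ω), f.NT_le h ht⟩ :
        normalizerIn S (U ⊔ centralizerIn S U)) = w * w₁⁻¹ from rfl, map_mul, map_inv] at h2
      rw [hk, show g * ι w * g⁻¹ * (ι w₁)⁻¹ = g * (ι w * g⁻¹ * (ι w)⁻¹) * (ι w * (ι w₁)⁻¹) by group]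
      exact mul_mem (mul_mem hgP (Subgroup.Normal.conj_mem inferInstance _ (inv_mem hgP) _)) h2
    set cw : MulAut U := U.normalizerMonoidHom ⟨x, hUN' _ x.2⟩ with hcw
    set cw₁ : MulAut U := U.normalizerMonoidHom ⟨(a x : P), hUN' _ (a x).2⟩ with hcw₁
    have hkU : Ind ι f.UN k 1 := by
      have heq : b * cw * b⁻¹ = cw₁ := MulEquiv.ext fun y => Subtype.ext
        (conj_aut_eq hUP (ψ := P.subtype.comp a.toMonoidHom) (g := x) hab (fun _ => rfl) y)
      have h1 := ((hgb.mul (Ind.conj (ι := ι) (a := cw) (hPN x.2) fun _ => rfl)).mul hgb.inv).mul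
        (Ind.conj (ι := ι) (hX := f.UN) (a := cw₁) (hPN (a x).2) fun _ => rfl).inv
      rw [heq, mul_inv_cancel] at h1
      exact h1
    obtain ⟨w₂, hw₂⟩ := f.hP_centralizes h hkP hkU
    set w' := w₂ * w₁ with hw'
    have hιw' : ι w' = g * ι w * g⁻¹ := by rw [hw', map_mul, hw₂, hk, inv_mul_cancel_right]
    have hmove := f.hSub_move h hgH hιw'
    -- `w₂ = w' (a x)⁻¹` lies in `T` and centralises `U`
    have hw₂T : (w₂ : Ω) ∈ T := by
      have h1 := T.mul_mem (T.inv_mem (hmv x)) hmove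
      rw [show ((x : Ω)⁻¹ * ((a x : P) : Ω))⁻¹ * ((w : Ω)⁻¹ * (w' : Ω)) = ((a x : P) : Ω)⁻¹ * (w' : Ω) by
        show _ * ((x : Ω)⁻¹ * (w' : Ω)) = _; group] at h1
      have h2 := h.conj_mem_T (hPN (a x).2).1 h1
      simpa [hw', hw₁, mul_assoc] using h2
    have hw₂U : (w₂ : Ω) ∈ U := f.CT (mem_centralizerIn'.2 ⟨hw₂T, fun y hy => by
      have h1 := hkU ⟨y, hy⟩
      rw [MulAut.one_apply, ← hw₂, ← map_inv, ← map_mul, ← map_mul] at h1
      exact (congrArg Subtype.val (f.inj h1)).symm⟩)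
    exact ⟨⟨w', P.mul_mem (hUP hw₂U) (a x).2⟩, hιw'⟩
  obtain ⟨a', ha', hga'⟩ := f.exists_ind hPN hstep
  have ha'b : Restr hUP a' b := hga'.restr_of f.inj (hgb : Ind ι (hUP.trans hPN) g b)
  refine ⟨g, hgH, a', b, ⟨ha', (hp.out.coprime_iff_not_dvd).1 (hco.coprime_dvd_left (hga'.order_dvd f.inj)).symm,
    fun x => f.hSub_move h hgH (hga' x), ?_⟩, hga', hab, ha'b⟩
  have key' : ∀ W : Subgroup Ω, W = U → ∀ hW : W ≤ P, ∃ b' ∈ E.autGroup W, Restr hW a' b' := by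
    rintro W rfl hW
    exact ⟨b, hb, ha'b⟩
  exact key' _ hPU _

/-- Generating automorphisms of a fully normalised subgroup are induced by `hSub`. -/
theorem kgen_induced_fn {P : Subgroup Ω} (hPN : P ≤ normalizerIn S (U ⊔ centralizerIn S U)) (hPU : P ⊓ T = U)
    (hPn : F.IsFullyNormalized P) {a : MulAut P} (ha : IsKGen F E p P a) :
    ∃ g ∈ f.hSub E, Ind ι hPN g a := by
  have hUP : U ≤ P := hPU.ge.trans inf_le_left
  obtain ⟨g, hg, a', b, ha', hga', hab, ha'b⟩ := f.exists_lift_kgen h hPN hPU hUP ha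
  haveI := f.loc.finite
  haveI := finite_sub hPn.1
  haveI := FusionP3.GT.finite_mulAut ↥P
  haveI := f.hSub_normal h
  have hinv : ∀ c ∈ F.autGroup P, ∀ x : P, (x : Ω) ∈ U ↔ ((c x : P) : Ω) ∈ U := fun c hc x => by
    have h1 := autGroup_mem_iff_of_stronglyClosed h.hsc hPn.1 hc x
    exact ⟨fun hx => hPU.le ⟨(c x).2, h1.1 (f.UT hx)⟩, fun hx => hPU.le ⟨x.2, h1.2 (f.UT hx)⟩⟩
  set J := moveSub P U ⊓ fixSub P U ⊓ F.autGroup P with hJ
  have hJp : IsPGroup p J := (Inter.isPGroup_fix_move h.hS hPn.1).to_le inf_le_left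
  have hJn : ∀ c ∈ F.autGroup P, ∀ j ∈ J, c * j * c⁻¹ ∈ J := fun c hc j hj =>
    ⟨⟨layerStab_conj_mem (fun _ => hinv c hc) (fun _ x => ⟨fun _ => (c x).2, fun _ => x.2⟩) hj.1.1,
      Inter.fixSub_conj hj.1.2 fun x hx => (hinv _ ((F.autGroup P).inv_mem hc) x).1 hx⟩,
      mul_mem (mul_mem hc hj.2) ((F.autGroup P).inv_mem hc)⟩
  have hJS : J ≤ autInducedBy S P :=
    Inter.le_autS_of_normal (fullyAutomized_of_fullyNormalized h.hS h.hF hPn) inf_le_right hJn hJp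
  -- an element fixing `U` and moving within cosets of `T` lies in `J`
  have hmemJ : ∀ c ∈ F.autGroup P, Restr hUP c 1 → (∀ x : P, (x : Ω)⁻¹ * ((c x : P) : Ω) ∈ T) → c ∈ J :=
    fun c hc hcU hcm => ⟨⟨Inter.mem_moveSub (hinv c hc)
      fun x => hPU.le ⟨P.mul_mem (P.inv_mem x.2) (c x).2, hcm x⟩, fun x hx => Subtype.ext (restr_apply hcU hx)⟩, hc⟩
  have horder : ∀ c, IsKGen F E p P c → Restr hUP c b → orderOf c = orderOf b := by
    intro c hc hcb
    refine Nat.dvd_antisymm (orderOf_dvd_of_pow_eq_one ?_)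
      (orderOf_dvd_of_pow_eq_one (Restr.unique (hcb.pow _) (by rw [pow_orderOf_eq_one]; exact Restr.one)))
    set e := c ^ orderOf b with he
    have hem : ∀ i : ℕ, ∀ x : P, (x : Ω)⁻¹ * (((c ^ i) x : P) : Ω) ∈ T := by
      intro i
      induction i with
      | zero => intro x; simp
      | succ i ih =>
        intro x
        have h1 := T.mul_mem (hc.2.2.1 x) (ih (c x))
        rw [mul_assoc, mul_inv_cancel_left] at h1
        rwa [pow_succ, MulAut.mul_apply]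
    have heJ : e ∈ J := hmemJ e (pow_mem hc.1 _)
      (by have := hcb.pow (orderOf b); rwa [pow_orderOf_eq_one] at this) (hem _)
    obtain ⟨k, hk⟩ := hJp ⟨e, heJ⟩
    refine orderOf_eq_one_iff.1 (Nat.eq_one_of_dvd_coprimes (a := p ^ k) (b := orderOf c)
      (Nat.Coprime.pow_left k ((hp.out.coprime_iff_not_dvd).2 hc.2.1))
      (orderOf_dvd_of_pow_eq_one (congrArg Subtype.val hk)) (orderOf_dvd_of_pow_eq_one
        (by rw [he, ← pow_mul, mul_comm, pow_mul, pow_orderOf_eq_one, one_pow])))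
  have hoa := horder a ha hab
  have hoa' := horder a' ha' ha'b
  have hdJ : a' * a⁻¹ ∈ J := hmemJ _ (mul_mem ha'.1 (inv_mem ha.1))
    (by have := ha'b.mul hab.inv; rwa [mul_inv_cancel] at this) fun x => by
      have h1 := T.mul_mem ((h.kgen_inv ha).2.2.1 x) (ha'.2.2.1 (a⁻¹ x))
      rwa [mul_assoc, mul_inv_cancel_left] at h1
  obtain ⟨j, hj, hconj⟩ := Coprime.exists_conj_eq_of_coprime (A := Subgroup.zpowers a) (B := Subgroup.zpowers a')
    (K := J)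
    (Subgroup.zpowers_le.2 (mem_normalizer_of_conj_mem fun k hk => hJn a ha.1 k hk))
    (by
      obtain ⟨m, hm⟩ := IsPGroup.iff_card.1 hJp
      rw [Nat.card_zpowers, hm]
      exact Nat.Coprime.pow_right m ((hp.out.coprime_iff_not_dvd).2 ha.2.1).symm)
    (Or.inl (Coprime.isSolvable_zpowers a))
    (Subgroup.zpowers_le.2 (by
      rw [show a' = a' * a⁻¹ * a by group]
      exact mul_mem (Subgroup.mem_sup_right hdJ) (Subgroup.mem_sup_left (Subgroup.mem_zpowers a))))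
    (by rw [Nat.card_zpowers, Nat.card_zpowers, hoa, hoa'])
  obtain ⟨i, hi⟩ := Subgroup.mem_zpowers_iff.1 (show j * a * j⁻¹ ∈ Subgroup.zpowers a' from hconj.le
    ⟨a, Subgroup.mem_zpowers a, rfl⟩)
  have hjU : Restr hUP j 1 := fun x => congrArg Subtype.val (hj.1.2 _ x.2)
  have hib : b ^ i = b := by
    have hbi : ∀ i : ℤ, Restr hUP (a' ^ i) (b ^ i) := by
      intro i
      cases i with
      | ofNat m => simpa using ha'b.pow m
      | negSucc m => simpa using (ha'b.pow (m + 1)).inv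
    have h1 := hbi i
    rw [hi] at h1
    have h2 := (hjU.mul hab).mul hjU.inv
    rw [one_mul, inv_one, mul_one] at h2
    exact h1.unique h2
  have hai : a' ^ i = a' := by
    conv_rhs => rw [← zpow_one a']
    rw [zpow_eq_zpow_iff_modEq, hoa', ← zpow_eq_zpow_iff_modEq, zpow_one, hib]
  obtain ⟨s, hs, hse⟩ := mem_autInducedBy.1 (hJS hj)
  have hsN : s ∈ normalizerIn S (U ⊔ centralizerIn S U) := by
    refine f.normalizer_le h ⟨hs, ?_⟩
    haveI := finite_sub f.US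
    exact mem_normalizer_of_conj_mem fun y hy =>
      hPU.le ⟨conj_mem_of_normalizer (mem_normalizer_of_aut hse) (hUP hy), h.conj_mem_T hs (f.UT hy)⟩
  have hIj := Ind.conj (ι := ι) (hX := hPN) hsN hse
  refine ⟨(ι ⟨s, hsN⟩)⁻¹ * g * ι ⟨s, hsN⟩, ?_, ?_⟩
  · simpa using Subgroup.Normal.conj_mem inferInstance g hg (ι ⟨s, hsN⟩)⁻¹
  · have h1 := (hIj.inv.mul hga').mul hIj
    rwa [← hai, hi, show j⁻¹ * (j * a * j⁻¹) * j = a by group] at h1

omit f in
/-- A conjugate fully normalised with fully normalised intersection with `T`. -/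
theorem exists_fn_pair {P : Subgroup Ω} (hPS : P ≤ S) :
    ∃ ω ∈ F.Hom P, F.IsFullyNormalized ω.range ∧ F.IsFullyNormalized (ω.range ⊓ T) := by
  obtain ⟨Q, hPQ, hQ⟩ := exists_isFullyNormalized F hPS
  obtain ⟨φ, hφ, hr⟩ := id hPQ
  have hUS : Q ⊓ T ≤ S := inf_le_left.trans hQ.1
  obtain ⟨U', hU', hU'n⟩ := exists_isFullyNormalized F hUS
  obtain ⟨η, hη, -, hηU⟩ := exists_normalizer_map h.hS h.hF hU'n hU'
  have hNN : normalizerIn S Q ≤ normalizerIn S (Q ⊓ T) := fun g hg => ⟨hg.1, by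
    haveI := finite_sub hUS
    exact mem_normalizer_of_conj_mem fun y hy =>
      ⟨conj_mem_of_normalizer hg.2 hy.1, h.conj_mem_T hg.1 hy.2⟩⟩
  have hQN : Q ≤ normalizerIn S (Q ⊓ T) := (le_normalizerIn hQ.1).trans hNN
  obtain ⟨ηQ, hηQ, hηQe⟩ := exists_restrict hη hQN
  obtain ⟨ω, hω, hωe⟩ := exists_comp hφ hηQ fun x => hr.le ⟨x, rfl⟩
  have hωr : ω.range = ηQ.range := by
    refine le_antisymm ?_ ?_
    · rintro _ ⟨x, rfl⟩; exact ⟨_, (hωe x).symm⟩
    · rintro _ ⟨y, rfl⟩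
      obtain ⟨x, hx⟩ := hr.ge y.2
      exact ⟨x, (hωe x).trans (congrArg ηQ (Subtype.ext hx))⟩
  refine ⟨ω, hω, ?_, ?_⟩
  · rw [hωr]
    refine ⟨range_le_base hηQ, fun X hX => ?_⟩
    haveI := finite_sub (normalizerIn_le (S := S) Q)
    haveI := finite_sub (normalizerIn_le (S := S) ηQ.range)
    obtain ⟨ηN, hηN, hηNe⟩ := exists_restrict hη hNN
    refine (hQ.2 X (isConj_trans ⟨ηQ, hηQ, rfl⟩ hX)).trans (card_le_of_hom hηN fun x => ?_)
    rw [hηNe]
    refine apply_mem_normalizerIn hη hQN ?_ _ x.2.2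
    ext y
    constructor
    · rintro ⟨z, hz, rfl⟩
      exact ⟨⟨z, hz⟩, hηQe _⟩
    · rintro ⟨z, rfl⟩
      exact ⟨⟨z, hQN z.2⟩, z.2, (hηQe z).symm⟩
  · rw [hωr]
    obtain ⟨ψ, hψ, hψr, hψe⟩ := h.restrict_inf hηQ (rfl : ηQ.range = ηQ.range)
    convert hU'n using 1
    rw [← hψr, ← hηU]
    ext y
    constructor
    · rintro ⟨z, rfl⟩
      exact ⟨⟨z, hQN z.2.1⟩, z.2, ((hψe z).trans (hηQe _)).symm⟩
    · rintro ⟨z, hz, rfl⟩
      exact ⟨⟨z, hz⟩, (hψe _).trans (hηQe _)⟩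

/-- Every generating automorphism over `U` is induced by `hSub`. -/
theorem kgen_induced {P : Subgroup Ω} (hPN : P ≤ normalizerIn S (U ⊔ centralizerIn S U)) (hPU : P ⊓ T = U)
    {a : MulAut P} (ha : IsKGen F E p P a) : ∃ g ∈ f.hSub E, Ind ι hPN g a := by
  have hUP : U ≤ P := hPU.ge.trans inf_le_left
  have hPS : P ≤ S := hPN.trans (normalizerIn_le _)
  obtain ⟨g, hg, a', b, ha', hga', hab, ha'b⟩ := f.exists_lift_kgen h hPN hPU hUP ha
  obtain ⟨ω, hω, hPn, hU₂n⟩ := exists_fn_pair h hPS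
  obtain ⟨ψ, hψ, hψr, hψe⟩ := h.restrict_inf hω (rfl : ω.range = ω.range)
  have hU₂c : CentricT F T (ω.range ⊓ T) := h.centricT_map (hPU.symm ▸ f.cT) ⟨ω, hω, rfl⟩
  obtain ⟨G₂, _, ι₂, f₂⟩ := exists_frame h hU₂c hU₂n
  have hP₂N : ω.range ≤ normalizerIn S ((ω.range ⊓ T) ⊔ centralizerIn S (ω.range ⊓ T)) := by
    intro y hy
    refine f₂.normalizer_le h ⟨range_le_base hω hy, ?_⟩
    haveI := finite_sub (inf_le_left.trans (range_le_base hω) : ω.range ⊓ T ≤ S)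
    exact mem_normalizer_of_conj_mem fun z hz =>
      ⟨conj_mem_of_normalizer (Subgroup.le_normalizer hy) hz.1, h.conj_mem_T (range_le_base hω hy) hz.2⟩
  set e := homEquiv hω (rfl : ω.range = ω.range) with he
  obtain ⟨h₁, hh₁, hI₁⟩ := f₂.kgen_induced_fn h hP₂N rfl hPn (h.kgen_congr hω rfl ha)
  obtain ⟨h₂, hh₂, hI₂⟩ := f₂.kgen_induced_fn h hP₂N rfl hPn (h.kgen_congr hω rfl ha')
  have hdiff := hI₁.inv.mul hI₂
  rw [← map_inv, ← map_mul] at hdiff
  have hzero : Restr hUP (a⁻¹ * a') 1 := by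
    have := hab.inv.mul ha'b
    rwa [inv_mul_cancel] at this
  have hres : Restr (inf_le_left : ω.range ⊓ T ≤ ω.range) (MulAut.congr e (a⁻¹ * a')) 1 := fun y => by
    obtain ⟨x, hx⟩ := hψr.ge y.2
    have hx' : Subgroup.inclusion (inf_le_left : ω.range ⊓ T ≤ ω.range) y = e ⟨x, x.2.1⟩ :=
      Subtype.ext (hx.symm.trans (hψe x))
    have hxU : (x : Ω) ∈ U := hPU.le x.2
    rw [hx', congr_apply_map, MulAut.one_apply]
    refine (congrArg ω (Subtype.ext (restr_apply hzero (x := ⟨x, x.2.1⟩) hxU) :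
      ((a⁻¹ * a') ⟨x, x.2.1⟩ : P) = ⟨x, x.2.1⟩)).trans ?_
    exact ((hψe x).symm.trans hx)
  obtain ⟨z, hz, hze⟩ := f₂.hSub_centralizes h (mul_mem (inv_mem hh₁) hh₂) (hdiff.restr hres)
  -- pull `z` back
  obtain ⟨x₀, hx₀⟩ := hψr.ge hz
  have hz₀ : (x₀ : Ω) ∈ U := hPU.le x₀.2
  have hz₀P : (x₀ : Ω) ∈ P := x₀.2.1
  have hkey : a' = a * P.normalizerMonoidHom ⟨x₀, Subgroup.le_normalizer hz₀P⟩ := by
    rw [← inv_mul_eq_iff_eq_mul]
    refine MulEquiv.ext fun x => Subtype.ext (congrArg Subtype.val (?_ : (⟨_, ((a⁻¹ * a') x).2⟩ : P) = ⟨_, _⟩))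
    apply F.injective_of_mem hω
    have h1 := hdiff (e x)
    rw [← hze, ← map_inv, ← map_mul, ← map_mul] at h1
    have h2 := congrArg Subtype.val (f₂.inj h1)
    rw [Subgroup.coe_inclusion, congr_apply_map] at h2
    refine h2.trans ?_
    show z * ω x * z⁻¹ = ω ⟨(x₀ : Ω) * x * (x₀ : Ω)⁻¹, _⟩
    rw [← hx₀, hψe, ← map_inv, ← map_mul, ← map_mul]
    rfl
  have hI : Ind ι hPN (ι ⟨x₀, hPN hz₀P⟩) (P.normalizerMonoidHom ⟨x₀, Subgroup.le_normalizer hz₀P⟩) :=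
    Ind.conj _ fun _ => rfl
  refine ⟨g * (ι ⟨x₀, hPN hz₀P⟩)⁻¹, mul_mem hg (inv_mem (Subgroup.mem_sup_right ⟨_, ?_, rfl⟩)), ?_⟩
  · exact Subgroup.mem_subgroupOf.2 ⟨f.UT hz₀, Subgroup.le_normalizer hz₀⟩
  · have h1 := hga'.mul hI.inv
    rwa [hkey, mul_inv_cancel_right] at h1

end Frame

end Cfsg.Agent.Lib.FS.ES
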