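import Cfsg.Agent.Lib.FusionSystem.Inter.Fuse
import Cfsg.Agent.Lib.Coprime.Action
import Cfsg.Agent.Lib.FusionP3.Tate

/-!
Products of a normal subsystem `E` over `T` with a subgroup `R ≥ T`: the automorphisms of order prime to `p`
which generate the product.
-/

set_option autoImplicit false
set_option linter.style.haveILetI false
set_option linter.unusedSectionVars false

namespace Cfsg.Agent.Lib.FS.ES

open Cfsg Cfsg.FusionSystem Cfsg.Agent.Lib Cfsg.Agent.Lib.FS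
open Cfsg.Agent.Lib.FS.NormalCentralizer (CentricT exists_pow_prime_to mem_zpowers_pow)
open Cfsg.Agent.Lib.FS.NormalCentralizer.Odd (autE_congr)
open Cfsg.Agent.Lib.FS.CentralLift (Restr congr_apply_map)
open Cfsg.Agent.Lib.FS.Inter (exists_aut exists_restr restr_apply)

variable {Ω : Type*} [Group Ω] {S T R : Subgroup Ω} {p : ℕ} {F : FusionSystem S} {E : FusionSystem T}

/-- The standing assumptions. -/
structure Setting (F : FusionSystem S) (E : FusionSystem T) (R : Subgroup Ω) (p : ℕ) : Prop where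
  hS : IsPGroup p S
  hE : E.IsNormalIn F p
  hTR : T ≤ R
  hRS : R ≤ S

/-- The automorphisms generating the product: order prime to `p`, moving elements within cosets of `T`, and
inducing an element of `Aut_E(W ∩ T)`. -/
def IsKGen (F : FusionSystem S) (E : FusionSystem T) (p : ℕ) (W : Subgroup Ω) (a : MulAut W) : Prop :=
  a ∈ F.autGroup W ∧ ¬ p ∣ orderOf a ∧ (∀ x : W, (x : Ω)⁻¹ * ((a x : W) : Ω) ∈ T) ∧
    ∃ b ∈ E.autGroup (W ⊓ T), Restr (inf_le_left : W ⊓ T ≤ W) a b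

/-- The subgroups of `R` meeting `T` in a subgroup centric relative to `T`. -/
def InH (F : FusionSystem S) (T R W : Subgroup Ω) : Prop :=
  W ≤ R ∧ CentricT F T (W ⊓ T)

namespace Setting

variable (h : Setting F E R p)
include h

theorem hF : F.IsSaturated p := h.hE.1.2.1

theorem hEs : E.IsSaturated p := h.hE.1.1

theorem hsub : E.IsSubsystemOf F := h.hE.1.2.2.1

theorem hsc : F.StronglyClosed T := h.hE.1.2.2.2.1

theorem hTS : T ≤ S := h.hsc.1

theorem of_le {R' : Subgroup Ω} (h₁ : T ≤ R') (h₂ : R' ≤ S) : Setting F E R' p :=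
  ⟨h.hS, h.hE, h₁, h₂⟩

theorem conj_mem_T {g t : Ω} (hg : g ∈ S) (ht : t ∈ T) : g * t * g⁻¹ ∈ T :=
  conj_mem_of_normalizer (stronglyClosed_le_normalizer h.hsc hg) ht

theorem conj_inv_mem_T {g t : Ω} (hg : g ∈ S) (ht : t ∈ T) : g⁻¹ * t * g ∈ T :=
  conj_inv_mem_of_normalizer (stronglyClosed_le_normalizer h.hsc hg) ht

/-- `E` is invariant under conjugation by elements of `S`. -/
theorem conj_homE {s : Ω} (hs : s ∈ S) {Q X : Subgroup Ω} {e : Q →* Ω} (he : e ∈ E.Hom Q)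
    (hX : ∀ x ∈ X, s * x * s⁻¹ ∈ Q) :
    ∃ e' ∈ E.Hom X, ∀ x : X, e' x = s⁻¹ * e ⟨s * x * s⁻¹, hX x x.2⟩ * s := by
  have hQT : Q ≤ T := src_le he
  have hsn : (s⁻¹ : Ω) ∈ Subgroup.normalizer (T : Set Ω) := stronglyClosed_le_normalizer h.hsc (S.inv_mem hs)
  set α : MulAut T := T.normalizerMonoidHom ⟨s⁻¹, hsn⟩ with hα
  have hαe : ∀ t : T, ((α t : T) : Ω) = s⁻¹ * t * s := fun t => by
    rw [hα, normalizerMonoidHom_coe, inv_inv]
  have hαF : α ∈ F.autGroup T :=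
    autInducedBy_le_autGroup F h.hTS (mem_autInducedBy.2 ⟨s⁻¹, S.inv_mem hs, fun _ => rfl⟩)
  obtain ⟨χ, hχ, hχe⟩ := h.hE.1.2.2.2.2.1 Q hQT e he α hαF
  have hle : X ≤ (Q.subgroupOf T).map (T.subtype.comp α.toMonoidHom) := fun x hx =>
    ⟨⟨s * x * s⁻¹, hQT (hX x hx)⟩, hX x hx, by
      show ((α _ : T) : Ω) = x
      rw [hαe]; show s⁻¹ * (s * x * s⁻¹) * s = x; group⟩
  obtain ⟨e', he', hee⟩ := exists_restrict hχ hle
  refine ⟨e', he', fun x => ?_⟩
  have hx' : ((α ⟨s * (x : Ω) * s⁻¹, hQT (hX x x.2)⟩ : T) : Ω) = x := by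
    rw [hαe]; show s⁻¹ * (s * (x : Ω) * s⁻¹) * s = x; group
  have hmem : ((α ⟨s * (x : Ω) * s⁻¹, hQT (hX x x.2)⟩ : T) : Ω) ∈
      (Q.subgroupOf T).map (T.subtype.comp α.toMonoidHom) := ⟨_, hX x x.2, rfl⟩
  have h1 := hχe ⟨_, hX x x.2⟩ (apply_mem he _) hmem
  rw [hee]
  refine (congrArg χ (Subtype.ext hx'.symm : (⟨(x : Ω), hle x.2⟩ :
    ↥((Q.subgroupOf T).map (T.subtype.comp α.toMonoidHom))) = ⟨_, hmem⟩)).trans (h1.trans ?_)
  exact hαe _

variable [Finite S] [hp : Fact p.Prime]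

theorem finR : Finite R := finite_sub h.hRS

theorem finT : Finite T := finite_sub h.hTS

theorem pR : IsPGroup p R := isPGroup_of_le h.hS h.hRS

theorem pT : IsPGroup p T := isPGroup_of_le h.hS h.hTS

/-- The image of `P ∩ T` under a map of `F` is the intersection of the image with `T`. -/
theorem restrict_inf {P P' : Subgroup Ω} {φ : P →* Ω} (hφ : φ ∈ F.Hom P) (hr : φ.range = P') :
    ∃ ψ ∈ F.Hom (P ⊓ T), ψ.range = P' ⊓ T ∧ ∀ x : ↥(P ⊓ T), ψ x = φ ⟨x, x.2.1⟩ := by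
  obtain ⟨ψ, hψ, he⟩ := exists_restrict hφ (inf_le_left : P ⊓ T ≤ P)
  refine ⟨ψ, hψ, le_antisymm ?_ ?_, he⟩
  · rintro _ ⟨x, rfl⟩
    exact ⟨hr ▸ ⟨_, (he x).symm⟩, stronglyClosed_apply_mem h.hsc hψ x.2.2⟩
  · rintro y ⟨hy, hyT⟩
    obtain ⟨x, rfl⟩ := hr.ge hy
    obtain ⟨η, hη, -, hl, -⟩ := exists_inv hφ rfl
    have hx := stronglyClosed_apply_mem h.hsc hη (x := ⟨φ x, x, rfl⟩) hyT
    replace hx : (x : Ω) ∈ T := (hl x ⟨x, rfl⟩).subst (motive := fun t => t ∈ T) hx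
    exact ⟨⟨x, x.2, hx⟩, he _⟩

/-! ### The class `InH` -/

theorem inH_mono {W W' : Subgroup Ω} (hW : InH F T R W) (hle : W ≤ W') (hW' : W' ≤ R) : InH F T R W' :=
  ⟨hW', hW.2.mono (inf_le_inf_right T hle) inf_le_right⟩

theorem centricT_map {W W' : Subgroup Ω} (hW : CentricT F T (W ⊓ T)) (hc : F.IsConj W W') :
    CentricT F T (W' ⊓ T) := by
  obtain ⟨φ, hφ, hr⟩ := hc
  obtain ⟨ψ, hψ, hψr, -⟩ := h.restrict_inf hφ hr
  exact Inter.centricT_congr h.hsc hW ⟨ψ, hψ, hψr⟩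

theorem inH_map {R' W W' : Subgroup Ω} (hW : InH F T R W) (hc : F.IsConj W W') (hW' : W' ≤ R') :
    InH F T R' W' :=
  ⟨hW', h.centricT_map hW.2 hc⟩

theorem inH_top : InH F T R R :=
  ⟨le_rfl, by rw [inf_eq_right.2 h.hTR]; exact Inter.centricT_self h.hsc⟩

/-! ### Generating automorphisms -/

theorem kgen_inv {W : Subgroup Ω} {a : MulAut W} (ha : IsKGen F E p W a) : IsKGen F E p W a⁻¹ := by
  obtain ⟨ha, hord, hmv, b, hb, hab⟩ := ha
  refine ⟨inv_mem ha, by rwa [orderOf_inv], fun x => ?_, b⁻¹, inv_mem hb, hab.inv⟩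
  have h1 := T.inv_mem (hmv (a⁻¹ x))
  rwa [MulAut.apply_inv_self, mul_inv_rev, inv_inv] at h1

theorem kgen_congr {W W' : Subgroup Ω} {φ : W →* Ω} (hφ : φ ∈ F.Hom W) (hr : φ.range = W') {a : MulAut W}
    (ha : IsKGen F E p W a) : IsKGen F E p W' (MulAut.congr (homEquiv hφ hr) a) := by
  obtain ⟨ha, hord, hmv, b, hb, hab⟩ := ha
  obtain ⟨ψ, hψ, hψr, hψe⟩ := h.restrict_inf hφ hr
  refine ⟨congr_mem_autGroup hφ hr ha, by rwa [MulEquiv.orderOf_eq], fun x => ?_,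
    MulAut.congr (homEquiv hψ hψr) b, autE_congr h.hE inf_le_right hψ hψr hb, fun x => ?_⟩
  · obtain ⟨w, rfl⟩ := (homEquiv hφ hr).surjective x
    have e : φ (w⁻¹ * a w) = (φ w)⁻¹ * φ (a w) := by rw [map_mul, map_inv]
    rw [congr_apply_map, homEquiv_coe, ← e]
    exact stronglyClosed_apply_mem h.hsc hφ (hmv w)
  · obtain ⟨w, rfl⟩ := (homEquiv hψ hψr).surjective x
    rw [congr_apply_map, hψe,
      show Subgroup.inclusion (inf_le_left : W' ⊓ T ≤ W') (homEquiv hψ hψr w) =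
        homEquiv hφ hr ⟨w, w.2.1⟩ from Subtype.ext (hψe w), congr_apply_map]
    exact congrArg φ (Subtype.ext (hab w))

/-- Restriction to a subgroup between `W ∩ T` and `W`. -/
theorem kgen_restrict {W W' : Subgroup Ω} (hW : W ≤ S) (hle : W' ≤ W) (hT : W ⊓ T ≤ W') {a : MulAut W}
    (ha : IsKGen F E p W a) : ∃ a', IsKGen F E p W' a' ∧ Restr hle a a' := by
  obtain ⟨ha, hord, hmv, b, hb, hab⟩ := ha
  have hst : ∀ x : W', ((a (Subgroup.inclusion hle x) : W) : Ω) ∈ W' := fun x => by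
    have h1 : (x : Ω)⁻¹ * ((a (Subgroup.inclusion hle x) : W) : Ω) ∈ W' :=
      hT ⟨W.mul_mem (W.inv_mem (hle x.2)) (SetLike.coe_mem _), hmv (Subgroup.inclusion hle x)⟩
    have := W'.mul_mem x.2 h1
    rwa [mul_inv_cancel_left] at this
  obtain ⟨a', ha', hr⟩ := exists_restr hle hW ha hst
  have heq : W' ⊓ T = W ⊓ T := le_antisymm (inf_le_inf_right T hle) (le_inf hT inf_le_right)
  refine ⟨a', ⟨ha', fun hd => hord (hd.trans (orderOf_dvd_of_pow_eq_one ?_)), fun x => ?_, ?_⟩, hr⟩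
  · exact Restr.unique (hr.pow _) (by rw [pow_orderOf_eq_one]; exact Restr.one)
  · rw [← hr x]; exact hmv (Subgroup.inclusion hle x)
  · have key : ∀ U : Subgroup Ω, U = W ⊓ T → ∀ hU : U ≤ W, ∃ b' ∈ E.autGroup U, Restr hU a b' := by
      rintro U rfl hU
      exact ⟨b, hb, hab⟩
    obtain ⟨b', hb', hr'⟩ := key _ heq (inf_le_left.trans hle)
    exact ⟨b', hb', fun x => (hr (Subgroup.inclusion inf_le_left x)).symm.trans (hr' x)⟩

/-- A generating automorphism moves elements within cosets of the hyperfocal subgroup of `E`. -/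
theorem kgen_hyp {W : Subgroup Ω} (hW : W ≤ S) {a : MulAut W} (ha : IsKGen F E p W a) (x : W) :
    (x : Ω)⁻¹ * ((a x : W) : Ω) ∈ E.hyperfocalSubgroup p := by
  obtain ⟨ha, hord, hmv, b, hb, hab⟩ := ha
  haveI := finite_sub hW
  haveI := FusionP3.GT.finite_mulAut ↥W
  set N : Subgroup W := T.subgroupOf W with hN
  have hz : ∀ c ∈ Subgroup.zpowers a, ∀ w : W, ((w : Ω)⁻¹ * ((c w : W) : Ω)) ∈ T := by
    intro c hc w
    obtain ⟨i, rfl⟩ := (Submonoid.mem_powers_iff _ _).1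
      (mem_powers_iff_mem_zpowers.2 hc)
    induction i generalizing w with
    | zero => simp
    | succ i ih =>
      have h1 := T.mul_mem (hmv w) (ih (a w) (Subgroup.pow_mem _ (Subgroup.mem_zpowers a) i))
      rwa [mul_assoc, mul_inv_cancel_left, ← MulAut.mul_apply, ← pow_succ] at h1
  obtain ⟨n, hn, hfix⟩ := Coprime.Action.exists_mul_fixed (A := Subgroup.zpowers a) (N := N) (g := x)
    (fun c w hw => by
      have h1 := T.mul_mem (Subgroup.mem_subgroupOf.1 hw) (hz c c.2 w)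
      rw [mul_inv_cancel_left] at h1
      exact Subgroup.mem_subgroupOf.2 h1)
    (by
      obtain ⟨k, hk⟩ := IsPGroup.iff_card.1 ((isPGroup_of_le h.hS hW).to_subgroup N)
      rw [Nat.card_zpowers, hk]
      exact Nat.Coprime.pow_right k ((hp.out.coprime_iff_not_dvd).2 hord).symm)
    (Or.inl (Coprime.isSolvable_zpowers a)) (fun c => Subgroup.mem_subgroupOf.2 (hz c c.2 x))
  have hf : a (x * n) = x * n := hfix ⟨a, Subgroup.mem_zpowers a⟩
  set f := x * n with hf'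
  have hx : x = f * n⁻¹ := by rw [hf', mul_inv_cancel_right]
  have hnT : ((n⁻¹ : W) : Ω) ∈ W ⊓ T := ⟨(n⁻¹ : W).2, T.inv_mem (Subgroup.mem_subgroupOf.1 hn)⟩
  have hu : ((a n⁻¹ : W) : Ω) = ((b ⟨_, hnT⟩ : ↥(W ⊓ T)) : Ω) := hab ⟨_, hnT⟩
  have hbord : (orderOf b).Coprime p := by
    refine (Nat.Coprime.coprime_dvd_left ?_ ((hp.out.coprime_iff_not_dvd).2 hord).symm)
    refine orderOf_dvd_of_pow_eq_one (Restr.unique (hab.pow _) ?_)
    rw [pow_orderOf_eq_one]; exact Restr.one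
  have hkey : ((n⁻¹ : W) : Ω)⁻¹ * ((b ⟨_, hnT⟩ : ↥(W ⊓ T)) : Ω) ∈ E.hyperfocalSubgroup p :=
    FusionP3.Tate.hyperfocal_gen_mem inf_le_right (α := ⟨b, hb⟩)
      (Transfer.PResidual.mem_pResidual (by rwa [Subgroup.orderOf_mk])) ⟨_, hnT⟩
  have e : a x = f * a n⁻¹ := (congrArg a hx).trans (by rw [map_mul, hf])
  have ex : (x : Ω) = (f : Ω) * ((n⁻¹ : W) : Ω) := congrArg Subtype.val hx
  rw [e, Subgroup.coe_mul, hu, ex, mul_inv_rev, mul_assoc, inv_mul_cancel_left]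
  exact hkey

end Setting

end Cfsg.Agent.Lib.FS.ES
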