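import Cfsg.Agent.Lib.FusionSystem.ES.Sys
import Cfsg.Agent.Lib.FusionP3.Criterion.Top

/-!
Every map of `F` is a map of a product system followed by a map defined on `T`.
-/

set_option autoImplicit false
set_option linter.style.haveILetI false
set_option linter.unusedSectionVars false

namespace Cfsg.Agent.Lib.FS.ES

open Cfsg Cfsg.FusionSystem Cfsg.Agent.Lib Cfsg.Agent.Lib.FS
open Cfsg.Agent.Lib.FS.NormalCentralizer (CentricT centricT_inf mapsTo_sup closure_prime_to_sup_sylow)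
open Cfsg.Agent.Lib.FS.CentralLift (Restr congr_apply_map)
open Cfsg.Agent.Lib.FS.Inter (exists_aut exists_restr autE_le_autF autE_normal)
open scoped Pointwise

variable {Ω : Type*} [Group Ω] {S T R : Subgroup Ω} {p : ℕ} {F : FusionSystem S} {E : FusionSystem T}

/-- `φ` is a map of the product system over `T ⊔ P` followed by a map of `F` defined on `T`. -/
def PsiAt (F : FusionSystem S) (E : FusionSystem T) (p : ℕ) (P : Subgroup Ω) (φ : P →* Ω) : Prop :=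
  ∃ δ : P →* Ω, PGen F E p (T ⊔ P) δ ∧ ∃ (Y : Subgroup Ω) (α : Y →* Ω), α ∈ F.Hom Y ∧ T ≤ Y ∧
    ∃ hm : ∀ x, δ x ∈ Y, ∀ x, φ x = α ⟨δ x, hm x⟩

variable [Finite S] [hp : Fact p.Prime]

namespace Setting

variable (h : Setting F E R p)
include h

/-- The generated system is carried along maps of `F`. -/
theorem pgen_transport {Y R₁ : Subgroup Ω} {α : Y →* Ω} (hα : α ∈ F.Hom Y) (hRY : R ≤ Y)
    (hmap : ∀ y : Y, (y : Ω) ∈ R → α y ∈ R₁) {P : Subgroup Ω} {φ : P →* Ω} (hg : PGen F E p R φ) :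
    ∃ φ' : ↥((P.subgroupOf Y).map α) →* Ω, PGen F E p R₁ φ' ∧
      ∀ (x : P) (hxY : (x : Ω) ∈ Y) (hφY : φ x ∈ Y), φ' ⟨α ⟨x, hxY⟩, ⟨x, hxY⟩, x.2, rfl⟩ = α ⟨φ x, hφY⟩ := by
  induction hg with
  | @conj P φ g hgR hP he =>
    refine ⟨conjHom _ (α ⟨g, hRY hgR⟩), PGen.conj _ _ (hmap _ hgR) ?_ fun _ => rfl, fun x hxY hφY => ?_⟩
    · rintro _ ⟨y, hy, rfl⟩
      exact hmap y (hP hy)
    · show α ⟨g, hRY hgR⟩ * α ⟨x, hxY⟩ * (α ⟨g, hRY hgR⟩)⁻¹ = _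
      rw [← map_inv, ← map_mul, ← map_mul]
      exact congrArg α (Subtype.ext (he x).symm)
  | @kgen P W φ a hW ha hle he =>
    have hWY : W ≤ Y := hW.1.trans hRY
    obtain ⟨θ, hθ, hθe⟩ := exists_restrict hα hWY
    have hWR₁ : θ.range ≤ R₁ := by rintro _ ⟨w, rfl⟩; rw [hθe]; exact hmap _ (hW.1 w.2)
    have hsub : (P.subgroupOf Y).map α ≤ θ.range := by
      rintro _ ⟨y, hy, rfl⟩
      exact ⟨⟨y, hle hy⟩, hθe _⟩
    refine ⟨θ.range.subtype.comp ((MulAut.congr (homEquiv hθ rfl) a).toMonoidHom.comp (Subgroup.inclusion hsub)),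
      PGen.kgen _ _ (h.inH_map hW ⟨θ, hθ, rfl⟩ hWR₁) (h.kgen_congr hθ rfl ha) hsub fun _ => rfl,
      fun x hxY hφY => ?_⟩
    show ((MulAut.congr (homEquiv hθ rfl) a ⟨α ⟨x, hxY⟩, _⟩ : θ.range) : Ω) = _
    rw [show (⟨α ⟨x, hxY⟩, hsub ⟨⟨x, hxY⟩, x.2, rfl⟩⟩ : θ.range) = homEquiv hθ rfl ⟨x, hle x.2⟩ from
      Subtype.ext (hθe ⟨x, hle x.2⟩).symm, congr_apply_map, hθe]
    exact congrArg α (Subtype.ext (he x).symm)
  | @comp P Q φ ψ χ hgφ hgψ hm he ihφ ihψ =>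
    obtain ⟨φ', hφ', hφe⟩ := ihφ
    obtain ⟨ψ', hψ', hψe⟩ := ihψ
    have hPY : P ≤ Y := (h.pgen_mem hgφ).2.1.trans hRY
    have hval : ∀ z, φ' z ∈ (Q.subgroupOf Y).map α := by
      rintro ⟨_, y, hy, rfl⟩
      have := hφe ⟨y, hy⟩ y.2 (hRY ((h.pgen_mem hgφ).2.2 _))
      rw [this]
      exact ⟨_, hm _, rfl⟩
    refine ⟨ψ'.comp (φ'.codRestrict _ hval), PGen.comp φ' ψ' _ hφ' hψ' hval fun _ => rfl, fun x hxY hχY => ?_⟩
    have hφY : φ x ∈ Y := hRY ((h.pgen_mem hgφ).2.2 x)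
    show ψ' ⟨φ' _, _⟩ = _
    rw [show (⟨φ' ⟨α ⟨x, hxY⟩, ⟨x, hxY⟩, x.2, rfl⟩, hval _⟩ : ↥((Q.subgroupOf Y).map α)) =
      ⟨α ⟨φ x, hφY⟩, ⟨φ x, hφY⟩, hm x, rfl⟩ from Subtype.ext (hφe x hxY hφY),
      hψe ⟨φ x, hm x⟩ hφY (hRY ((h.pgen_mem hgψ).2.2 _))]
    exact congrArg α (Subtype.ext (he x).symm)

/-- A map of the generated system is a conjugation after a map of the system over `T ⊔ A`. -/
theorem pgen_strip {P : Subgroup Ω} {φ : P →* Ω} (hg : PGen F E p R φ) :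
    ∀ {A : Subgroup Ω} (hA : A ≤ P), ∃ s ∈ R, ∃ δ : A →* Ω, PGen F E p (T ⊔ A) δ ∧
      ∀ x : A, φ ⟨x, hA x.2⟩ = s * δ x * s⁻¹ := by
  induction hg with
  | @conj P φ g hgR hP he =>
    exact fun {A} hA => ⟨g, hgR, A.subtype, PGen.conj _ 1 (Subgroup.one_mem _) le_sup_right (fun x => by simp),
      fun x => he ⟨x, hA x.2⟩⟩
  | @kgen P W φ a hW ha hle he =>
    intro A hA
    have hWT : W ⊓ T ≤ W ⊓ (T ⊔ A) := inf_le_inf_left W le_sup_left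
    obtain ⟨a', ha', hr⟩ := h.kgen_restrict (hW.1.trans h.hRS) (inf_le_left : W ⊓ (T ⊔ A) ≤ W) hWT ha
    have hAW : A ≤ W ⊓ (T ⊔ A) := le_inf (hA.trans hle) le_sup_right
    refine ⟨1, R.one_mem, (W ⊓ (T ⊔ A)).subtype.comp (a'.toMonoidHom.comp (Subgroup.inclusion hAW)),
      PGen.kgen _ a' ⟨inf_le_right, ?_⟩ ha' hAW fun _ => rfl, fun x => ?_⟩
    · rw [show W ⊓ (T ⊔ A) ⊓ T = W ⊓ T from le_antisymm (inf_le_inf_right T inf_le_left)
        (le_inf hWT inf_le_right)]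
      exact hW.2
    · rw [one_mul, inv_one, mul_one, he]
      exact hr ⟨x, hAW x.2⟩
  | @comp P Q φ ψ χ hgφ hgψ hm he ihφ ihψ =>
    intro A hA
    obtain ⟨s₁, hs₁, δ₁, hδ₁, he₁⟩ := ihφ hA
    set A₁ := (φ.comp (Subgroup.inclusion hA)).range with hA₁
    have hA₁Q : A₁ ≤ Q := by rintro _ ⟨x, rfl⟩; exact hm _
    obtain ⟨s₂, hs₂, δ₂, hδ₂, he₂⟩ := ihψ hA₁Q
    have hAR : A ≤ R := hA.trans (h.pgen_mem hgφ).2.1
    have hA' : Setting F E (T ⊔ A) p := h.of_le le_sup_left (sup_le h.hTS (hAR.trans h.hRS))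
    have hA₁S : A₁ ≤ S := by rintro _ ⟨x, rfl⟩; exact h.hRS ((h.pgen_mem hgφ).2.2 _)
    have hA₁' : Setting F E (T ⊔ A₁) p := h.of_le le_sup_left (sup_le h.hTS hA₁S)
    obtain ⟨δ₂', hδ₂', he₂'⟩ := hA₁'.pgen_transport (R₁ := T ⊔ A) (F.conj_mem (le_refl S) (S.inv_mem (h.hRS hs₁)))
      hA₁'.hRS (fun y hy => by
        show s₁⁻¹ * (y : Ω) * s₁⁻¹⁻¹ ∈ T ⊔ A
        rw [inv_inv]
        refine (sup_le (fun t ht => ?_) ?_ :
          T ⊔ A₁ ≤ (T ⊔ A).comap (MulAut.conj s₁⁻¹).toMonoidHom) hy |> fun h => by simpa using h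
        · simpa using (le_sup_left : T ≤ T ⊔ A) (h.conj_inv_mem_T (h.hRS hs₁) ht)
        · rintro _ ⟨x, rfl⟩
          have := (hA'.pgen_mem hδ₁).2.2 x
          simp only [MonoidHom.coe_comp, Function.comp_apply, Subgroup.mem_comap, MulEquiv.coe_toMonoidHom,
            MulAut.conj_apply, inv_inv]
          rw [show φ (Subgroup.inclusion hA x) = s₁ * δ₁ x * s₁⁻¹ from he₁ x]
          simpa [mul_assoc] using this) hδ₂
    have hφS : ∀ x : A, φ ⟨x, hA x.2⟩ ∈ S := fun x => h.hRS ((h.pgen_mem hgφ).2.2 _)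
    have hval : ∀ x : A, δ₁ x ∈ (A₁.subgroupOf S).map (conjHom S s₁⁻¹) := fun x =>
      ⟨⟨φ ⟨x, hA x.2⟩, hφS x⟩, ⟨x, rfl⟩, by
        show s₁⁻¹ * φ ⟨x, hA x.2⟩ * s₁⁻¹⁻¹ = _
        rw [he₁]; group⟩
    refine ⟨s₂ * s₁, R.mul_mem hs₂ hs₁, δ₂'.comp (δ₁.codRestrict _ hval),
      PGen.comp δ₁ δ₂' _ hδ₁ hδ₂' hval fun _ => rfl, fun x => ?_⟩
    have h1 := he₂ ⟨φ ⟨x, hA x.2⟩, x, rfl⟩
    have h2 := he₂' ⟨φ ⟨x, hA x.2⟩, x, rfl⟩ (hφS x) (hA₁'.hRS ((hA₁'.pgen_mem hδ₂).2.2 _))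
    rw [he]
    refine h1.trans ?_
    show _ = s₂ * s₁ * δ₂' ⟨δ₁ x, hval x⟩ * (s₂ * s₁)⁻¹
    rw [show (⟨δ₁ x, hval x⟩ : ↥((A₁.subgroupOf S).map (conjHom S s₁⁻¹))) =
      ⟨conjHom S s₁⁻¹ ⟨φ ⟨x, hA x.2⟩, hφS x⟩, _, ⟨x, rfl⟩, rfl⟩ from Subtype.ext (by
        show δ₁ x = s₁⁻¹ * φ ⟨x, hA x.2⟩ * s₁⁻¹⁻¹
        rw [he₁]; group), h2, conjHom_apply]
    group

theorem psi_restrict {P Q : Subgroup Ω} {ψ : Q →* Ω} (hQ : Q ≤ S) (hψ : PsiAt F E p Q ψ) (hle : P ≤ Q) :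
    PsiAt F E p P (ψ.comp (Subgroup.inclusion hle)) := by
  obtain ⟨δ, hδ, Y, α, hα, hTY, hm, he⟩ := hψ
  have hQ' : Setting F E (T ⊔ Q) p := h.of_le le_sup_left (sup_le h.hTS hQ)
  obtain ⟨s, hs, δ', hδ', he'⟩ := hQ'.pgen_strip hδ hle
  have hP' : Setting F E (T ⊔ P) p := h.of_le le_sup_left (sup_le h.hTS (hle.trans hQ))
  have hsS : s ∈ S := hQ'.hRS hs
  have hY'S : T ⊔ δ'.range ≤ S := sup_le h.hTS fun _ ⟨x, hx⟩ => hx ▸ hP'.hRS ((hP'.pgen_mem hδ').2.2 x)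
  have hmap : ∀ y ∈ T ⊔ δ'.range, s * y * s⁻¹ ∈ Y := fun y hy => by
    refine (sup_le (fun t ht => ?_) ?_ : T ⊔ δ'.range ≤ Y.comap (MulAut.conj s).toMonoidHom) hy
    · exact hTY (h.conj_mem_T hsS ht)
    · rintro _ ⟨x, rfl⟩
      show s * δ' x * s⁻¹ ∈ Y
      rw [← he']; exact hm _
  obtain ⟨α', hα', hαe⟩ := exists_comp (F.conj_mem hY'S hsS) hα fun y => hmap y y.2
  refine ⟨δ', hδ', _, α', hα', le_sup_left, fun x => Subgroup.mem_sup_right ⟨x, rfl⟩, fun x => ?_⟩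
  show ψ (Subgroup.inclusion hle x) = _
  rw [he, hαe]
  exact congrArg α (Subtype.ext (he' x))

theorem psi_comp {P Q : Subgroup Ω} {φ : P →* Ω} {ψ : Q →* Ω} {χ : P →* Ω} (hPS : P ≤ S) (hQ : Q ≤ S)
    (hm : ∀ x, φ x ∈ Q) (he : ∀ x, χ x = ψ ⟨φ x, hm x⟩) (hφ : PsiAt F E p P φ) (hψ : PsiAt F E p Q ψ) :
    PsiAt F E p P χ := by
  obtain ⟨δ₁, hδ₁, Y, α₁, hα₁, hTY, hm₁, he₁⟩ := hφ
  have hP' : Setting F E (T ⊔ P) p := h.of_le le_sup_left (sup_le h.hTS hPS)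
  have hφQ : φ.range ≤ Q := by rintro _ ⟨x, rfl⟩; exact hm x
  obtain ⟨δ₂, hδ₂, Y₂, α₂, hα₂, hTY₂, hm₂, he₂⟩ := h.psi_restrict hQ hψ hφQ
  have hY₁ : T ⊔ δ₁.range ≤ Y := sup_le hTY fun _ ⟨x, hx⟩ => hx ▸ hm₁ x
  obtain ⟨α, hα, hαe⟩ := exists_restrict hα₁ hY₁
  have hδm : ∀ x, δ₁ x ∈ T ⊔ δ₁.range := fun x => Subgroup.mem_sup_right ⟨x, rfl⟩
  have hαδ : ∀ x, α ⟨δ₁ x, hδm x⟩ = φ x := fun x => by rw [hαe, he₁]
  haveI := h.finT
  obtain ⟨αT, hαT, hαTe⟩ := exists_restrict hα (le_sup_left : T ≤ T ⊔ δ₁.range)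
  have hαTr : αT.range = T := range_eq_of_mem hαT (fun t => stronglyClosed_apply_mem h.hsc hαT t.2) le_rfl
  have hTα : T ≤ α.range := fun t ht => by
    obtain ⟨y, rfl⟩ := hαTr.ge ht
    exact ⟨_, (hαTe y).symm⟩
  obtain ⟨β, hβ, hβr, hβl, hβr'⟩ := exists_inv hα rfl
  have hle : T ⊔ φ.range ≤ α.range := sup_le hTα fun _ ⟨x, hx⟩ => hx ▸ ⟨_, hαδ x⟩
  have hφ' : Setting F E (T ⊔ φ.range) p := h.of_le le_sup_left (sup_le h.hTS (hφQ.trans hQ))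
  obtain ⟨δ₂', hδ₂', hδ₂e⟩ := hφ'.pgen_transport (R₁ := T ⊔ P) hβ hle (fun y hy => by
    refine mapsTo_sup (χ := β.comp (Subgroup.inclusion hle)) (R := T ⊔ P) (fun t => ?_) ?_ ⟨y, hy⟩
    · exact (le_sup_left : T ≤ T ⊔ P) (stronglyClosed_apply_mem h.hsc hβ t.2)
    · rintro ⟨_, x, rfl⟩
      refine (congrArg (· ∈ T ⊔ P) ?_).mpr ((hP'.pgen_mem hδ₁).2.2 x)
      show β _ = _
      refine (congrArg β (Subtype.ext ?_)).trans (hβl ⟨δ₁ x, hδm x⟩ ⟨_, rfl⟩)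
      exact (hαδ x).symm) hδ₂
  have hval : ∀ x, δ₁ x ∈ (φ.range.subgroupOf α.range).map β := fun x =>
    ⟨⟨φ x, hle (Subgroup.mem_sup_right ⟨x, rfl⟩)⟩, ⟨x, rfl⟩,
      (congrArg β (Subtype.ext (hαδ x).symm)).trans (hβl ⟨δ₁ x, hδm x⟩ ⟨_, rfl⟩)⟩
  set δ : P →* Ω := δ₂'.comp (δ₁.codRestrict _ hval) with hδ
  have hδ2R : ∀ x, δ₂ ⟨φ x, x, rfl⟩ ∈ α.range := fun x => hle ((hφ'.pgen_mem hδ₂).2.2 _)
  have hδe : ∀ x, δ x = β ⟨δ₂ ⟨φ x, x, rfl⟩, hδ2R x⟩ := fun x => by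
    refine (congrArg δ₂' (Subtype.ext ?_)).trans (hδ₂e ⟨φ x, x, rfl⟩ (hle (Subgroup.mem_sup_right ⟨x, rfl⟩)) _)
    exact ((congrArg β (Subtype.ext (hαδ x).symm)).trans (hβl ⟨δ₁ x, hδm x⟩ ⟨_, rfl⟩)).symm
  have hδY : T ⊔ δ.range ≤ T ⊔ δ₁.range := sup_le le_sup_left fun _ ⟨x, hx⟩ => hx ▸ (by
    rw [hδe]; exact hβr.le ⟨_, rfl⟩)
  obtain ⟨α', hα', hα'e⟩ := exists_restrict hα hδY
  have hαval : ∀ x (hy : δ x ∈ T ⊔ δ₁.range), α ⟨δ x, hy⟩ = δ₂ ⟨φ x, x, rfl⟩ := fun x hy => by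
    refine Eq.trans (congrArg α (Subtype.ext (hδe x))) (hβr' ⟨_, hδ2R x⟩ (hβr.le ⟨_, rfl⟩))
  obtain ⟨α'', hα'', hα''e⟩ := exists_comp hα' hα₂ (mapsTo_sup
    (fun t => hTY₂ (stronglyClosed_apply_mem h.hsc hα' t.2))
    (by
      rintro ⟨_, x, rfl⟩
      rw [hα'e]
      exact (congrArg (· ∈ Y₂) (hαval x _)).mpr (hm₂ _)))
  refine ⟨δ, PGen.comp δ₁ δ₂' _ hδ₁ hδ₂' hval fun _ => rfl, _, α'', hα'', le_sup_left,
    fun x => Subgroup.mem_sup_right ⟨x, rfl⟩, fun x => ?_⟩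
  rw [he, hα''e]
  refine (he₂ ⟨φ x, x, rfl⟩).trans (congrArg α₂ (Subtype.ext ?_))
  exact ((hα'e _).trans (hαval x _)).symm

omit h in
/-- The automorphisms moving within cosets of `T` and inducing a member of `Aut_E(W ∩ T)`. -/
theorem psi_conj {W : Subgroup Ω} (hWS : W ≤ S) (hTS : T ≤ S) {s : Ω} (hs : s ∈ S) {φ : W →* Ω}
    (he : ∀ x : W, φ x = s * x * s⁻¹) : PsiAt F E p W φ :=
  ⟨W.subtype, PGen.conj _ 1 (Subgroup.one_mem _) le_sup_right (fun x => by simp), _, conjHom (T ⊔ W) s,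
    F.conj_mem (sup_le hTS hWS) hs, le_sup_left, fun x => Subgroup.mem_sup_right x.2, fun x => he x⟩

theorem psi_aut {W : Subgroup Ω} (hWn : F.IsFullyNormalized W) (hWc : F.IsCentric W) (hWr : F.IsRadical p W)
    (hbig : ∀ Q : Subgroup Ω, Nat.card W < Nat.card Q → ∀ χ ∈ F.Hom Q, PsiAt F E p Q χ) :
    ∀ a ∈ F.autGroup W, PsiAt F E p W (W.subtype.comp a.toMonoidHom) := by
  have hWS := hWn.1
  haveI := finite_sub hWS
  haveI := FusionP3.GT.finite_mulAut ↥W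
  haveI := h.finT
  intro a ha
  by_cases hTW : T ≤ W
  · obtain ⟨φ, hφ, -, he⟩ := exists_hom_of_aut hWS ha
    exact ⟨W.subtype, PGen.conj _ 1 (Subgroup.one_mem _) le_sup_right (fun x => by simp), W, φ, hφ, hTW,
      fun x => x.2, fun x => (he x).symm⟩
  have hU : CentricT F T (W ⊓ T) := centricT_inf h.hS h.hF h.hsc hWc hWr
  have hUW : W ⊓ T ≤ W := inf_le_left
  -- the subgroup of moving automorphisms inducing maps of `E`
  let M₀ : Subgroup (MulAut W) :=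
    { carrier := {g | g ∈ F.autGroup W ∧ (∀ x : W, (x : Ω)⁻¹ * ((g x : W) : Ω) ∈ T) ∧
        ∃ b ∈ E.autGroup (W ⊓ T), Restr hUW g b}
      one_mem' := ⟨one_mem _, fun x => by simp, 1, one_mem _, Restr.one⟩
      mul_mem' := by
        rintro g k ⟨hg, hgm, b, hb, hgb⟩ ⟨hk, hkm, c, hc, hkc⟩
        refine ⟨mul_mem hg hk, fun x => ?_, b * c, mul_mem hb hc, hgb.mul hkc⟩
        have h1 := T.mul_mem (hkm x) (hgm (k x))
        rwa [mul_assoc, mul_inv_cancel_left] at h1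
      inv_mem' := by
        rintro g ⟨hg, hgm, b, hb, hgb⟩
        refine ⟨inv_mem hg, fun x => ?_, b⁻¹, inv_mem hb, hgb.inv⟩
        have h1 := T.inv_mem (hgm (g⁻¹ x))
        rwa [MulAut.apply_inv_self, mul_inv_rev, inv_inv] at h1 }
  have hM₀F : M₀ ≤ F.autGroup W := fun g hg => hg.1
  have hnorm : ∀ g ∈ F.autGroup W, ∀ m ∈ M₀, g * m * g⁻¹ ∈ M₀ := by
    rintro g hg m ⟨hm, hmm, b, hb, hmb⟩
    obtain ⟨gU, hgU, hgr⟩ := exists_restr hUW hWS hg fun x =>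
      ⟨(g _).2, (autGroup_mem_iff_of_stronglyClosed h.hsc hWS hg _).1 x.2.2⟩
    refine ⟨mul_mem (mul_mem hg hm) (inv_mem hg), fun x => ?_, gU * b * gU⁻¹, autE_normal h.hE inf_le_right hb hgU,
      (hgr.mul hmb).mul hgr.inv⟩
    obtain ⟨y, rfl⟩ := g.surjective x
    rw [MulAut.mul_apply, MulAut.mul_apply, MulAut.inv_apply_self, ← Subgroup.coe_inv, ← Subgroup.coe_mul,
      ← map_inv, ← map_mul]
    exact (autGroup_mem_iff_of_stronglyClosed h.hsc hWS hg (y⁻¹ * m y)).1 (hmm y)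
  -- those maps which decompose form a subgroup
  have hmul : ∀ g k : MulAut W, PsiAt F E p W (W.subtype.comp g.toMonoidHom) →
      PsiAt F E p W (W.subtype.comp k.toMonoidHom) → PsiAt F E p W (W.subtype.comp (g * k).toMonoidHom) :=
    fun g k hg hk => h.psi_comp hWS hWS (fun x => (k x).2) (fun _ => rfl) hk hg
  let K : Subgroup (MulAut W) :=
    { carrier := {g | PsiAt F E p W (W.subtype.comp g.toMonoidHom)}
      one_mem' := psi_conj hWS h.hTS S.one_mem fun x => by simp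
      mul_mem' := fun {g k} hg hk => hmul g k hg hk
      inv_mem' := fun {g} hg => by
        have hpow : ∀ i : ℕ, PsiAt F E p W (W.subtype.comp (g ^ i).toMonoidHom) := by
          intro i
          induction i with
          | zero => exact psi_conj hWS h.hTS S.one_mem fun x => by simp
          | succ i ih => rw [pow_succ]; exact hmul _ _ ih hg
        show PsiAt F E p W _
        rw [show g⁻¹ = g ^ (orderOf g - 1) by
          rw [inv_eq_iff_mul_eq_one, ← pow_succ', Nat.sub_add_cancel (orderOf_pos g), pow_orderOf_eq_one]]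
        exact hpow _ }
  have hSK : autInducedBy S W ≤ K := fun g hg => by
    obtain ⟨s, hs, he⟩ := mem_autInducedBy.1 hg
    exact psi_conj hWS h.hTS hs fun x => he x
  have hT' : Setting F E (T ⊔ W) p := h.of_le le_sup_left (sup_le h.hTS hWS)
  have hcop : ∀ m ∈ M₀, ¬ p ∣ orderOf m → m ∈ K := fun m hm hord =>
    ⟨W.subtype.comp m.toMonoidHom,
      PGen.kgen _ m ⟨le_sup_right, hU⟩ ⟨hm.1, hord, hm.2.1, hm.2.2⟩ le_rfl (fun _ => rfl), W ⊔ T,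
      (W ⊔ T).subtype, subtype_mem F (sup_le hWS h.hTS), le_sup_right,
      fun x => Subgroup.mem_sup_left (m x).2, fun _ => rfl⟩
  -- a Sylow subgroup of `M₀`
  obtain ⟨Sy, hSy⟩ := (fullyAutomized_of_fullyNormalized h.hS h.hF hWn).2
  set U₀ := M₀ ⊓ autInducedBy S W with hU₀
  have hU₀p : IsPGroup p U₀ := (isPGroup_autInducedBy h.hS W).to_le inf_le_right
  obtain ⟨Sy₀, hSy₀⟩ := FusionP3.Criterion.exists_sylow_of_catches (p := p) (inf_le_left : U₀ ≤ M₀) hU₀p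
    fun Z hZ hZp => by
      obtain ⟨g, hg, hgZ⟩ := exists_conj_le_sylow Sy hSy (hZ.trans hM₀F) hZp
      exact ⟨g, fun z hz => ⟨hnorm g hg z (hZ hz), hgZ z hz⟩⟩
  have hMK : M₀ ≤ K := fun m hm => by
    have hgen := (closure_prime_to_sup_sylow Sy₀).ge (Subgroup.mem_top (⟨m, hm⟩ : M₀))
    refine ((?_ : _ ⊔ _ ≤ K.subgroupOf M₀) hgen :)
    refine sup_le ((Subgroup.closure_le _).2 fun x hx => hcop x x.2 (by rwa [Subgroup.orderOf_coe])) fun x hx => ?_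
    rw [hSy₀, Subgroup.mem_subgroupOf] at hx
    exact hSK hx.2
  obtain ⟨m, hm, hmU⟩ := exists_conj_le_sylow Sy₀ hSy₀ (T := U₀.map (MulAut.conj a).toMonoidHom)
    (by rintro _ ⟨u, hu, rfl⟩; exact hnorm a ha u hu.1) (hU₀p.map _)
  suffices hn : m * a ∈ K by
    have := K.mul_mem (K.inv_mem (hMK hm)) hn
    rwa [inv_mul_cancel_left] at this
  set n := m * a with hn
  have hnF : n ∈ F.autGroup W := mul_mem (hM₀F hm) ha
  -- `n` extends to a larger subgroup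
  set V := U₀ ⊔ Inn W with hV
  have hVS : V ≤ autInducedBy S W := sup_le inf_le_right (inn_le_autInducedBy hWS)
  set D := FusionP3.Induction.preimageAut S W V with hD
  have hWD : W ≤ D := FusionP3.Induction.le_preimageAut hWS le_sup_right
  have hlt : W < D := by
    refine lt_of_le_of_ne hWD fun heq => hTW ?_
    by_contra hTW'
    have hWT : W ⊔ T ≤ S := sup_le hWS h.hTS
    haveI := finite_sub hWT
    have hlt' : W < W ⊔ T := lt_of_le_of_ne le_sup_left fun e => hTW' (le_sup_right.trans e.ge)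
    obtain ⟨x, ⟨hx, hxn⟩, hxW⟩ := SetLike.exists_of_lt
      (FusionP3.Induction.lt_normalizerIn (isPGroup_of_le h.hS hWT) hlt')
    obtain ⟨w, hw, t, ht, rfl⟩ := (Subgroup.coe_mul_of_left_le_normalizer_right W T
      (hWS.trans (stronglyClosed_le_normalizer h.hsc))).le hx
    have htn : t ∈ Subgroup.normalizer (W : Set Ω) := by
      simpa using mul_mem (inv_mem (Subgroup.le_normalizer hw)) hxn
    refine hxW (W.mul_mem hw (heq.ge ⟨⟨h.hTS ht, htn⟩, W.normalizerMonoidHom ⟨t, htn⟩, ?_, fun _ => rfl⟩))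
    have htU : t ∈ Subgroup.normalizer ((W ⊓ T : Subgroup Ω) : Set Ω) := by
      haveI := finite_sub (hUW.trans hWS)
      exact mem_normalizer_of_conj_mem fun y hy => ⟨conj_mem_of_normalizer htn hy.1,
        T.mul_mem (T.mul_mem ht hy.2) (T.inv_mem ht)⟩
    refine Subgroup.mem_sup_left ⟨⟨autInducedBy_le_autGroup F hWS
      (mem_autInducedBy.2 ⟨t, h.hTS ht, fun _ => rfl⟩), fun x => ?_,
      (W ⊓ T).normalizerMonoidHom ⟨t, htU⟩, autInducedBy_le_autGroup E inf_le_right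
        (mem_autInducedBy.2 ⟨t, ht, fun _ => rfl⟩), fun _ => rfl⟩,
      mem_autInducedBy.2 ⟨t, h.hTS ht, fun _ => rfl⟩⟩
    rw [normalizerMonoidHom_coe, ← mul_assoc, ← mul_assoc]
    exact T.mul_mem (h.conj_inv_mem_T (hWS x.2) ht) (T.inv_mem ht)
  obtain ⟨ψ, hψ, hψe⟩ := FusionP3.Induction.exists_extend_preimage
    (receptive_of_fullyNormalized h.hS h.hF hWn) hVS hnF fun v hv => by
      have hle : V.map (MulAut.conj n).toMonoidHom ≤ V := by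
        rw [hV, Subgroup.map_sup]
        refine sup_le_sup ?_ ?_
        · rintro _ ⟨u, hu, rfl⟩
          have h1 := hmU _ ⟨u, hu, rfl⟩
          simp only [MulEquiv.coe_toMonoidHom, MulAut.conj_apply] at h1 ⊢
          rwa [hn, show m * a * u * (m * a)⁻¹ = m * (a * u * a⁻¹) * m⁻¹ by group]
        · rintro _ ⟨_, ⟨q, rfl⟩, rfl⟩
          exact ⟨n q, MulEquiv.ext fun x => by simp [MulAut.mul_apply, MulAut.conj_apply]⟩
      exact hle ⟨v, hv, rfl⟩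
  haveI := finite_sub (src_le hψ)
  have hcard : Nat.card W < Nat.card D :=
    lt_of_not_ge fun hge => hlt.ne (Subgroup.eq_of_le_of_card_ge hWD hge)
  show PsiAt F E p W (W.subtype.comp n.toMonoidHom)
  rw [show W.subtype.comp n.toMonoidHom = ψ.comp (Subgroup.inclusion hWD) from
    MonoidHom.ext fun x => (hψe x x.2 (hWD x.2)).symm]
  exact h.psi_restrict (src_le hψ) (hbig _ hcard ψ hψ) hWD

/-- Every map of `F` decomposes. -/
theorem psi {P : Subgroup Ω} {φ : P →* Ω} (hφ : φ ∈ F.Hom P) : PsiAt F E p P φ := by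
  refine FusionP3.Induction.hom_induction h.hS h.hF (M := fun P φ => PsiAt F E p P φ) ?_ ?_ ?_ P φ hφ
  · exact fun P Q φ ψ χ hφ' hψ' hm he h1 h2 => h.psi_comp (src_le hφ') (src_le hψ') hm he h1 h2
  · intro P Q φ ψ hle hψ' he h2
    rw [show φ = ψ.comp (Subgroup.inclusion hle) from MonoidHom.ext fun x => he x]
    exact h.psi_restrict (src_le hψ') h2 hle
  · exact fun W hn hc hr a ha hbig => h.psi_aut hn hc hr hbig a ha

end Setting

end Cfsg.Agent.Lib.FS.ES
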