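import Cfsg.Agent.Lib.FusionSystem.ES.FrameKGen
import Cfsg.Agent.Lib.FusionSystem.ES.Psi
import Cfsg.Agent.Lib.MetacyclicChains.Pullback
import Cfsg.Agent.Lib.FusionSystem.Realized

/-!
Above a base `U ≤ T` with largest `N_T(U)` a saturated system inside the product containing the generating
automorphisms; every member of the class has a conjugate with such a base.
-/

set_option autoImplicit false
set_option linter.style.haveILetI false
set_option linter.unusedSectionVars false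

namespace Cfsg.Agent.Lib.FS.ES

open Cfsg Cfsg.FusionSystem Cfsg.Agent.Lib Cfsg.Agent.Lib.FS
open Cfsg.Agent.Lib.FS.NormalCentralizer (CentricT exists_pow_prime_to)
open Cfsg.Agent.Lib.FS.CentralLift (Restr congr_apply_map)
open Cfsg.Agent.Lib.FS.Inter (exists_aut exists_restr)

universe u

variable {Ω : Type u} [Group Ω] {S T R : Subgroup Ω} [Finite S] {p : ℕ} [hp : Fact p.Prime]
  {F : FusionSystem S} {E : FusionSystem T}

/-- `N_T(U)` is as large as possible in the class of `U`. -/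
def TMax (F : FusionSystem S) (T U : Subgroup Ω) : Prop :=
  U ≤ T ∧ ∀ U₁ : Subgroup Ω, F.IsConj U U₁ → Nat.card (normalizerIn T U₁) ≤ Nat.card (normalizerIn T U)

theorem card_le_of_quotient {G : Type*} [Group G] [Finite G] {H A K : Subgroup G} [H.Normal] (hA : A ≤ H ⊔ K)
    (hcard : Nat.card ↥(A ⊓ H) ≤ Nat.card ↥(K ⊓ H)) : Nat.card A ≤ Nat.card K := by
  set q := QuotientGroup.mk' H
  have key : ∀ B : Subgroup G, Nat.card B = Nat.card ↥(B ⊓ H) * Nat.card (B.map q) := fun B => by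
    set r := q.comp B.subtype
    have h1 : r.ker = H.subgroupOf B := by
      ext b
      rw [MonoidHom.mem_ker, Subgroup.mem_subgroupOf]
      exact QuotientGroup.eq_one_iff _
    rw [← Subgroup.card_mul_index r.ker, Subgroup.index_ker, h1, MonoidHom.range_comp, Subgroup.range_subtype]
    congr 1
    rw [← Subgroup.inf_subgroupOf_left]
    exact Nat.card_congr (Subgroup.subgroupOfEquivOfLe inf_le_left).toEquiv
  rw [key A, key K]
  refine Nat.mul_le_mul hcard (Subgroup.card_le_of_le ((Subgroup.map_mono hA).trans ?_))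
  rw [Subgroup.map_sup, QuotientGroup.map_mk'_self, bot_sup_eq]

namespace Setting

variable (h : Setting F E R p)
include h

theorem exists_local {U₀ : Subgroup Ω} (hUc : CentricT F T U₀) (hmax : TMax F T U₀) :
    ∃ D₁ : FusionSystem (normalizerIn R U₀), D₁.IsSaturated p ∧ D₁.IsSubsystemOf h.dSys ∧
      ∀ P : Subgroup Ω, P ≤ normalizerIn R U₀ → P ⊓ T = U₀ → ∀ a : MulAut P, IsKGen F E p P a →
        a ∈ D₁.autGroup P := by
  have hU₀T := hUc.1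
  have hU₀S : U₀ ≤ S := hU₀T.trans h.hTS
  obtain ⟨U, hU₀U, hUn⟩ := exists_isFullyNormalized F hU₀S
  obtain ⟨η₀, hη₀, hη₀m, hη₀U⟩ := exists_normalizer_map h.hS h.hF hUn hU₀U
  have hNN : normalizerIn R U₀ ≤ normalizerIn S U₀ := fun g hg => ⟨h.hRS hg.1, hg.2⟩
  obtain ⟨η, hη, hηe⟩ := exists_restrict hη₀ hNN
  have hU₀N : U₀ ≤ normalizerIn R U₀ := le_normalizerIn (hU₀T.trans h.hTR)
  have hUR : ∀ u ∈ U, ∃ x : normalizerIn R U₀, (x : Ω) ∈ U₀ ∧ η x = u := fun u hu => by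
    obtain ⟨x, hx, rfl⟩ := hη₀U.ge hu
    exact ⟨⟨x, hU₀N hx⟩, hx, hηe _⟩
  have hUT : U ≤ T := fun u hu => by
    obtain ⟨x, hx, rfl⟩ := hUR u hu
    exact stronglyClosed_apply_mem h.hsc hη (hU₀T hx)
  have hUc' : CentricT F T U := Inter.centricT_congr h.hsc hUc hU₀U
  -- `η` maps `N_T(U₀)` onto `N_T(U)`
  have hNT : ∀ w ∈ normalizerIn T U, ∃ x : normalizerIn R U₀, η x = w := by
    have hle : normalizerIn T U₀ ≤ normalizerIn R U₀ := fun g hg => ⟨h.hTR hg.1, hg.2⟩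
    obtain ⟨ηT, hηT, hηTe⟩ := exists_restrict hη hle
    haveI := finite_sub ((normalizerIn_le (S := T) U).trans h.hTS)
    have hr : ηT.range = normalizerIn T U := range_eq_of_mem hηT
      (fun x => ⟨stronglyClosed_apply_mem h.hsc hηT x.2.1, by rw [hηTe, hηe]; exact (hη₀m _).2⟩)
      (hmax.2 U hU₀U)
    intro w hw
    obtain ⟨x, rfl⟩ := hr.ge hw
    exact ⟨_, (hηTe x).symm⟩
  obtain ⟨G, _, ι, f⟩ := exists_frame h hUc' hUn
  haveI := f.loc.finite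
  haveI := f.hSub_normal h
  have hηN : ∀ x : normalizerIn R U₀, η x ∈ normalizerIn S (U ⊔ centralizerIn S U) := fun x =>
    f.normalizer_le h (by rw [hηe]; exact hη₀m _)
  set κ : normalizerIn R U₀ →* G := ι.comp (η.codRestrict _ hηN) with hκ
  have hκinj : Function.Injective κ := fun x y e =>
    F.injective_of_mem hη (congrArg Subtype.val (f.inj e))
  set H := f.hSub E with hH
  set Γ := H ⊔ κ.range with hΓ
  set κ' : normalizerIn R U₀ →* Γ := κ.codRestrict Γ fun x => Subgroup.mem_sup_right ⟨x, rfl⟩ with hκ'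
  have hκ'inj : Function.Injective κ' := fun x y e => hκinj (congrArg Subtype.val e)
  have hNp : IsPGroup p (normalizerIn R U₀) := isPGroup_of_le h.hS ((normalizerIn_le U₀).trans h.hRS)
  have hκp : IsPGroup p κ.range := hNp.of_surjective κ.rangeRestrict κ.rangeRestrict_surjective
  -- the Sylow subgroup
  obtain ⟨Sy, hSy⟩ := f.loc.sylow
  have hcatch : ∀ Z : Subgroup G, Z ≤ Γ → IsPGroup p Z → Nat.card Z ≤ Nat.card κ.range := by
    intro Z hZ hZp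
    refine card_le_of_quotient (H := H) hZ ?_
    obtain ⟨Q, hQ⟩ := (hZp.to_le (inf_le_left : Z ⊓ H ≤ Z)).exists_le_sylow
    obtain ⟨g, hg⟩ := MulAction.exists_smul_eq G Q Sy
    refine Nat.card_le_card_of_injective (fun z : ↥(Z ⊓ H) => (⟨g * z * g⁻¹, ?_,
      Subgroup.Normal.conj_mem inferInstance _ z.2.2 g⟩ : ↥(κ.range ⊓ H))) fun a b e => Subtype.ext
        (mul_left_cancel (mul_right_cancel (congrArg Subtype.val e : g * (a : G) * g⁻¹ = g * (b : G) * g⁻¹)))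
    have h1 : g * (z : G) * g⁻¹ ∈ ι.range := by
      rw [← hSy, ← hg, Sylow.coe_subgroup_smul]
      exact Subgroup.smul_mem_pointwise_smul _ (MulAut.conj g) _ (hQ z.2)
    obtain ⟨w, hw⟩ := h1
    obtain ⟨x, hx⟩ := hNT w (f.hSub_inf h (w := w) (hw ▸ Subgroup.Normal.conj_mem inferInstance _ z.2.2 g))
    exact ⟨x, hw ▸ congrArg ι (Subtype.ext hx : (⟨η x, hηN x⟩ : normalizerIn S (U ⊔ centralizerIn S U)) = w)⟩
  obtain ⟨Sy₁, hSy₁⟩ := exists_sylow_of_card_ge (A := Γ) (R₀ := κ.range) le_sup_right hκp default (by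
    rw [Nat.card_congr ((default : Sylow p Γ).1.equivMapOfInjective Γ.subtype Γ.subtype_injective).toEquiv]
    exact hcatch _ (Subgroup.map_subtype_le _) ((default : Sylow p Γ).2.map _))
  have hSy₁' : (Sy₁ : Subgroup Γ) = κ'.range := by
    rw [hSy₁]
    ext y
    rw [Subgroup.mem_subgroupOf]
    exact ⟨fun ⟨x, hx⟩ => ⟨x, Subtype.ext hx⟩, fun ⟨x, hx⟩ => ⟨x, congrArg Subtype.val hx⟩⟩
  set D₁ := MetacyclicChains.pullback κ' hκ'inj with hD₁
  have hreal := MetacyclicChains.realized κ' hκ'inj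
  -- elements of order prime to `p` lie in `H`
  have hcopH : ∀ γ : G, γ ∈ Γ → (orderOf γ).Coprime p → γ ∈ H := by
    intro γ hγ hco
    have hγ' : γ ∈ ((H ⊔ κ.range : Subgroup G) : Set G) := hγ
    rw [Subgroup.normal_mul] at hγ'
    obtain ⟨m, hm, x, ⟨y, rfl⟩, rfl⟩ := hγ'
    have hq : (QuotientGroup.mk' H) (m * κ y) = (QuotientGroup.mk' H) (κ y) := by
      rw [map_mul, show QuotientGroup.mk' H m = 1 from (QuotientGroup.eq_one_iff m).2 hm, one_mul]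
    obtain ⟨k, hk⟩ := hNp y
    have h1 : QuotientGroup.mk' H (m * κ y) = 1 := orderOf_eq_one_iff.1 (Nat.eq_one_of_dvd_coprimes
      (Nat.Coprime.pow_right k hco) (orderOf_map_dvd _ _)
      (orderOf_dvd_of_pow_eq_one (by rw [hq, ← map_pow, ← map_pow, hk, map_one, map_one])))
    exact (QuotientGroup.eq_one_iff _).1 h1
  haveI := finite_sub ((normalizerIn_le U₀).trans h.hRS)
  refine ⟨D₁, isSaturated_of_realized hreal Sy₁ hSy₁', ?_, ?_⟩
  · intro P φ hφ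
    have hNR : normalizerIn R U₀ ≤ R := normalizerIn_le U₀
    refine FusionP3.Induction.hom_induction hNp (isSaturated_of_realized hreal Sy₁ hSy₁')
      (M := fun P φ => φ ∈ h.dSys.Hom P) ?_ ?_ ?_ P φ hφ
    · exact fun P Q φ ψ χ _ _ hm he h1 h2 => mem_comp h1 h2 hm he
    · exact fun P Q φ ψ hle _ he h2 => mem_of_restrict h2 hle he
    intro W hWn _ _ a ha _
    have hWN := hWn.1
    have hWR : W ≤ R := hWN.trans hNR
    refine (mem_autGroup hWR).1 (FusionP3.Prime.PPower.autGroup_le_sup' D₁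
      (fullyAutomized_of_fullyNormalized hNp (isSaturated_of_realized hreal Sy₁ hSy₁') hWn) (fun b hb hc => ?_)
      ((Inter.autInducedBy_mono hNR).trans (autInducedBy_le_autGroup _ hWR)) ha)
    haveI := finite_sub (hWN.trans (hNR.trans h.hRS))
    obtain ⟨hW', hb', γ, hγ⟩ := (mem_autGroup hWN).1 hb
    have hγb : Ind κ' hWN γ b := fun x => hγ x
    obtain ⟨n, hn, hnord⟩ := exists_pow_prime_to (x := γ) ((hp.out.coprime_iff_not_dvd).1 hc.symm)
    have hγn : Ind κ' hWN (γ ^ n) b := hn ▸ hγb.pow n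
    set g : G := ((γ ^ n : Γ) : G) with hg
    have hco : (orderOf g).Coprime p := by
      rw [hg, Subgroup.orderOf_coe]; exact ((hp.out.coprime_iff_not_dvd).2 hnord).symm
    have hgH : g ∈ H := hcopH g (γ ^ n).2 hco
    -- the larger subgroup containing the base
    set X := W ⊔ U₀ with hX
    have hXN : X ≤ normalizerIn R U₀ := sup_le hWN hU₀N
    obtain ⟨θ, hθ, hθe⟩ := exists_restrict hη hXN
    set X' := θ.range with hX'
    have hX'N : X' ≤ normalizerIn S (U ⊔ centralizerIn S U) := by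
      rintro _ ⟨x, rfl⟩; rw [hθe]; exact hηN _
    have hgX : ∀ x : X', ∃ y : X', ι (Subgroup.inclusion hX'N y) = g * ι (Subgroup.inclusion hX'N x) * g⁻¹ := by
      have hset : X ≤ (((((θ.range.subgroupOf _).map ι).comap (MulAut.conj g).toMonoidHom).comap κ).map
          (normalizerIn R U₀).subtype) := by
        refine sup_le (fun w hw => ⟨⟨w, hWN hw⟩, ?_, rfl⟩) fun u hu => ⟨⟨u, hU₀N hu⟩, ?_, rfl⟩
        · show g * κ ⟨w, hWN hw⟩ * g⁻¹ ∈ (θ.range.subgroupOf _).map ι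
          have h1 := congrArg Subtype.val (hγn ⟨w, hw⟩)
          rw [show g * κ ⟨w, hWN hw⟩ * g⁻¹ = κ (Subgroup.inclusion hWN (b ⟨w, hw⟩)) from h1.symm]
          exact ⟨⟨_, hηN _⟩, Subgroup.mem_subgroupOf.2
            ⟨⟨(b ⟨w, hw⟩ : W), Subgroup.mem_sup_left (b ⟨w, hw⟩).2⟩, hθe _⟩, rfl⟩
        · show g * κ ⟨u, hU₀N hu⟩ * g⁻¹ ∈ (θ.range.subgroupOf _).map ι
          obtain ⟨c, -, hgc⟩ := f.exists_indU h g
          have huU : η ⟨u, hU₀N hu⟩ ∈ U := by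
            rw [hηe]; exact hη₀U.le ⟨⟨u, hNN (hU₀N hu)⟩, hu, rfl⟩
          rw [show g * κ ⟨u, hU₀N hu⟩ * g⁻¹ = ι (Subgroup.inclusion f.UN (c ⟨_, huU⟩)) from (hgc ⟨_, huU⟩).symm]
          obtain ⟨x, hx, hxe⟩ := hUR _ (c ⟨_, huU⟩).2
          exact ⟨_, Subgroup.mem_subgroupOf.2 ⟨⟨x, Subgroup.mem_sup_right hx⟩, (hθe _).trans hxe⟩, rfl⟩
      rintro ⟨_, x, rfl⟩
      obtain ⟨z, hz, hzx⟩ := hset x.2
      have hzk : g * κ z * g⁻¹ ∈ (θ.range.subgroupOf _).map ι := hz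
      obtain ⟨y, hy, hye⟩ := hzk
      refine ⟨⟨y, hy⟩, hye.trans ?_⟩
      congr 2
      exact congrArg ι (Subtype.ext ((congrArg η (Subtype.ext hzx : z = ⟨x, hXN x.2⟩)).trans (hθe x).symm))
    obtain ⟨a', ha', hga'⟩ := f.exists_ind hX'N hgX
    have hX'S : X' ≤ S := range_le_base hθ
    haveI := finite_sub hX'S
    obtain ⟨b', hb'F, hab'⟩ := exists_restr (inf_le_left : X' ⊓ T ≤ X') hX'S ha' fun x =>
      ⟨(a' _).2, (autGroup_mem_iff_of_stronglyClosed h.hsc hX'S ha' _).1 x.2.2⟩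
    have hUX' : U ≤ X' := fun u hu => by
      obtain ⟨x, hx, rfl⟩ := hUR u hu
      exact ⟨⟨x, Subgroup.mem_sup_right hx⟩, hθe _⟩
    have hX₀ : X' ⊓ T ≤ normalizerIn T U := fun y hy =>
      ⟨hy.2, ((f.normalizer_eq h).le (hX'N hy.1)).2⟩
    have hbE : b' ∈ E.autGroup (X' ⊓ T) :=
      f.induce_autE h (le_inf hUX' hUT) hX₀ hgH hco hb'F (hga'.restr hab')
    have hk : IsKGen F E p X' a' := ⟨ha',
      (hp.out.coprime_iff_not_dvd).1 (hco.coprime_dvd_left (hga'.order_dvd f.inj)).symm,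
      fun x => f.hSub_move h hgH (hga' x), b', hbE, hab'⟩
    obtain ⟨θi, hθi, hθir, hθl, hθr⟩ := exists_inv hθ (rfl : θ.range = X')
    have hXH : InH F T R X := ⟨hXN.trans hNR, hUc.mono (le_inf le_sup_right hU₀T) inf_le_right⟩
    have hka := h.kgen_congr hθi hθir hk
    refine (mem_autGroup hWR).2 (PGen.kgen _ _ hXH hka le_sup_left fun x => ?_)
    have hxX : (x : Ω) ∈ X := Subgroup.mem_sup_left x.2
    have e1 : (⟨(x : Ω), hxX⟩ : X) = homEquiv hθi hθir ⟨θ ⟨x, hxX⟩, ⟨_, rfl⟩⟩ :=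
      Subtype.ext (hθl ⟨x, hxX⟩ ⟨_, rfl⟩).symm
    show ((b x : W) : Ω) = ((MulAut.congr (homEquiv hθi hθir) a' ⟨x, hxX⟩ : X) : Ω)
    rw [e1, congr_apply_map]
    have hbX : ((b x : W) : Ω) ∈ X := Subgroup.mem_sup_left (b x).2
    have e2 : θ ⟨_, hbX⟩ = ((a' ⟨θ ⟨x, hxX⟩, ⟨_, rfl⟩⟩ : X') : Ω) := by
      refine congrArg (Subtype.val : normalizerIn S (U ⊔ centralizerIn S U) → Ω) (f.inj (?_ :
        ι ⟨θ ⟨_, hbX⟩, hX'N ⟨_, rfl⟩⟩ = ι (Subgroup.inclusion hX'N (a' ⟨θ ⟨x, hxX⟩, ⟨_, rfl⟩⟩))))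
      rw [hga']
      have h1 : κ (Subgroup.inclusion hWN (b x)) = g * κ (Subgroup.inclusion hWN x) * g⁻¹ :=
        congrArg Subtype.val (hγn x)
      have h2 : ι ⟨θ ⟨_, hbX⟩, hX'N ⟨_, rfl⟩⟩ = κ (Subgroup.inclusion hWN (b x)) :=
        congrArg ι (Subtype.ext (hθe _))
      rw [h2, h1]
      congr 2
      exact congrArg ι (Subtype.ext (hθe ⟨x, hxX⟩).symm)
    exact ((congrArg θi (Subtype.ext e2)).symm.trans (hθl ⟨_, hbX⟩ ⟨_, rfl⟩)).symm
  · intro P hP hPU a ha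
    obtain ⟨θ, hθ, hθe⟩ := exists_restrict hη hP
    have hP'N : θ.range ≤ normalizerIn S (U ⊔ centralizerIn S U) := by
      rintro _ ⟨x, rfl⟩; rw [hθe]; exact hηN _
    obtain ⟨ψ, hψ, hψr, hψe⟩ := h.restrict_inf hθ (rfl : θ.range = θ.range)
    have hP'U : θ.range ⊓ T = U := by
      refine le_antisymm ?_ ?_
      · rw [← hψr]
        rintro _ ⟨x, rfl⟩
        rw [hψe, hθe, hηe]
        exact hη₀U.le ⟨⟨x, hNN (hP x.2.1)⟩, hPU.le x.2, rfl⟩
      · intro u hu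
        obtain ⟨x, hx, rfl⟩ := hUR u hu
        exact ⟨⟨⟨x, (hPU.ge hx).1⟩, hθe _⟩, hUT hu⟩
    obtain ⟨g, hg, hga⟩ := f.kgen_induced h hP'N hP'U (h.kgen_congr hθ rfl ha)
    haveI := finite_sub (hP.trans ((normalizerIn_le U₀).trans h.hRS))
    refine (mem_autGroup hP).2 ⟨hP, fun x => hP (a x).2, ⟨g, Subgroup.mem_sup_left hg⟩, fun x => Subtype.ext ?_⟩
    have h1 := hga (homEquiv hθ rfl x)
    show κ ⟨(a x : P), hP (a x).2⟩ = g * κ ⟨x, hP x.2⟩ * g⁻¹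
    have h2 : Subgroup.inclusion hP'N (homEquiv hθ rfl x) = ⟨η ⟨x, hP x.2⟩, hηN _⟩ := Subtype.ext (hθe x)
    have h3 : Subgroup.inclusion hP'N (MulAut.congr (homEquiv hθ rfl) a (homEquiv hθ rfl x)) =
        ⟨η ⟨(a x : P), hP (a x).2⟩, hηN _⟩ := Subtype.ext ((congr_apply_map hθ rfl a x).trans (hθe _))
    rw [h2, h3] at h1
    exact h1

/-- A conjugate in the product whose base has the largest normaliser in `T`. -/
theorem exists_tmax {P : Subgroup Ω} (hP : InH F T R P) :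
    ∃ P', h.dSys.IsConj P P' ∧ Nat.card (normalizerIn R P) ≤ Nat.card (normalizerIn R P') ∧
      TMax F T (P' ⊓ T) := by
  set U := P ⊓ T with hU
  have hUS : U ≤ S := inf_le_right.trans h.hTS
  obtain ⟨U₂, hUU₂, hU₂n⟩ := exists_isFullyNormalized F hUS
  obtain ⟨η₀, hη₀, hη₀m, hη₀U⟩ := exists_normalizer_map h.hS h.hF hU₂n hUU₂
  have hNN : normalizerIn R U ≤ normalizerIn S U := fun g hg => ⟨h.hRS hg.1, hg.2⟩
  obtain ⟨η, hη, hηe⟩ := exists_restrict hη₀ hNN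
  obtain ⟨δ₀, hδ₀, Y, α, hα, hTY, hm, he⟩ := h.psi hη
  have hδ : δ₀ ∈ h.dSys.Hom (normalizerIn R U) := hδ₀.mono (sup_le h.hTR (normalizerIn_le U))
  have hNP : normalizerIn R P ≤ normalizerIn R U := fun g hg => ⟨hg.1, by
    haveI := finite_sub hUS
    exact mem_normalizer_of_conj_mem fun y hy =>
      ⟨conj_mem_of_normalizer hg.2 hy.1, h.conj_mem_T (h.hRS hg.1) hy.2⟩⟩
  have hPN : P ≤ normalizerIn R U := (le_normalizerIn hP.1).trans hNP
  obtain ⟨δP, hδP, hδPe⟩ := exists_restrict hδ hPN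
  refine ⟨δP.range, ⟨δP, hδP, rfl⟩, ?_, ?_⟩
  · obtain ⟨δN, hδN, hδNe⟩ := exists_restrict hδ hNP
    haveI := h.finR
    haveI := finite_sub ((normalizerIn_le (S := R) δP.range).trans h.hRS)
    refine card_le_of_hom hδN fun x => ⟨apply_mem hδN x, ?_⟩
    rw [hδNe]
    refine (apply_mem_normalizerIn hδ hPN ?_ _ x.2.2).2
    ext y
    constructor
    · rintro ⟨z, hz, rfl⟩; exact ⟨⟨z, hz⟩, hδPe _⟩
    · rintro ⟨z, rfl⟩; exact ⟨⟨z, hPN z.2⟩, z.2, (hδPe z).symm⟩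
  obtain ⟨ψ, hψ, hψr, hψe⟩ := h.restrict_inf (h.dsub P hδP) (rfl : δP.range = δP.range)
  refine ⟨inf_le_right, fun U₁ hU₁ => ?_⟩
  have hU₁₂ : F.IsConj U₁ U₂ := isConj_trans (isConj_symm (isConj_trans ⟨ψ, hψ, hψr⟩ hU₁)) hUU₂
  obtain ⟨η₁, hη₁, hη₁m, -⟩ := exists_normalizer_map h.hS h.hF hU₂n hU₁₂
  obtain ⟨η₁', hη₁', hη₁e⟩ := exists_restrict hη₁
    (fun g hg => ⟨h.hTS hg.1, hg.2⟩ : normalizerIn T U₁ ≤ normalizerIn S U₁)
  haveI := finite_sub ((normalizerIn_le (S := T) U₂).trans h.hTS)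
  haveI := finite_sub ((normalizerIn_le (S := T) (δP.range ⊓ T)).trans h.hTS)
  refine (card_le_of_hom (Q := normalizerIn T U₂) hη₁' fun x => (⟨stronglyClosed_apply_mem h.hsc hη₁' x.2.1,
    by rw [hη₁e]; exact (hη₁m _).2⟩ : η₁' x ∈ normalizerIn T U₂)).trans ?_
  haveI := h.finT
  obtain ⟨β, hβ, -, hβl, -⟩ := exists_inv hα rfl
  obtain ⟨αT, hαT, hαTe⟩ := exists_restrict hα hTY
  have hαTr : αT.range = T := range_eq_of_mem hαT (fun t => stronglyClosed_apply_mem h.hsc hαT t.2) le_rfl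
  have hle : normalizerIn T U₂ ≤ α.range := fun y hy => by
    obtain ⟨t, rfl⟩ := hαTr.ge hy.1
    exact ⟨_, (hαTe t).symm⟩
  obtain ⟨β', hβ', hβe⟩ := exists_restrict hβ hle
  refine card_le_of_hom hβ' fun y => ⟨stronglyClosed_apply_mem h.hsc hβ' y.2.1, ?_⟩
  haveI := finite_sub (inf_le_right.trans h.hTS : δP.range ⊓ T ≤ S)
  refine mem_normalizer_of_conj_mem fun u hu => ?_
  obtain ⟨x, rfl⟩ := hψr.ge hu
  have hxN : (x : Ω) ∈ normalizerIn R U := hPN x.2.1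
  have hη₂ : η ⟨x, hxN⟩ ∈ U₂ := by rw [hηe]; exact hη₀U.le ⟨⟨x, hNN hxN⟩, x.2, rfl⟩
  obtain ⟨w, hw, hwe⟩ := hη₀U.ge (conj_mem_of_normalizer y.2.2 hη₂)
  have hwU : (w : Ω) ∈ U := hw
  have hwN : (w : Ω) ∈ normalizerIn R U := hPN hwU.1
  refine (congrArg (· ∈ δP.range ⊓ T) ?_).mpr (hψr.le ⟨⟨w, hwU⟩, rfl⟩)
  show β' y * ψ x * (β' y)⁻¹ = ψ ⟨w, hwU⟩
  have hval : ∀ (z : Ω) (hzN : z ∈ normalizerIn R U) (hz : η ⟨z, hzN⟩ ∈ α.range),
      β ⟨η ⟨z, hzN⟩, hz⟩ = δ₀ ⟨z, hzN⟩ := fun z hzN hz =>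
    (congrArg β (Subtype.ext (he ⟨z, hzN⟩))).trans (hβl ⟨δ₀ ⟨z, hzN⟩, hm _⟩ ⟨_, rfl⟩)
  rw [hψe, hψe, hδPe, hδPe]
  show β' y * δ₀ ⟨x, hxN⟩ * (β' y)⁻¹ = δ₀ ⟨w, hwN⟩
  have hxr : η ⟨x, hxN⟩ ∈ α.range := ⟨⟨δ₀ ⟨x, hxN⟩, hm _⟩, (he _).symm⟩
  rw [hβe, ← hval x hxN hxr, ← hval w hwN ⟨⟨δ₀ ⟨w, hwN⟩, hm _⟩, (he _).symm⟩, ← map_inv, ← map_mul, ← map_mul]
  exact congrArg β (Subtype.ext ((hηe ⟨w, hwN⟩).trans hwe).symm)

end Setting

end Cfsg.Agent.Lib.FS.ES
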