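import Cfsg.Agent.Lib.FusionSystem.ES.Local
import Cfsg.Agent.Lib.FusionSystem.ES.Class

/-!
The product of a normal subsystem over `T` with a subgroup `R ≥ T` is saturated.
-/

set_option autoImplicit false
set_option linter.style.haveILetI false
set_option linter.unusedSectionVars false

namespace Cfsg.Agent.Lib.FS.ES

open Cfsg Cfsg.FusionSystem Cfsg.Agent.Lib Cfsg.Agent.Lib.FS
open Cfsg.Agent.Lib.FusionP3.Criterion (Good FullEquiv fullEquiv_refl exists_setup)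
open Cfsg.Agent.Lib.FS.NormalCentralizer (CentricT)
open Cfsg.Agent.Lib.FS.Inter (moveSub fixSub)

universe u

variable {Ω : Type u} [Group Ω] {S T R : Subgroup Ω} [Finite S] {p : ℕ} [hp : Fact p.Prime]
  {F : FusionSystem S} {E : FusionSystem T}

namespace Setting

variable (h : Setting F E R p)
include h

theorem good_of_data {P : Subgroup Ω} (hP : InH F T R P) (hn : h.dSys.IsFullyNormalized P)
    (hmax : TMax F T (P ⊓ T)) (hL : h.dSys.autGroup P ≤ lSub F E p R P)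
    (hfull : ∀ (A : Subgroup Ω) (φ : A →* Ω), φ ∈ h.dSys.Hom A → φ.range = P →
      ∃ eA : A ≃* P, FullEquiv h.dSys eA ∧ ∃ a ∈ lSub F E p R P, ∀ x : A, φ x = ((a (eA x) : P) : Ω)) :
    Good h.dSys p P := by
  haveI := h.finR
  obtain ⟨D₁, hD₁, hsub, hk⟩ := h.exists_local hP.2 hmax
  have hPR := hP.1
  haveI := finite_sub hPR
  have hNle : normalizerIn R P ≤ normalizerIn R (P ⊓ T) := fun g hg => ⟨hg.1, by
    haveI := finite_sub (inf_le_left.trans hPR : P ⊓ T ≤ R)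
    exact mem_normalizer_of_conj_mem fun y hy =>
      ⟨conj_mem_of_normalizer hg.2 hy.1, h.conj_mem_T (h.hRS hg.1) hy.2⟩⟩
  have hPN : P ≤ normalizerIn R (P ⊓ T) := (le_normalizerIn hPR).trans hNle
  have hNR : normalizerIn R (P ⊓ T) ≤ R := normalizerIn_le _
  haveI := finite_sub hNR
  have hN₁ : normalizerIn (normalizerIn R (P ⊓ T)) P = normalizerIn R P :=
    le_antisymm (fun g hg => ⟨hNR hg.1, hg.2⟩) fun g hg => ⟨hNle hg, hg.2⟩
  have hAut : autInducedBy (normalizerIn R (P ⊓ T)) P = autInducedBy R P := by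
    refine le_antisymm (Inter.autInducedBy_mono hNR) fun a ha => ?_
    obtain ⟨g, hg, he⟩ := mem_autInducedBy.1 ha
    exact mem_autInducedBy.2 ⟨g, hNle ⟨hg, mem_normalizer_of_aut he⟩, he⟩
  have hle : lSub F E p R P ≤ D₁.autGroup P :=
    sup_le ((Subgroup.closure_le _).2 fun a ha => hk P hPN rfl a ha)
      (hAut ▸ autInducedBy_le_autGroup D₁ hPN)
  have heq : h.dSys.autGroup P = D₁.autGroup P := by
    refine le_antisymm (hL.trans hle) fun a ha => ?_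
    exact (mem_autGroup hPR).2 (hsub P ((mem_autGroup hPN).1 ha))
  have hNp : IsPGroup p (normalizerIn R (P ⊓ T)) := isPGroup_of_le h.pR hNR
  have hfn₁ : D₁.IsFullyNormalized P := by
    refine ⟨hPN, fun Q hQ => ?_⟩
    obtain ⟨φ, hφ, hr⟩ := id hQ
    rw [hN₁]
    haveI := finite_sub (normalizerIn_le (S := R) Q)
    refine (Subgroup.card_le_of_le fun g hg => ?_).trans (hn.2 Q ⟨φ, hsub P hφ, hr⟩)
    exact ⟨hNR hg.1, hg.2⟩
  refine ⟨⟨hPR, ?_⟩, hPR, fun A φ hφ hr => ?_⟩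
  · rw [heq, ← hAut]
    exact (fullyAutomized_of_fullyNormalized hNp hD₁ hfn₁).2
  obtain ⟨eA, ⟨θ, hθ, hθe⟩, a, ha, hφe⟩ := hfull A φ hφ hr
  have hAR := src_le hφ
  obtain ⟨θN, hθN, hθNe⟩ := exists_restrict hθ (extender_le_normalizerIn A φ)
  have hmap := FusionP3.Criterion.map_eq_of_equiv (le_normalizerIn hAR) eA hθe
  have hM : θN.range ≤ normalizerIn (normalizerIn R (P ⊓ T)) P := by
    rw [hN₁]
    rintro _ ⟨x, rfl⟩
    rw [hθNe]
    exact FusionP3.Criterion.apply_mem_normalizer hAR hθ hmap _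
  obtain ⟨ψ, hψ, hψe⟩ := FusionP3.Induction.exists_extend_aut
    (receptive_of_fullyNormalized hNp hD₁ hfn₁) hM (hle ha) fun g hg => by
      obtain ⟨x₀, rfl⟩ := hg
      obtain ⟨hx₀R, hx₀n, u, hu, hxu⟩ := mem_extender.1 x₀.2
      refine ⟨u, hNle ⟨hu, ?_⟩, fun y hy => ?_⟩
      · haveI := finite_sub hPR
        refine mem_normalizer_of_conj_mem fun z hz => ?_
        obtain ⟨w, rfl⟩ := hr.ge hz
        rw [← hxu w (conj_mem_of_normalizer hx₀n w.2)]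
        exact hr.le ⟨_, rfl⟩
      obtain ⟨z, rfl⟩ := eA.surjective y
      have h1 := hxu z (conj_mem_of_normalizer hx₀n z.2)
      rw [hφe, hφe] at h1
      rw [← h1]
      refine congrArg (fun w => ((a w : P) : Ω)) (Subtype.ext ?_)
      show θN x₀ * ((eA z : P) : Ω) * (θN x₀)⁻¹ = _
      rw [hθNe, ← hθe z (le_normalizerIn hAR z.2), ← hθe _ (le_normalizerIn hAR (conj_mem_of_normalizer hx₀n z.2)),
        ← map_inv, ← map_mul, ← map_mul]
      rfl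
  obtain ⟨χ, hχ, hχe⟩ := exists_comp (F := h.dSys) hθN (hsub _ hψ) fun x => ⟨x, rfl⟩
  refine ⟨χ, hχ, fun x hxA hxN => ?_⟩
  have h1 : θN ⟨x, hxN⟩ = (eA ⟨x, hxA⟩ : Ω) := (hθNe _).trans (hθe ⟨x, hxA⟩ _)
  rw [hχe, hφe]
  exact hψe (θN ⟨x, hxN⟩) (h1 ▸ (eA ⟨x, hxA⟩).2) ⟨_, rfl⟩ |>.trans
    (congrArg (fun w => ((a w : P) : Ω)) (Subtype.ext h1))

/-- The automiser of `R`. -/
theorem top_mem_lSub {X : Subgroup Ω} {φ : X →* Ω} (hg : PGen F E p R φ) :
    X = R → ∀ a : MulAut R, (∀ (x : X) (hx : (x : Ω) ∈ R), φ x = a ⟨x, hx⟩) → a ∈ lSub F E p R R := by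
  haveI := h.finR
  induction hg with
  | @conj X φ g hgR hX he =>
    rintro rfl a ha
    exact Subgroup.mem_sup_right (mem_autInducedBy.2 ⟨g, hgR, fun x => (ha x x.2).symm.trans (he x)⟩)
  | @kgen X W φ b hW hb hle he =>
    rintro rfl a ha
    obtain rfl : W = X := le_antisymm hW.1 hle
    refine Subgroup.mem_sup_left (Subgroup.subset_closure ?_)
    rwa [show a = b from MulEquiv.ext fun x => Subtype.ext ((ha x x.2).symm.trans (he x))]
  | @comp X Q φ ψ χ hgφ hgψ hm he ihφ ihψ =>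
    rintro rfl a ha
    have hQX : Q ≤ X := (h.pgen_mem hgψ).2.1
    haveI := finite_sub hQX
    obtain rfl : Q = X := Subgroup.eq_of_le_of_card_ge hQX
      (card_le_of_hom (F := h.dSys) (φ := φ) hgφ hm)
    have hr : φ.range = Q := range_eq_of_mem (F := h.dSys) hgφ hm le_rfl
    set b := homEquiv (F := h.dSys) hgφ hr with hb
    have h1 := ihφ rfl b fun x _ => rfl
    have h2 := ihψ rfl (a * b⁻¹) fun y _ => by
      obtain ⟨x, rfl⟩ := b.surjective y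
      rw [MulAut.mul_apply, show (⟨((b x : Q) : Ω), _⟩ : Q) = b x from rfl, MulAut.inv_apply_self]
      exact (he x).symm.trans (ha x x.2)
    have := mul_mem h2 h1
    rwa [inv_mul_cancel_right] at this

theorem exists_good {n : ℕ} {P₀ : Subgroup Ω} (hP₀ : InH F T R P₀) (hn : Nat.card P₀ = n)
    (hbig : ∀ Q : Subgroup Ω, Q ≤ R → n < Nat.card Q → ∃ Q', h.dSys.IsConj Q Q' ∧ Good h.dSys p Q') :
    ∃ P, h.dSys.IsConj P₀ P ∧ Good h.dSys p P := by
  haveI := h.finR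
  obtain ⟨P₁, hP₀₁, hP₁n⟩ := exists_isFullyNormalized h.dSys hP₀.1
  obtain ⟨P, hP₁P, hle, hmax⟩ := h.exists_tmax (h.d_inH hP₀ hP₀₁)
  have hP₀P := isConj_trans hP₀₁ hP₁P
  have hfn : h.dSys.IsFullyNormalized P :=
    ⟨isConj_le_right hP₁P, fun Q hQ => (hP₁n.2 Q (isConj_trans hP₁P hQ)).trans hle⟩
  have hPH := h.d_inH hP₀ hP₀P
  refine ⟨P, hP₀P, ?_⟩
  by_cases hPR : P = R
  · subst hPR
    refine h.good_of_data hPH hfn hmax (fun a ha => h.top_mem_lSub ((mem_autGroup le_rfl).1 ha) rfl a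
      fun x hx => rfl) fun A φ hφ hr => ?_
    obtain rfl : A = P := Subgroup.eq_of_le_of_card_ge (src_le hφ) (by
      rw [← card_range hφ, hr])
    exact ⟨MulEquiv.refl A, fullEquiv_refl le_rfl, homEquiv hφ hr,
      h.top_mem_lSub hφ rfl _ fun x hx => rfl, fun x => rfl⟩
  have c : Cls h n P := by
    refine ⟨hPH, (isConj_card hP₀P).trans hn, hfn, ?_, hbig⟩
    rw [← hn, ← isConj_card hP₀P]
    exact lt_of_not_ge fun he => hPR (Subgroup.eq_of_le_of_card_ge hPH.1 he)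
  refine h.good_of_data hPH hfn hmax (fun a ha => ?_) fun A φ hφ hr => c.exists_full_of_hom hφ hr
  exact c.conn ((mem_autGroup c.le).1 ha) P P (MulEquiv.refl P) (MulEquiv.refl P) (fullEquiv_refl c.le)
    (fullEquiv_refl c.le) (isConj_refl _ c.le) le_rfl a fun x => rfl

theorem hgen (E' : FusionSystem R) (hE' : ∀ W ∈ {W | InH F T R W}, h.dSys.Hom W ⊆ E'.Hom W) : h.dSys ≤ E' := by
  intro P φ hg
  induction hg with
  | conj φ g hgR hP he => exact mem_of_conj E' hP hgR he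
  | @kgen P W φ a hW ha hle he =>
    exact mem_of_restrict (hE' W hW (PGen.kgen (W.subtype.comp a.toMonoidHom) a hW ha le_rfl fun _ => rfl)) hle he
  | comp φ ψ χ _ _ hm he ihφ ihψ => exact mem_comp ihφ ihψ hm he

theorem hstar {P : Subgroup Ω} (hc : h.dSys.IsCentric P) (hP : ¬ InH F T R P) :
    ∃ Q, h.dSys.IsConj P Q ∧
      ¬ (autInducedBy R Q ⊓ (pCore p ↥(h.dSys.autGroup Q)).map (h.dSys.autGroup Q).subtype ≤ Inn Q) := by
  haveI := h.finR
  have hPR := hc.1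
  have hPS := hPR.trans h.hRS
  set U := P ⊓ T with hU
  have hUS : U ≤ S := inf_le_left.trans hPS
  obtain ⟨U₁, hUU₁, hU₁⟩ : ∃ U₁, F.IsConj U U₁ ∧ ¬ centralizerIn T U₁ ≤ U₁ := by
    by_contra hne
    exact hP ⟨hPR, inf_le_right, fun U' hU' => by_contra fun hn => hne ⟨U', hU', hn⟩⟩
  obtain ⟨U₂, hUU₂, hU₂n⟩ := exists_isFullyNormalized F hUS
  -- the centraliser of `U₂` in `T` is not contained in `U₂`
  obtain ⟨c₂, hc₂, hc₂U⟩ : ∃ c, c ∈ centralizerIn T U₂ ∧ c ∉ U₂ := by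
    obtain ⟨c, hc, hcU⟩ := SetLike.not_le_iff_exists.1 hU₁
    have hU₁S := isConj_le_right hUU₁
    obtain ⟨η, hη, -, hηU⟩ := exists_normalizer_map h.hS h.hF hU₂n (isConj_trans (isConj_symm hUU₁) hUU₂)
    have hcN : c ∈ normalizerIn S U₁ := centralizerIn_le_normalizerIn U₁ ⟨h.hTS hc.1, hc.2⟩
    refine ⟨η ⟨c, hcN⟩, mem_centralizerIn.2 ⟨stronglyClosed_apply_mem h.hsc hη hc.1, fun y hy => ?_⟩, fun hy => ?_⟩
    · obtain ⟨x, hx, rfl⟩ := hηU.ge hy
      rw [← map_mul, ← map_mul]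
      exact congrArg η (Subtype.ext (hc.2 x hx))
    · obtain ⟨x, hx, hxc⟩ := hηU.ge hy
      refine hcU ?_
      rw [show c = (x : Ω) from (congrArg Subtype.val (F.injective_of_mem hη hxc)).symm]
      exact hx
  obtain ⟨η, hη, -, hηU⟩ := exists_normalizer_map h.hS h.hF hU₂n hUU₂
  have hPN : P ≤ normalizerIn S U := fun g hg => ⟨hPS hg, by
    haveI := finite_sub hUS
    exact mem_normalizer_of_conj_mem fun y hy =>
      ⟨conj_mem_of_normalizer (Subgroup.le_normalizer hg) hy.1, h.conj_mem_T (hPS hg) hy.2⟩⟩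
  obtain ⟨φ, hφ, hφe⟩ := exists_restrict hη hPN
  obtain ⟨δ, hδ, Y, α, hα, hTY, hm, he⟩ := h.psi hφ
  have hδD : δ ∈ h.dSys.Hom P := hδ.mono (sup_le h.hTR hPR)
  set Q := δ.range with hQ
  have hQR : Q ≤ R := range_le_base hδD
  haveI := finite_sub hQR
  haveI := FusionP3.GT.finite_mulAut ↥Q
  refine ⟨Q, ⟨δ, hδD, rfl⟩, ?_⟩
  obtain ⟨ψ, hψ, hψr, hψe⟩ := h.restrict_inf (h.dsub P hδD) (rfl : δ.range = δ.range)
  -- the centraliser of `Q ⊓ T` is not contained in it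
  obtain ⟨αT, hαT, hαTe⟩ := exists_restrict hα hTY
  haveI := h.finT
  have hαTr : αT.range = T := range_eq_of_mem hαT (fun t => stronglyClosed_apply_mem h.hsc hαT t.2) le_rfl
  obtain ⟨t, ht⟩ := hαTr.ge hc₂.1
  have hval : ∀ x : ↥(P ⊓ T), ∃ hy : ψ x ∈ Y, α ⟨ψ x, hy⟩ = η ⟨x, hPN x.2.1⟩ := fun x => by
    refine ⟨(hψe x).symm ▸ hm _, ?_⟩
    rw [← hφe ⟨x, x.2.1⟩, he]
    exact congrArg α (Subtype.ext (hψe x))
  have htC : (t : Ω) ∈ centralizerIn T (Q ⊓ T) := by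
    refine mem_centralizerIn.2 ⟨t.2, fun y hy => ?_⟩
    obtain ⟨x, rfl⟩ := hψr.ge hy
    obtain ⟨hy', hye⟩ := hval x
    have h1 := hc₂.2 (η ⟨x, hPN x.2.1⟩) (hηU.le ⟨_, x.2, rfl⟩)
    rw [← hye, ← ht, hαTe, ← map_mul, ← map_mul] at h1
    exact congrArg Subtype.val (F.injective_of_mem hα h1)
  have htQ : (t : Ω) ∉ Q := fun htQ => hc₂U (by
    obtain ⟨x, hx⟩ := hψr.ge (⟨htQ, t.2⟩ : (t : Ω) ∈ Q ⊓ T)
    obtain ⟨hy', hye⟩ := hval x
    rw [← ht, hαTe, show (⟨(t : Ω), hTY t.2⟩ : Y) = ⟨ψ x, hy'⟩ from Subtype.ext hx.symm, hye]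
    exact hηU.le ⟨_, x.2, rfl⟩)
  -- an element of `C_T(Q ⊓ T)` normalising `Q` outside it
  set C := centralizerIn T (Q ⊓ T) with hC
  have hCn : Q ≤ Subgroup.normalizer (C : Set Ω) := by
    intro q hq
    haveI := finite_sub ((centralizerIn_le (S := T) (Q ⊓ T)).trans h.hTS)
    haveI := finite_sub (inf_le_right.trans h.hTS : Q ⊓ T ≤ S)
    have hqS := h.hRS (hQR hq)
    refine mem_normalizer_of_conj_mem fun y hy => mem_centralizerIn'.2 ⟨h.conj_mem_T hqS hy.1, fun x hx => ?_⟩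
    have hx' : q⁻¹ * x * q ∈ Q ⊓ T :=
      ⟨Q.mul_mem (Q.mul_mem (Q.inv_mem hq) hx.1) hq, h.conj_inv_mem_T hqS hx.2⟩
    have h1 := (mem_centralizerIn'.1 hy).2 _ hx'
    calc q * y * q⁻¹ * x * (q * y * q⁻¹)⁻¹ = q * (y * (q⁻¹ * x * q) * y⁻¹) * q⁻¹ := by group
      _ = x := by rw [h1]; group
  have hQC : Q ⊔ C ≤ R := sup_le hQR ((centralizerIn_le _).trans h.hTR)
  haveI := finite_sub hQC
  have hlt : Q < Q ⊔ C := lt_of_le_of_ne le_sup_left fun he => htQ (he.ge (Subgroup.mem_sup_right htC))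
  obtain ⟨x, ⟨hx, hxn⟩, hxQ⟩ := SetLike.exists_of_lt
    (FusionP3.Induction.lt_normalizerIn (isPGroup_of_le h.pR hQC) hlt)
  obtain ⟨q, hq, d, hd, rfl⟩ := (Subgroup.coe_mul_of_left_le_normalizer_right Q C hCn).le hx
  have hdn : d ∈ Subgroup.normalizer (Q : Set Ω) := by
    simpa using mul_mem (Subgroup.inv_mem _ (Subgroup.le_normalizer hq)) hxn
  have hdQ : d ∉ Q := fun hdQ => hxQ (Q.mul_mem hq hdQ)
  have hdR : d ∈ R := h.hTR hd.1
  set a := Q.normalizerMonoidHom ⟨d, hdn⟩ with ha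
  have haS : a ∈ autInducedBy R Q := mem_autInducedBy.2 ⟨d, hdR, fun _ => rfl⟩
  have haF : a ∈ h.dSys.autGroup Q := autInducedBy_le_autGroup _ hQR haS
  set J := (moveSub Q (Q ⊓ T) ⊓ fixSub Q (Q ⊓ T)).subgroupOf (h.dSys.autGroup Q) with hJ
  have hinv : ∀ g ∈ h.dSys.autGroup Q, ∀ x : Q, (x : Ω) ∈ Q ⊓ T ↔ ((g x : Q) : Ω) ∈ Q ⊓ T := by
    intro g hg x
    have h1 := autGroup_mem_iff_of_stronglyClosed h.hsc (hQR.trans h.hRS)
      ((mem_autGroup (hQR.trans h.hRS)).2 (h.dsub Q ((mem_autGroup hQR).1 hg))) x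
    exact ⟨fun hx => ⟨(g x).2, h1.1 hx.2⟩, fun hx => ⟨x.2, h1.2 hx.2⟩⟩
  haveI : J.Normal := ⟨fun k hk g => by
    refine Subgroup.mem_subgroupOf.2 ⟨layerStab_conj_mem (fun _ => hinv g g.2)
      (fun _ x => ⟨fun _ => ((g : MulAut Q) x).2, fun _ => x.2⟩) (Subgroup.mem_subgroupOf.1 hk).1,
      Inter.fixSub_conj (Subgroup.mem_subgroupOf.1 hk).2
        fun x hx => (hinv _ ((h.dSys.autGroup Q).inv_mem g.2) x).1 hx⟩⟩
  have hJp : IsPGroup p J := (Inter.isPGroup_fix_move (R := Q ⊓ T) h.hS (hQR.trans h.hRS)).of_injective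
    ((((h.dSys.autGroup Q).subtype.comp J.subtype).codRestrict _) fun k => Subgroup.mem_subgroupOf.1 k.2)
    fun u v e => Subtype.ext (Subtype.ext (congrArg Subtype.val e :))
  have haJ : (⟨a, haF⟩ : h.dSys.autGroup Q) ∈ J := by
    refine Subgroup.mem_subgroupOf.2 ⟨Inter.mem_moveSub (hinv a haF) fun x => ⟨Q.mul_mem (Q.inv_mem x.2) (a x).2, ?_⟩,
      fun x hx => Subtype.ext ?_⟩
    · show (x : Ω)⁻¹ * (d * x * d⁻¹) ∈ T
      rw [← mul_assoc, ← mul_assoc]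
      exact T.mul_mem (h.conj_inv_mem_T (h.hRS (hQR x.2)) hd.1) (T.inv_mem hd.1)
    · exact (mem_centralizerIn'.1 hd).2 x hx
  intro hle
  obtain ⟨w, hw⟩ := hle ⟨haS, _, Cores.le_pCore hJp haJ, rfl⟩
  refine hdQ ?_
  have hwC : (w : Ω)⁻¹ * d ∈ centralizerIn R Q := by
    refine mem_centralizerIn'.2 ⟨R.mul_mem (R.inv_mem (hQR w.2)) hdR, fun y hy => ?_⟩
    have h1 : (w : Ω) * y * (w : Ω)⁻¹ = d * y * d⁻¹ := by
      have h0 := congrArg Subtype.val (DFunLike.congr_fun hw ⟨y, hy⟩)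
      simpa [MulAut.conj_apply, ha, normalizerMonoidHom_coe] using h0
    calc (w : Ω)⁻¹ * d * y * ((w : Ω)⁻¹ * d)⁻¹ = (w : Ω)⁻¹ * (d * y * d⁻¹) * w := by group
      _ = y := by rw [← h1]; group
  have h2 := Q.mul_mem w.2 (hc.2 Q ⟨δ, hδD, rfl⟩ hwC)
  rwa [mul_inv_cancel_left] at h2

/-- The product is saturated. -/
theorem saturated : h.dSys.IsSaturated p := by
  haveI := h.finR
  suffices key : ∀ (k : ℕ) (P : Subgroup Ω), P ≤ R → Nat.card R - Nat.card P ≤ k →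
      ∃ Q, h.dSys.IsConj P Q ∧ Good h.dSys p Q from fun P hP => key _ P hP le_rfl
  intro k
  induction k using Nat.strong_induction_on with
  | _ k ih =>
    intro P hP hk
    have hbig : ∀ Q : Subgroup Ω, Q ≤ R → Nat.card P < Nat.card Q → ∃ Q', h.dSys.IsConj Q Q' ∧ Good h.dSys p Q' := by
      intro Q hQ hlt
      have := Subgroup.card_le_of_le hQ
      exact ih (Nat.card R - Nat.card Q) (by omega) Q hQ le_rfl
    by_cases hPH : InH F T R P
    · exact h.exists_good hPH rfl hbig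
    haveI := finite_sub hP
    have hcard : Nat.card P < Nat.card R := lt_of_not_ge fun he =>
      hPH (Subgroup.eq_of_le_of_card_ge hP he ▸ h.inH_top)
    obtain ⟨Q, hPQ, hQ⟩ := exists_setup (ℋ := {W | InH F T R W}) h.pR
      (fun W hW W' hc => h.d_inH hW hc) h.hgen hcard hbig (fun W hc hW => h.hstar hc hW) hP hPH rfl
    exact ⟨Q, hPQ, hQ.fullyAutomized, hQ.receptive⟩

end Setting

end Cfsg.Agent.Lib.FS.ES
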