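import Cfsg.Agent.Lib.FusionSystem.ES.Extend
import Cfsg.Agent.Lib.FusionSystem.ES.Saturated
import Cfsg.Agent.Lib.FusionSystem.PPowerExists

/-!
The product is the only saturated system over `R` with the same `p`-residual as the normal subsystem.
-/

set_option autoImplicit false
set_option linter.style.haveILetI false
set_option linter.unusedSectionVars false

namespace Cfsg.Agent.Lib.FS.ES

open Cfsg Cfsg.FusionSystem Cfsg.Agent.Lib Cfsg.Agent.Lib.FS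
open Cfsg.Agent.Lib.FS.NormalCentralizer (CentricT centricT_inf)
open Cfsg.Agent.Lib.FS.NormalCentralizer.Odd (autE_congr centricT_of_centric)
open Cfsg.Agent.Lib.FS.CentralLift (Restr congr_apply_map)
open Cfsg.Agent.Lib.FS.Inter (exists_aut exists_restr restr_apply autE_le_autF moveSub fixSub)

universe u

variable {Ω : Type u} [Group Ω] {S T R : Subgroup Ω} [Finite S] {p : ℕ} [hp : Fact p.Prime]
  {F : FusionSystem S} {E : FusionSystem T}

namespace Setting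

variable (h : Setting F E R p)
include h

theorem hyp_le_T : E.hyperfocalSubgroup p ≤ T := FusionP3.Tate.hyperfocal_le E p

/-- An automorphism of `T` in `F` preserves the hyperfocal subgroup of `E`. -/
theorem hyp_map {α : MulAut T} (hα : α ∈ F.autGroup T) {y : Ω} (hy : y ∈ E.hyperfocalSubgroup p) :
    ∃ hyT : y ∈ T, ((α ⟨y, hyT⟩ : T) : Ω) ∈ E.hyperfocalSubgroup p := by
  refine Subgroup.closure_induction (p := fun y _ => ∃ hyT : y ∈ T,
    ((α ⟨y, hyT⟩ : T) : Ω) ∈ E.hyperfocalSubgroup p) ?_ ?_ ?_ ?_ hy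
  · rintro _ ⟨P, a, x, hP, ha, rfl⟩
    refine ⟨T.mul_mem (T.inv_mem (hP x.2)) (hP (a.1 x).2), ?_⟩
    obtain ⟨φ, hφ, hφe⟩ : ∃ φ ∈ F.Hom P, ∀ x : P, φ x = ((α ⟨x, hP x.2⟩ : T) : Ω) := by
      obtain ⟨g, hg, hge⟩ := exists_restrict ((mem_autGroup h.hTS).1 hα) hP
      exact ⟨g, hg, fun x => hge x⟩
    have hPT' : φ.range ≤ T := by
      rintro _ ⟨x, rfl⟩
      rw [hφe]; exact SetLike.coe_mem _
    let f : E.autGroup P →* E.autGroup φ.range :=
      ((MulAut.congr (homEquiv hφ rfl)).toMonoidHom.comp (E.autGroup P).subtype).codRestrict _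
        fun b => autE_congr h.hE hP hφ rfl b.2
    have h1 := FusionP3.Tate.hyperfocal_gen_mem hPT'
      (Transfer.PResidual.map_pResidual_le f ⟨a, ha, rfl⟩) (homEquiv hφ rfl x)
    have he : (((f a).1 (homEquiv hφ rfl x) : φ.range) : Ω) = φ (a.1 x) := congr_apply_map hφ rfl a.1 x
    rw [he, homEquiv_coe, ← map_inv, ← map_mul, hφe] at h1
    exact h1
  · exact ⟨T.one_mem, by rw [show (⟨1, T.one_mem⟩ : T) = 1 from rfl, map_one]; exact Subgroup.one_mem _⟩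
  · rintro a b _ _ ⟨haT, ha⟩ ⟨hbT, hb⟩
    refine ⟨T.mul_mem haT hbT, ?_⟩
    rw [show (⟨a * b, T.mul_mem haT hbT⟩ : T) = ⟨a, haT⟩ * ⟨b, hbT⟩ from rfl, map_mul]
    exact Subgroup.mul_mem _ ha hb
  · rintro a _ ⟨haT, ha⟩
    refine ⟨T.inv_mem haT, ?_⟩
    rw [show (⟨a⁻¹, T.inv_mem haT⟩ : T) = ⟨a, haT⟩⁻¹ from rfl, map_inv]
    exact Subgroup.inv_mem _ ha

theorem hyp_sc_E : E.StronglyClosed (E.hyperfocalSubgroup p) := by
  haveI := h.finT
  refine FusionP3.Prime.PPower.stronglyClosed_of_hyperfocal_le h.pT h.hEs h.hyp_le_T ?_ le_rfl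
  exact ⟨fun n hn g => Subgroup.mem_subgroupOf.2 (h.hypE_conj (h.hTS g.2) (Subgroup.mem_subgroupOf.1 hn))⟩

theorem hyp_sc : F.StronglyClosed (E.hyperfocalSubgroup p) := by
  refine ⟨h.hyp_le_T.trans h.hTS, fun P hP φ hφ x => ?_⟩
  obtain ⟨α, hα, φ₀, hφ₀, he⟩ := h.hE.1.2.2.2.2.2 P (hP.trans h.hyp_le_T) φ hφ
  have h0 := h.hyp_sc_E.2 P hP φ₀ hφ₀ x
  obtain ⟨hyT, hy⟩ := h.hyp_map hα h0
  rw [he x hyT]
  exact hy

theorem centricT_hyp {X : Subgroup Ω} (hX : CentricT E (E.hyperfocalSubgroup p) X) :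
    CentricT F (E.hyperfocalSubgroup p) X := by
  refine ⟨hX.1, ?_⟩
  rintro _ ⟨φ, hφ, rfl⟩ t ht
  obtain ⟨α, hα, φ₀, hφ₀, he⟩ := h.hE.1.2.2.2.2.2 X (hX.1.trans h.hyp_le_T) φ hφ
  obtain ⟨htH, htC⟩ := mem_centralizerIn'.1 ht
  obtain ⟨hi, ht₀⟩ := h.hyp_map (inv_mem hα) htH
  set t₀ : T := α⁻¹ ⟨t, hi⟩ with ht₀def
  have hαt : ((α t₀ : T) : Ω) = t := congrArg Subtype.val (MulAut.apply_inv_self _ α ⟨t, hi⟩)
  have ht₀C : (t₀ : Ω) ∈ centralizerIn (E.hyperfocalSubgroup p) φ₀.range := by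
    refine mem_centralizerIn'.2 ⟨ht₀, ?_⟩
    rintro _ ⟨x, rfl⟩
    have hxT : φ₀ x ∈ T := apply_mem hφ₀ x
    have h2 := htC (φ x) ⟨x, rfl⟩
    rw [he x hxT, ← hαt, ← Subgroup.coe_inv, ← Subgroup.coe_mul, ← Subgroup.coe_mul, ← map_inv, ← map_mul,
      ← map_mul] at h2
    exact congrArg Subtype.val (α.injective (Subtype.ext h2) : t₀ * ⟨φ₀ x, hxT⟩ * t₀⁻¹ = ⟨φ₀ x, hxT⟩)
  obtain ⟨x, hx⟩ := hX.2 _ ⟨φ₀, hφ₀, rfl⟩ ht₀C
  refine ⟨x, ?_⟩
  rw [he x (apply_mem hφ₀ x), ← hαt]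
  exact congrArg (fun z => ((α z : T) : Ω)) (Subtype.ext hx)

theorem centric_upgrade {D' : FusionSystem R} (hED : E.IsSubsystemOf D') {U : Subgroup Ω}
    (hc : CentricT D' T U) : CentricT F T U := by
  refine centricT_of_centric h.hE ⟨hc.1, ?_⟩
  rintro Q ⟨φ, hφ, rfl⟩
  exact hc.2 _ ⟨φ, hED U hφ, rfl⟩

theorem hyp_centric_upgrade {D' : FusionSystem R} (hED : E.IsSubsystemOf D') {X : Subgroup Ω}
    (hc : CentricT D' (E.hyperfocalSubgroup p) X) : CentricT F (E.hyperfocalSubgroup p) X := by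
  refine h.centricT_hyp ⟨hc.1, ?_⟩
  rintro Q ⟨φ, hφ, rfl⟩
  exact hc.2 _ ⟨φ, hED X hφ, rfl⟩

variable {D' : FusionSystem R}

theorem e_le_of_residual (hD : D'.IsSaturated p) (hsub : D'.IsSubsystemOf F)
    (hh : D'.hyperfocalSubgroup p = E.hyperfocalSubgroup p)
    (hag : ∀ X : Subgroup Ω, X ≤ E.hyperfocalSubgroup p → ∀ d : MulAut X, (orderOf d).Coprime p →
      (d ∈ E.autGroup X ↔ d ∈ D'.autGroup X)) : E.IsSubsystemOf D' := by
  haveI := h.finT
  intro P φ hφ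
  refine FusionP3.Induction.hom_induction h.pT h.hEs (M := fun P φ => φ ∈ D'.Hom P) ?_ ?_ ?_ P φ hφ
  · exact fun P Q φ ψ χ _ _ hm he h1 h2 => mem_comp h1 h2 hm he
  · exact fun P Q φ ψ hle _ he h2 => mem_of_restrict h2 hle he
  intro W hWn hWc hWr a ha _
  have hWT := hWn.1
  have hWR : W ≤ R := hWT.trans h.hTR
  refine (mem_autGroup hWR).1 (FusionP3.Prime.PPower.autGroup_le_sup' E
    (fullyAutomized_of_fullyNormalized h.pT h.hEs hWn) (fun b hb hbc => ?_)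
    ((Inter.autInducedBy_mono h.hTR).trans (autInducedBy_le_autGroup _ hWR)) ha)
  have hord : ¬ p ∣ orderOf b := (hp.out.coprime_iff_not_dvd).1 hbc.symm
  have hc := h.centricT_hyp (centricT_inf h.pT h.hEs h.hyp_sc_E hWc hWr)
  have hm : ∀ x : W, (x : Ω)⁻¹ * ((b x : W) : Ω) ∈ E.hyperfocalSubgroup p := fun x =>
    FusionP3.Tate.hyperfocal_gen_mem hWT (α := ⟨b, hb⟩)
      (Transfer.PResidual.mem_pResidual (by rwa [Subgroup.orderOf_mk])) x
  have hbF : b ∈ F.autGroup W := autE_le_autF h.hsub hWT hb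
  obtain ⟨d, hd, hbd⟩ := exists_restr (F := E) (inf_le_left : W ⊓ E.hyperfocalSubgroup p ≤ W) hWT hb fun x =>
    ⟨(b _).2, (autGroup_mem_iff_of_stronglyClosed h.hyp_sc (hWT.trans h.hTS) hbF _).1 x.2.2⟩
  have hdord := restr_not_dvd hbd hord
  obtain ⟨e, he, heord, hem, hed⟩ := exists_aut_extend h.hS hD h.hRS hsub h.hyp_sc hh.le hWR hc hord hm
    ((hag _ inf_le_right d ((hp.out.coprime_iff_not_dvd).2 hdord).symm).1 hd) hbd
  have heF : e ∈ F.autGroup W := autSub hsub hWR he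
  have hagr : ∀ x : W, (x : Ω) ∈ E.hyperfocalSubgroup p → b x = e x := fun x hx =>
    Subtype.ext ((restr_apply hbd (x := x) ⟨x.2, hx⟩).trans (restr_apply hed (x := x) ⟨x.2, hx⟩).symm)
  have heE := mem_autE_of_agree h.hS h.hE h.hyp_sc hWT hb heF heord hm hem hagr
  have hk : b⁻¹ * e ∈ Inn W := inn_of_fix_move h.hS h.hTS h.hsub h.hyp_sc hWr (mul_mem (inv_mem hb) heE)
    (diff_mem h.hyp_sc (hWT.trans h.hTS) hbF heF hm hem hagr)
  have h2 := mul_mem he ((D'.autGroup W).inv_mem (inn_le_autGroup D' hWR hk))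
  rwa [mul_inv_rev, inv_inv, mul_inv_cancel_left] at h2

theorem le_d_of_residual (hD : D'.IsSaturated p) (hsub : D'.IsSubsystemOf F)
    (hh : D'.hyperfocalSubgroup p = E.hyperfocalSubgroup p) (hED : E.IsSubsystemOf D')
    (hag : ∀ X : Subgroup Ω, X ≤ E.hyperfocalSubgroup p → ∀ d : MulAut X, (orderOf d).Coprime p →
      (d ∈ E.autGroup X ↔ d ∈ D'.autGroup X)) : D'.IsSubsystemOf h.dSys := by
  haveI := h.finR
  haveI := h.finT
  intro P φ hφ
  refine FusionP3.Induction.hom_induction h.pR hD (M := fun P φ => φ ∈ h.dSys.Hom P) ?_ ?_ ?_ P φ hφ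
  · exact fun P Q φ ψ χ _ _ hm he h1 h2 => mem_comp h1 h2 hm he
  · exact fun P Q φ ψ hle _ he h2 => mem_of_restrict h2 hle he
  intro W hWn hWc hWr a ha _
  have hWR := hWn.1
  have hWS := hWR.trans h.hRS
  refine (mem_autGroup hWR).1 (FusionP3.Prime.PPower.autGroup_le_sup' D'
    (fullyAutomized_of_fullyNormalized h.pR hD hWn) (fun b hb hbc => ?_) (autInducedBy_le_autGroup _ hWR) ha)
  have hord : ¬ p ∣ orderOf b := (hp.out.coprime_iff_not_dvd).1 hbc.symm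
  have hbF : b ∈ F.autGroup W := autSub hsub hWR hb
  have hcT := h.centric_upgrade hED
    (centricT_inf h.pR hD (stronglyClosed_sub h.hRS hsub h.hsc h.hTR) hWc hWr)
  have hcH := h.hyp_centric_upgrade hED
    (centricT_inf h.pR hD (stronglyClosed_sub h.hRS hsub h.hyp_sc (h.hyp_le_T.trans h.hTR)) hWc hWr)
  have hm : ∀ x : W, (x : Ω)⁻¹ * ((b x : W) : Ω) ∈ E.hyperfocalSubgroup p := fun x =>
    hh ▸ FusionP3.Tate.hyperfocal_gen_mem hWR (α := ⟨b, hb⟩)
      (Transfer.PResidual.mem_pResidual (by rwa [Subgroup.orderOf_mk])) x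
  obtain ⟨u, hu, hbu⟩ := exists_restr (F := D') (inf_le_left : W ⊓ T ≤ W) hWR hb fun x =>
    ⟨(b _).2, (autGroup_mem_iff_of_stronglyClosed h.hsc hWS hbF _).1 x.2.2⟩
  refine h.kgen_mem_d ⟨hWR, hcT⟩ ⟨hbF, hord, fun x => h.hyp_le_T (hm x), u, ?_, hbu⟩
  have huS : W ⊓ T ≤ S := inf_le_right.trans h.hTS
  have huF : u ∈ F.autGroup (W ⊓ T) := autSub hsub (inf_le_left.trans hWR) hu
  have huord := restr_not_dvd hbu hord
  have hum : ∀ x : ↥(W ⊓ T), (x : Ω)⁻¹ * ((u x : ↥(W ⊓ T)) : Ω) ∈ E.hyperfocalSubgroup p := fun x => by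
    rw [← hbu x]; exact hm (Subgroup.inclusion inf_le_left x)
  have hXeq : W ⊓ T ⊓ E.hyperfocalSubgroup p = W ⊓ E.hyperfocalSubgroup p := by
    rw [inf_assoc, inf_eq_right.2 h.hyp_le_T]
  obtain ⟨d, hd, hud⟩ := exists_restr (F := D') (inf_le_left : W ⊓ T ⊓ E.hyperfocalSubgroup p ≤ W ⊓ T)
    (inf_le_left.trans hWR) hu fun x =>
    ⟨(u _).2, (autGroup_mem_iff_of_stronglyClosed h.hyp_sc huS huF _).1 x.2.2⟩
  obtain ⟨e, he, -, hem, hed⟩ := exists_aut_extend h.hS h.hEs h.hTS h.hsub h.hyp_sc le_rfl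
    (inf_le_right : W ⊓ T ≤ T) (hXeq.symm ▸ hcH) huord hum
    ((hag _ inf_le_right d ((hp.out.coprime_iff_not_dvd).2 (restr_not_dvd hud huord)).symm).2 hd) hud
  exact mem_autE_of_agree h.hS h.hE h.hyp_sc inf_le_right he huF huord hem hum fun x hx =>
    Subtype.ext ((restr_apply hed (x := x) ⟨x.2, hx⟩).trans (restr_apply hud (x := x) ⟨x.2, hx⟩).symm)

theorem d_le_of_residual (hD : D'.IsSaturated p) (hsub : D'.IsSubsystemOf F)
    (hh : D'.hyperfocalSubgroup p = E.hyperfocalSubgroup p) (hED : E.IsSubsystemOf D') :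
    h.dSys.IsSubsystemOf D' := by
  haveI := h.finR
  haveI := h.finT
  intro P φ hφ
  refine FusionP3.Induction.hom_induction h.pR h.saturated (M := fun P φ => φ ∈ D'.Hom P) ?_ ?_ ?_ P φ hφ
  · exact fun P Q φ ψ χ _ _ hm he h1 h2 => mem_comp h1 h2 hm he
  · exact fun P Q φ ψ hle _ he h2 => mem_of_restrict h2 hle he
  intro W hWn hWc hWr a ha _
  have hWR := hWn.1
  have hWS := hWR.trans h.hRS
  refine (mem_autGroup hWR).1 (FusionP3.Prime.PPower.autGroup_le_sup' h.dSys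
    (fullyAutomized_of_fullyNormalized h.pR h.saturated hWn) (fun b hb hbc => ?_)
    (autInducedBy_le_autGroup _ hWR) ha)
  have hord : ¬ p ∣ orderOf b := (hp.out.coprime_iff_not_dvd).1 hbc.symm
  obtain ⟨hbF, -, hm, u, hu, hbu⟩ := h.coprime_aut_kgen hWR hb hord
  have hcT := h.centric_upgrade h.e_le
    (centricT_inf h.pR h.saturated (stronglyClosed_sub h.hRS h.dsub h.hsc h.hTR) hWc hWr)
  have huD : u ∈ D'.autGroup (W ⊓ T) :=
    (mem_autGroup (inf_le_left.trans hWR)).2 (hED _ ((mem_autGroup inf_le_right).1 hu))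
  obtain ⟨e, he, heord, hem, heu⟩ := exists_aut_extend h.hS hD h.hRS hsub h.hsc (hh.trans_le h.hyp_le_T)
    hWR hcT hord hm huD hbu
  have heF : e ∈ F.autGroup W := autSub hsub hWR he
  have heD : e ∈ h.dSys.autGroup W := h.kgen_mem_d ⟨hWR, hcT⟩ ⟨heF, heord, hem, u, hu, heu⟩
  have hk : b⁻¹ * e ∈ Inn W := inn_of_fix_move h.hS h.hRS h.dsub h.hsc hWr (mul_mem (inv_mem hb) heD)
    (diff_mem h.hsc hWS hbF heF hm hem fun x hx =>
      Subtype.ext ((restr_apply hbu (x := x) ⟨x.2, hx⟩).trans (restr_apply heu (x := x) ⟨x.2, hx⟩).symm))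
  have h2 := mul_mem he ((D'.autGroup W).inv_mem (inn_le_autGroup D' hWR hk))
  rwa [mul_inv_rev, inv_inv, mul_inv_cancel_left] at h2

/-- The residual of `E` has `p`-power index in the product. -/
theorem residual_index {E₁ : FusionSystem (E.hyperfocalSubgroup p)} (hE₁ : E.IsPResidual p E₁) :
    E₁.HasPPowerIndexIn h.dSys p := by
  haveI := h.finT
  refine ⟨fun P φ hφ => h.e_le P (hE₁.2.1 P hφ), h.hyp_d.le, fun P hP => ?_⟩
  rw [Subgroup.map_le_iff_le_comap, Transfer.PResidual.pResidual_le_iff]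
  intro b hb
  have hPT : P ≤ T := hP.trans h.hyp_le_T
  have hbc : (orderOf (b : MulAut P)).Coprime p := by rwa [Subgroup.orderOf_coe]
  obtain ⟨b', hb', hr⟩ := (h.coprime_aut_kgen (hPT.trans h.hTR) b.2
    ((hp.out.coprime_iff_not_dvd).1 hbc.symm)).2.2.2
  have key : ∀ U : Subgroup Ω, U = P → ∀ hU : U ≤ P, ∀ b' ∈ E.autGroup U, Restr hU (b : MulAut P) b' →
      (b : MulAut P) ∈ E.autGroup P := by
    rintro U rfl hU b' hb' hr
    rwa [show (b : MulAut U) = b' from MulEquiv.ext fun x => Subtype.ext (hr x)]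
  exact FusionP3.Prime.PPower.coprime_aut_mem hE₁.2 hP (key _ (inf_eq_left.2 hPT) inf_le_left b' hb' hr) hbc

theorem residual_eq {H : Subgroup Ω} (hH : H = E.hyperfocalSubgroup p) (D₁ : FusionSystem H)
    (hD₁ : D₁.IsSaturated p) (hi : D₁.HasPPowerIndexIn h.dSys p)
    (E₁ : FusionSystem (E.hyperfocalSubgroup p)) (hE₁ : E.IsPResidual p E₁) (P : Subgroup Ω) :
    D₁.Hom P = E₁.Hom P := by
  subst hH
  haveI := h.finR
  exact Set.Subset.antisymm
    (PPowerKernel.pPower_le h.pR (h.hyp_le_T.trans h.hTR) hD₁ hi.1 (h.residual_index hE₁) P)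
    (PPowerKernel.pPower_le h.pR (h.hyp_le_T.trans h.hTR) hE₁.1 (h.residual_index hE₁).1 hi P)

/-- Equal residuals give the same automorphisms of order prime to `p` below the hyperfocal subgroup. -/
theorem agree_of_residual (hD : D'.IsSaturated p) (hh : D'.hyperfocalSubgroup p = E.hyperfocalSubgroup p)
    (hres : ∀ (D₁ : FusionSystem (D'.hyperfocalSubgroup p)) (E₁ : FusionSystem (E.hyperfocalSubgroup p)),
      D'.IsPResidual p D₁ → E.IsPResidual p E₁ → ∀ P : Subgroup Ω, D₁.Hom P = E₁.Hom P)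
    (X : Subgroup Ω) (hX : X ≤ E.hyperfocalSubgroup p) (d : MulAut X) (hd : (orderOf d).Coprime p) :
    d ∈ E.autGroup X ↔ d ∈ D'.autGroup X := by
  haveI := h.finR
  haveI := h.finT
  obtain ⟨E₁, hE₁, hiE⟩ := PPowerKernel.exists_pPower h.pT E h.hEs h.hyp_le_T le_rfl
  obtain ⟨D₁, hD₁, hiD⟩ := PPowerKernel.exists_pPower h.pR D' hD (FusionP3.Tate.hyperfocal_le D' p) le_rfl
  have heq := hres D₁ E₁ ⟨hD₁, hiD⟩ ⟨hE₁, hiE⟩ X
  have hXT : X ≤ T := hX.trans h.hyp_le_T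
  have hX' : X ≤ D'.hyperfocalSubgroup p := hh ▸ hX
  constructor <;> intro hmem
  · have h1 := (mem_autGroup hX).1 (FusionP3.Prime.PPower.coprime_aut_mem hiE hX hmem hd)
    exact (mem_autGroup (hXT.trans h.hTR)).2 (hiD.1 X (heq.ge h1))
  · have h1 := (mem_autGroup hX').1 (FusionP3.Prime.PPower.coprime_aut_mem hiD hX' hmem hd)
    exact (mem_autGroup hXT).2 (hiE.1 X (heq.le h1))

/-- Uniqueness. -/
theorem unique (hD : D'.IsSaturated p) (hsub : D'.IsSubsystemOf F)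
    (hh : D'.hyperfocalSubgroup p = E.hyperfocalSubgroup p)
    (hres : ∀ (D₁ : FusionSystem (D'.hyperfocalSubgroup p)) (E₁ : FusionSystem (E.hyperfocalSubgroup p)),
      D'.IsPResidual p D₁ → E.IsPResidual p E₁ → ∀ P : Subgroup Ω, D₁.Hom P = E₁.Hom P) (P : Subgroup Ω) :
    D'.Hom P = h.dSys.Hom P := by
  have hag := h.agree_of_residual hD hh hres
  have hED := h.e_le_of_residual hD hsub hh hag
  exact Set.Subset.antisymm (h.le_d_of_residual hD hsub hh hED hag P) (h.d_le_of_residual hD hsub hh hED P)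

end Setting

end Cfsg.Agent.Lib.FS.ES
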