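import Cfsg.Agent.Lib.FusionSystem.ES.KGen
import Cfsg.Agent.Lib.FusionP3.Prime.PPower
import Cfsg.Agent.Lib.FusionSystem.PPowerExists

/-!
The system over `R` generated by conjugations and the generating automorphisms; its basic invariants.
-/

set_option autoImplicit false
set_option linter.style.haveILetI false
set_option linter.unusedSectionVars false

namespace Cfsg.Agent.Lib.FS.ES

open Cfsg Cfsg.FusionSystem Cfsg.Agent.Lib Cfsg.Agent.Lib.FS
open Cfsg.Agent.Lib.FS.NormalCentralizer (CentricT mem_zpowers_pow)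
open Cfsg.Agent.Lib.FS.CentralLift (Restr congr_apply_map)
open Cfsg.Agent.Lib.FS.Inter (exists_aut exists_restr restr_apply autE_le_autF)

variable {Ω : Type*} [Group Ω] {S T R : Subgroup Ω} {p : ℕ} {F : FusionSystem S} {E : FusionSystem T}

/-- Composites of conjugations by elements of `R` and restrictions of generating automorphisms. -/
inductive PGen (F : FusionSystem S) (E : FusionSystem T) (p : ℕ) (R : Subgroup Ω) :
    ∀ {P : Subgroup Ω}, (P →* Ω) → Prop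
  | conj {P : Subgroup Ω} (φ : P →* Ω) (g : Ω) : g ∈ R → P ≤ R → (∀ x : P, φ x = g * x * g⁻¹) → PGen F E p R φ
  | kgen {P W : Subgroup Ω} (φ : P →* Ω) (a : MulAut W) : InH F T R W → IsKGen F E p W a → (hle : P ≤ W) →
      (∀ x : P, φ x = ((a ⟨x, hle x.2⟩ : W) : Ω)) → PGen F E p R φ
  | comp {P Q : Subgroup Ω} (φ : P →* Ω) (ψ : Q →* Ω) (χ : P →* Ω) : PGen F E p R φ → PGen F E p R ψ →
      (hm : ∀ x, φ x ∈ Q) → (∀ x, χ x = ψ ⟨φ x, hm x⟩) → PGen F E p R χ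

theorem PGen.restrict {P : Subgroup Ω} {φ : P →* Ω} (hg : PGen F E p R φ) :
    ∀ {A : Subgroup Ω} (hA : A ≤ P), PGen F E p R (φ.comp (Subgroup.inclusion hA)) := by
  induction hg with
  | conj φ g hgR hP he => exact fun hA => PGen.conj _ g hgR (hA.trans hP) fun x => he (Subgroup.inclusion hA x)
  | kgen φ a hW ha hle he =>
    exact fun hA => PGen.kgen _ a hW ha (hA.trans hle) fun x => he (Subgroup.inclusion hA x)
  | @comp P Q φ ψ χ _ hgψ hm he ihφ _ =>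
    exact fun hA => PGen.comp _ ψ _ (ihφ hA) hgψ (fun x => hm _) fun x => he (Subgroup.inclusion hA x)

theorem PGen.congr {P : Subgroup Ω} {φ φ' : P →* Ω} (hg : PGen F E p R φ) (he : ∀ x, φ' x = φ x) :
    PGen F E p R φ' := by
  have : φ' = φ := MonoidHom.ext he
  exact this ▸ hg

theorem PGen.mono {R' : Subgroup Ω} (hle : R ≤ R') {P : Subgroup Ω} {φ : P →* Ω} (hg : PGen F E p R φ) :
    PGen F E p R' φ := by
  induction hg with
  | conj φ g hgR hP he => exact PGen.conj φ g (hle hgR) (hP.trans hle) he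
  | kgen φ a hW ha hle' he => exact PGen.kgen φ a ⟨hW.1.trans hle, hW.2⟩ ha hle' he
  | comp φ ψ χ _ _ hm he ihφ ihψ => exact PGen.comp φ ψ χ ihφ ihψ hm he

namespace Setting

variable [Finite S] [hp : Fact p.Prime] (h : Setting F E R p)
include h

theorem pgen_mem {P : Subgroup Ω} {φ : P →* Ω} (hg : PGen F E p R φ) :
    φ ∈ F.Hom P ∧ P ≤ R ∧ ∀ x, φ x ∈ R := by
  induction hg with
  | @conj P φ g hgR hP he =>
    exact ⟨mem_of_conj F (hP.trans h.hRS) (h.hRS hgR) he, hP,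
      fun x => by rw [he]; exact R.mul_mem (R.mul_mem hgR (hP x.2)) (R.inv_mem hgR)⟩
  | @kgen P W φ a hW ha hle he =>
    exact ⟨mem_of_restrict ((mem_autGroup (hW.1.trans h.hRS)).1 ha.1) hle he, hle.trans hW.1,
      fun x => by rw [he]; exact hW.1 (SetLike.coe_mem _)⟩
  | comp φ ψ χ _ _ hm he ihφ ihψ =>
    exact ⟨mem_comp ihφ.1 ihψ.1 hm he, ihφ.2.1, fun x => by rw [he]; exact ihψ.2.2 _⟩

theorem pgen_inv {P : Subgroup Ω} {φ : P →* Ω} (hg : PGen F E p R φ) :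
    ∃ η : φ.range →* Ω, PGen F E p R η ∧ ∀ x : P, η ⟨φ x, x, rfl⟩ = (x : Ω) := by
  induction hg with
  | @conj P φ g hgR hP he =>
    refine ⟨conjHom φ.range g⁻¹, PGen.conj _ g⁻¹ (R.inv_mem hgR) ?_ fun _ => rfl, fun x => ?_⟩
    · rintro _ ⟨x, rfl⟩
      exact (h.pgen_mem (PGen.conj φ g hgR hP he)).2.2 x
    · show g⁻¹ * φ x * g⁻¹⁻¹ = x
      rw [he, inv_inv]; group
  | @kgen P W φ a hW ha hle he =>
    have hsub : φ.range ≤ W := by rintro _ ⟨x, rfl⟩; rw [he]; exact SetLike.coe_mem _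
    refine ⟨W.subtype.comp ((a⁻¹ : MulAut W).toMonoidHom.comp (Subgroup.inclusion hsub)),
      PGen.kgen _ a⁻¹ hW (h.kgen_inv ha) hsub fun _ => rfl, fun x => ?_⟩
    show ((a⁻¹ ⟨φ x, _⟩ : W) : Ω) = x
    rw [show (⟨φ x, hsub ⟨x, rfl⟩⟩ : W) = a ⟨x, hle x.2⟩ from Subtype.ext (he x), MulAut.inv_apply_self]
  | @comp P Q φ ψ χ hgφ hgψ hm he ihφ ihψ =>
    obtain ⟨ηφ, hηφ, hlφ⟩ := ihφ
    obtain ⟨ηψ, hηψ, hlψ⟩ := ihψ
    have hsub : χ.range ≤ ψ.range := by rintro _ ⟨x, rfl⟩; rw [he]; exact ⟨_, rfl⟩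
    have hval : ∀ x : P, ηψ (Subgroup.inclusion hsub ⟨χ x, x, rfl⟩) = φ x := fun x => by
      rw [show Subgroup.inclusion hsub ⟨χ x, x, rfl⟩ = ⟨ψ ⟨φ x, hm x⟩, _, rfl⟩ from Subtype.ext (he x), hlψ]
    have hmem : ∀ z, (ηψ.comp (Subgroup.inclusion hsub)) z ∈ φ.range := by
      rintro ⟨_, x, rfl⟩
      exact ⟨x, (hval x).symm⟩
    refine ⟨ηφ.comp ((ηψ.comp (Subgroup.inclusion hsub)).codRestrict φ.range hmem),
      PGen.comp _ ηφ _ (hηψ.restrict hsub) hηφ hmem fun _ => rfl, fun x => ?_⟩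
    show ηφ _ = _
    rw [show ((ηψ.comp (Subgroup.inclusion hsub)).codRestrict φ.range hmem) ⟨χ x, x, rfl⟩ =
      ⟨φ x, x, rfl⟩ from Subtype.ext (hval x), hlφ]

/-- The generated system. -/
def dSys : FusionSystem R where
  Hom P := {φ | PGen F E p R φ}
  le_of_mem hg := ⟨(h.pgen_mem hg).2.1, (h.pgen_mem hg).2.2⟩
  injective_of_mem hg := F.injective_of_mem (h.pgen_mem hg).1
  conj_mem hP hg := PGen.conj _ _ hg hP fun _ => rfl
  comp_mem hφ hψ hm := PGen.comp _ _ _ hφ hψ hm fun _ => rfl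
  inv_mem hφ := by
    obtain ⟨η, hη, hl⟩ := h.pgen_inv hφ
    exact ⟨η, hη, hl⟩

theorem dsub : h.dSys.IsSubsystemOf F := fun _ _ hg => (h.pgen_mem hg).1

theorem d_inH {W W' : Subgroup Ω} (hW : InH F T R W) (hc : h.dSys.IsConj W W') : InH F T R W' := by
  obtain ⟨φ, hφ, hr⟩ := id hc
  exact h.inH_map hW ⟨φ, h.dsub W hφ, hr⟩ (isConj_le_right hc)

theorem kgen_mem_d {W : Subgroup Ω} (hW : InH F T R W) {a : MulAut W} (ha : IsKGen F E p W a) :
    a ∈ h.dSys.autGroup W :=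
  (mem_autGroup hW.1).2 (PGen.kgen _ a hW ha le_rfl fun _ => rfl)

/-- A map is conjugation by an element of `R` modulo `H₀`, times a map of `E` on the intersection with `T`. -/
theorem pgen_inv_mod (H₀ : Subgroup Ω) (hH₀ : ∀ g ∈ R, ∀ y ∈ H₀, g * y * g⁻¹ ∈ H₀)
    (hbase : ∀ {W : Subgroup Ω}, W ≤ R → ∀ {a : MulAut W}, IsKGen F E p W a →
      ∀ x : W, (x : Ω)⁻¹ * ((a x : W) : Ω) ∈ H₀)
    {P : Subgroup Ω} {φ : P →* Ω} (hg : PGen F E p R φ) :
    ∃ s ∈ R, (∀ x : P, (s * x * s⁻¹)⁻¹ * φ x ∈ H₀) ∧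
      ∃ e ∈ E.Hom (P ⊓ T), ∀ x : ↥(P ⊓ T), φ ⟨x, x.2.1⟩ = s * e x * s⁻¹ := by
  induction hg with
  | @conj P φ g hgR hP he =>
    exact ⟨g, hgR, fun x => by rw [he, inv_mul_cancel]; exact H₀.one_mem,
      _, subtype_mem E inf_le_right, fun x => he _⟩
  | @kgen P W φ a hW ha hle he =>
    obtain ⟨b, hb, hab⟩ := ha.2.2.2
    obtain ⟨e, heE, hee⟩ := exists_restrict ((mem_autGroup inf_le_right).1 hb) (inf_le_inf_right T hle)
    refine ⟨1, R.one_mem, fun x => ?_, e, heE, fun x => ?_⟩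
    · rw [one_mul, inv_one, mul_one, he]; exact hbase hW.1 ha ⟨x, hle x.2⟩
    · rw [one_mul, inv_one, mul_one, he, hee]
      exact hab ⟨x, hle x.2.1, x.2.2⟩
  | @comp P Q φ ψ χ hgφ hgψ hm he ihφ ihψ =>
    obtain ⟨s₁, hs₁, hm₁, e₁, he₁, hee₁⟩ := ihφ
    obtain ⟨s₂, hs₂, hm₂, e₂, he₂, hee₂⟩ := ihψ
    refine ⟨s₂ * s₁, R.mul_mem hs₂ hs₁, fun x => ?_, ?_⟩
    · have h1 := hH₀ s₂ hs₂ _ (hm₁ x)
      have h2 := hm₂ ⟨φ x, hm x⟩
      rw [he]
      convert H₀.mul_mem h1 h2 using 1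
      group
    · have hX : ∀ y ∈ e₁.range, s₁ * y * s₁⁻¹ ∈ Q ⊓ T := by
        rintro _ ⟨x, rfl⟩
        exact ⟨(hee₁ x) ▸ hm _, h.conj_mem_T (h.hRS hs₁) (apply_mem he₁ x)⟩
      obtain ⟨e₂', he₂', hee₂'⟩ := h.conj_homE (h.hRS hs₁) he₂ hX
      obtain ⟨e, heE, hee⟩ := exists_comp he₁ he₂' fun x => ⟨x, rfl⟩
      refine ⟨e, heE, fun x => ?_⟩
      rw [he, hee, hee₂']
      have hy : φ ⟨x, x.2.1⟩ ∈ Q ⊓ T := (hee₁ x).symm ▸ hX _ ⟨x, rfl⟩
      refine (hee₂ ⟨φ ⟨x, x.2.1⟩, hy⟩).trans ?_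
      rw [show (⟨φ ⟨x, x.2.1⟩, hy⟩ : ↥(Q ⊓ T)) = ⟨s₁ * e₁ x * s₁⁻¹, hX _ ⟨x, rfl⟩⟩ from
        Subtype.ext (hee₁ x)]
      group

/-- Elements of order prime to `p` in the automisers of the generated system. -/
theorem coprime_aut_mod (H₀ : Subgroup Ω) (hH₀ : ∀ g ∈ R, ∀ y ∈ H₀, g * y * g⁻¹ ∈ H₀)
    (hbase : ∀ {W : Subgroup Ω}, W ≤ R → ∀ {a : MulAut W}, IsKGen F E p W a →
      ∀ x : W, (x : Ω)⁻¹ * ((a x : W) : Ω) ∈ H₀)
    {P : Subgroup Ω} (hP : P ≤ R) {a : MulAut P} (ha : a ∈ h.dSys.autGroup P) (hord : ¬ p ∣ orderOf a) :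
    (∀ x : P, (x : Ω)⁻¹ * ((a x : P) : Ω) ∈ H₀) ∧ ∃ b ∈ E.autGroup (P ⊓ T), Restr inf_le_left a b := by
  haveI := finite_sub (hP.trans h.hRS)
  have hpow : ∀ i : ℕ, ∀ s ∈ R, (∀ x : P, (s * x * s⁻¹)⁻¹ * ((a x : P) : Ω) ∈ H₀) →
      ∀ x : P, (s ^ i * x * (s ^ i)⁻¹)⁻¹ * (((a ^ i) x : P) : Ω) ∈ H₀ := by
    intro i s hs hm
    induction i with
    | zero => intro x; simp
    | succ i ih =>
      intro x
      have h1 := hH₀ (s ^ i) (R.pow_mem hs i) _ (hm x)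
      have h2 := ih (a x)
      rw [pow_succ a, MulAut.mul_apply, pow_succ s]
      convert H₀.mul_mem h1 h2 using 1
      group
  have hmem := (mem_autGroup hP).1 ha
  obtain ⟨s, hs, hm, e, he, hee⟩ := h.pgen_inv_mod H₀ hH₀ hbase hmem
  obtain ⟨k, hk⟩ := h.pR ⟨s, hs⟩
  have hk' : s ^ p ^ k = 1 := congrArg Subtype.val hk
  set c := a ^ p ^ k with hc
  have hcm : ∀ x : P, (x : Ω)⁻¹ * ((c x : P) : Ω) ∈ H₀ := fun x => by
    have := hpow (p ^ k) s hs hm x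
    rwa [hk', one_mul, inv_one, mul_one] at this
  have hpe : ∀ i : ℕ, ∃ e ∈ E.Hom (P ⊓ T), ∀ x : ↥(P ⊓ T),
      (((a ^ i) ⟨x, x.2.1⟩ : P) : Ω) = s ^ i * e x * (s ^ i)⁻¹ := by
    intro i
    induction i with
    | zero => exact ⟨_, subtype_mem E inf_le_right, fun x => by simp⟩
    | succ i ih =>
      obtain ⟨f, hf, hfe⟩ := ih
      have hX : ∀ y ∈ e.range, s * y * s⁻¹ ∈ P ⊓ T := by
        rintro _ ⟨x, rfl⟩
        exact ⟨(hee x) ▸ SetLike.coe_mem _, h.conj_mem_T (h.hRS hs) (apply_mem he x)⟩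
      obtain ⟨f', hf', hfe'⟩ := h.conj_homE (h.hRS hs) hf hX
      obtain ⟨g, hg, hge⟩ := exists_comp he hf' fun x => ⟨x, rfl⟩
      refine ⟨g, hg, fun x => ?_⟩
      rw [pow_succ a, MulAut.mul_apply, hge, hfe', pow_succ s]
      refine (show _ = (((a ^ i) ⟨s * e x * s⁻¹, (hX _ ⟨x, rfl⟩).1⟩ : P) : Ω) from
        congrArg (fun z => (((a ^ i) z : P) : Ω)) (Subtype.ext (hee x))).trans ?_
      rw [hfe ⟨_, hX _ ⟨x, rfl⟩⟩]
      group
  obtain ⟨f, hf, hfe⟩ := hpe (p ^ k)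
  have hfP : ∀ x, f x ∈ P ⊓ T := fun x => ⟨by
    have := hfe x
    rw [hk', one_mul, inv_one, mul_one] at this
    rw [← this]; exact SetLike.coe_mem _, apply_mem hf x⟩
  haveI := h.finT
  obtain ⟨b, hb, hbe⟩ := exists_aut hf hfP
  have hcb : Restr inf_le_left c b := fun x => by
    rw [hbe]
    have := hfe x
    rwa [hk', one_mul, inv_one, mul_one] at this
  obtain ⟨n, hn⟩ : ∃ n : ℕ, c ^ n = a := by
    have hcop : (p ^ k).Coprime (orderOf a) := Nat.Coprime.pow_left k ((hp.out.coprime_iff_not_dvd).2 hord)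
    obtain ⟨n, hn⟩ := exists_pow_eq_self_of_coprime hcop
    exact ⟨n, hn⟩
  refine ⟨?_, b ^ n, pow_mem hb n, hn ▸ hcb.pow n⟩
  rw [← hn]
  intro x
  clear hn
  induction n generalizing x with
  | zero => simp
  | succ n ih =>
    have h1 := H₀.mul_mem (hcm x) (ih (c x))
    rw [mul_assoc, mul_inv_cancel_left] at h1
    rwa [pow_succ, MulAut.mul_apply]

theorem coprime_aut_kgen {P : Subgroup Ω} (hP : P ≤ R) {a : MulAut P} (ha : a ∈ h.dSys.autGroup P)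
    (hord : ¬ p ∣ orderOf a) : IsKGen F E p P a := by
  obtain ⟨hm, hb⟩ := h.coprime_aut_mod T (fun g hg y hy => h.conj_mem_T (h.hRS hg) hy)
    (fun _ _ ha x => ha.2.2.1 x) hP ha hord
  obtain ⟨φ, hφ, -, he⟩ := exists_hom_of_aut hP ha
  exact ⟨mem_autGroup_of_hom (h.dsub P hφ) fun x => (he x).symm, hord, hm, hb⟩

theorem hypE_conj {g y : Ω} (hg : g ∈ S) (hy : y ∈ E.hyperfocalSubgroup p) :
    g * y * g⁻¹ ∈ E.hyperfocalSubgroup p := by
  refine Subgroup.closure_induction (p := fun y _ => g * y * g⁻¹ ∈ E.hyperfocalSubgroup p) ?_ ?_ ?_ ?_ hy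
  · rintro _ ⟨P, α, x, hP, hα, rfl⟩
    obtain ⟨φ, hφ, hφe⟩ : ∃ φ ∈ F.Hom P, ∀ x : P, φ x = g * x * g⁻¹ :=
      ⟨_, F.conj_mem (hP.trans h.hTS) hg, fun _ => rfl⟩
    have hPT' : φ.range ≤ T := by
      rintro _ ⟨x, rfl⟩
      exact stronglyClosed_apply_mem h.hsc hφ (hP x.2)
    let f : E.autGroup P →* E.autGroup φ.range :=
      ((MulAut.congr (homEquiv hφ rfl)).toMonoidHom.comp (E.autGroup P).subtype).codRestrict _
        fun a => NormalCentralizer.Odd.autE_congr h.hE hP hφ rfl a.2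
    have h1 := FusionP3.Tate.hyperfocal_gen_mem hPT'
      (Transfer.PResidual.map_pResidual_le f ⟨α, hα, rfl⟩) (homEquiv hφ rfl x)
    have he : (((f α).1 (homEquiv hφ rfl x) : φ.range) : Ω) = g * (α.1 x : P) * g⁻¹ :=
      (congr_apply_map hφ rfl α.1 x).trans (hφe _)
    rw [he, homEquiv_coe, hφe] at h1
    convert h1 using 1
    group
  · simp
  · intro a b _ _ ha hb
    convert mul_mem ha hb using 1
    group
  · intro a _ ha
    convert inv_mem ha using 1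
    group

/-- Every map of `E` lies in the generated system. -/
theorem e_le : E.IsSubsystemOf h.dSys := by
  haveI := h.finT
  intro P φ hφ
  refine FusionP3.Induction.hom_induction h.pT h.hEs (M := fun P φ => φ ∈ h.dSys.Hom P) ?_ ?_ ?_ P φ hφ
  · exact fun P Q φ ψ χ _ _ hm he h1 h2 => mem_comp h1 h2 hm he
  · exact fun P Q φ ψ hle _ he h2 => mem_of_restrict h2 hle he
  · intro W hWn hWc _ a ha _
    have hWT := hWn.1
    have hWR : W ≤ R := hWT.trans h.hTR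
    have hWH : InH F T R W :=
      ⟨hWR, by rw [inf_eq_left.2 hWT]; exact NormalCentralizer.Odd.centricT_of_centric h.hE hWc⟩
    refine (mem_autGroup hWR).1 (FusionP3.Prime.PPower.autGroup_le_sup' E
      (fullyAutomized_of_fullyNormalized h.pT h.hEs hWn) (fun b hb hc => ?_)
      ((Inter.autInducedBy_mono h.hTR).trans (autInducedBy_le_autGroup _ hWR)) ha)
    refine h.kgen_mem_d hWH ⟨autE_le_autF h.hsub hWT hb, (hp.out.coprime_iff_not_dvd).1 hc.symm, fun x => ?_, ?_⟩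
    · exact T.mul_mem (T.inv_mem (hWT x.2)) (hWT (b x).2)
    · have key : ∀ U : Subgroup Ω, U = W → ∀ hU : U ≤ W, ∃ b' ∈ E.autGroup U, Restr hU b b' := by
        rintro U rfl hU
        exact ⟨b, hb, fun x => rfl⟩
      exact key _ (inf_eq_left.2 hWT) inf_le_left

theorem hyp_d : h.dSys.hyperfocalSubgroup p = E.hyperfocalSubgroup p := by
  refine le_antisymm ((Subgroup.closure_le _).2 ?_) (PPowerKernel.hyperfocal_mono h.hTR h.e_le)
  rintro _ ⟨P, α, x, hP, hα, rfl⟩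
  refine Subgroup.closure_induction (p := fun (α : h.dSys.autGroup P) _ =>
    ∀ x : P, (x : Ω)⁻¹ * ((α : MulAut P) x : P) ∈ E.hyperfocalSubgroup p) ?_ ?_ ?_ ?_ hα x
  · intro a ha x
    exact (h.coprime_aut_mod _ (fun g hg y hy => h.hypE_conj (h.hRS hg) hy)
      (fun hW a ha x => h.kgen_hyp (hW.trans h.hRS) ha x) hP a.2
      ((hp.out.coprime_iff_not_dvd).1 (by rw [Subgroup.orderOf_coe]; exact Nat.Coprime.symm ha))).1 x
  · intro x; simp
  · intro a b _ _ ha hb x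
    have := Subgroup.mul_mem _ (hb x) (ha ((b : MulAut P) x))
    simpa [mul_assoc] using this
  · intro a _ ha x
    have h1 := Subgroup.inv_mem _ (ha (((a⁻¹ : h.dSys.autGroup P) : MulAut P) x))
    simpa using h1

/-- A saturated system over a subgroup of `T` inside the product lies in `E`. -/
theorem sys_le {R₀ : Subgroup Ω} {C : FusionSystem R₀} (hC : C.IsSaturated p) (hR₀ : R₀ ≤ T)
    (hCD : C.IsSubsystemOf h.dSys) : C.IsSubsystemOf E := by
  haveI := finite_sub (hR₀.trans h.hTS)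
  intro P φ hφ
  refine FusionP3.Induction.hom_induction (isPGroup_of_le h.hS (hR₀.trans h.hTS)) hC
    (M := fun P φ => φ ∈ E.Hom P) ?_ ?_ ?_ P φ hφ
  · exact fun P Q φ ψ χ _ _ hm he h1 h2 => mem_comp h1 h2 hm he
  · exact fun P Q φ ψ hle _ he h2 => mem_of_restrict h2 hle he
  · intro W hWn _ _ a ha _
    have hWT : W ≤ T := hWn.1.trans hR₀
    refine (mem_autGroup hWT).1 (FusionP3.Prime.PPower.autGroup_le_sup' C
      (fullyAutomized_of_fullyNormalized (isPGroup_of_le h.hS (hR₀.trans h.hTS)) hC hWn) (fun b hb hc => ?_)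
      ((Inter.autInducedBy_mono hR₀).trans (autInducedBy_le_autGroup _ hWT)) ha)
    have hbD : b ∈ h.dSys.autGroup W :=
      (mem_autGroup (hWT.trans h.hTR)).2 (hCD W ((mem_autGroup hWn.1).1 hb))
    obtain ⟨b', hb', hr⟩ := (h.coprime_aut_kgen (hWT.trans h.hTR) hbD
      ((hp.out.coprime_iff_not_dvd).1 hc.symm)).2.2.2
    have key : ∀ U : Subgroup Ω, U = W → ∀ hU : U ≤ W, ∀ b' ∈ E.autGroup U, Restr hU b b' →
        b ∈ E.autGroup W := by
      rintro U rfl hU b' hb' hr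
      rwa [show b = b' from MulEquiv.ext fun x => Subtype.ext (hr x)]
    exact key _ (inf_eq_left.2 hWT) inf_le_left b' hb' hr

end Setting

end Cfsg.Agent.Lib.FS.ES
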